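import Cfsg.Agent.H698.Fine

/-!
# `Rep` passes to sections: subgroups modulo central subgroups; many classes from many element orders
-/

set_option autoImplicit false

namespace Cfsg.Agent.H315.FineOrth

universe u v w u'

open Cfsg Cfsg.Agent.H698
open scoped commutatorElement

theorem exists_perfect (Q : Type u) [Group Q] [Finite Q] :
    ∃ D : Subgroup Q, ⁅D, D⁆ = D ∧ ∀ (S : Type v) [Group S] (f : Q →* S), Function.Surjective f → commutator S = ⊤ →
      D.map f = ⊤ := by
  have h : ∃ n, derivedSeries Q (n + 1) = derivedSeries Q n := by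
    by_contra hcon
    push Not at hcon
    have hanti : StrictAnti (fun n => derivedSeries Q n) :=
      strictAnti_nat_of_succ_lt fun n => lt_of_le_of_ne (derivedSeries_antitone Q (Nat.le_succ n)) (hcon n)
    have hinj : Function.Injective (fun n => derivedSeries Q n) := hanti.injective
    exact not_injective_infinite_finite _ hinj
  obtain ⟨n, hn⟩ := h
  refine ⟨derivedSeries Q n, by rw [← derivedSeries_succ, hn], ?_⟩
  intro S _ f hf hS
  rw [map_derivedSeries_eq hf]
  have h1 : ∀ k, derivedSeries S k = ⊤ := by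
    intro k
    induction k with
    | zero => rfl
    | succ k ih => rw [derivedSeries_succ, ih]; exact hS
  exact h1 n

/-- `Rep` passes to `S / Z` for a subgroup `S` (modulo scalars) and a central subgroup `Z` of `S`. -/
theorem rep_sec {p m : ℕ} {T : Type u} [Group T] (h : Rep.{u, w} p m T) {S : Type v} [Group S]
    {S' : Type u'} [Group S'] (f : S →* T) (q : S →* S') (hq : Function.Surjective q)
    (hker : ∀ x, q x = 1 → ∀ y, x * y = y * x) (hf : f.ker ≤ q.ker) (hperf : commutator S' = ⊤) :
    Rep.{u', w} p m S' := by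
  obtain ⟨F, _, _, _, P, _, _, π, ρ, h1, h2, h3, h4, h5⟩ := h
  let Q : Subgroup P := f.range.comap π
  let θ₀ : f.range →* S' := (f.rangeRestrict).liftOfSurjective f.rangeRestrict_surjective
    ⟨q, by rw [MonoidHom.ker_rangeRestrict]; exact hf⟩
  have hθ₀ : ∀ s, θ₀ ⟨f s, ⟨s, rfl⟩⟩ = q s := fun s =>
    MonoidHom.liftOfRightInverse_comp_apply (f.rangeRestrict) _ _ ⟨q, by rw [MonoidHom.ker_rangeRestrict]; exact hf⟩ s
  let θ : Q →* S' := θ₀.comp ((π.comp Q.subtype).codRestrict f.range (fun x => x.2))
  have hθ : ∀ (x : Q) (s : S), f s = π x → θ x = q s := by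
    intro x s hs
    rw [← hθ₀ s]
    exact congrArg θ₀ (Subtype.ext hs.symm)
  have hθs : Function.Surjective θ := by
    intro t
    obtain ⟨s, rfl⟩ := hq t
    obtain ⟨x, hx⟩ := h1 (f s)
    exact ⟨⟨x, ⟨s, hx.symm⟩⟩, hθ _ s hx.symm⟩
  -- elements of the kernel have central commutators
  have hc1 : ∀ x : Q, θ x = 1 → ∀ y : Q, ∀ z : P, ⁅(x : P), (y : P)⁆ * z = z * ⁅(x : P), (y : P)⁆ := by
    intro x hx y z
    obtain ⟨s, hs⟩ := x.2
    obtain ⟨t, ht⟩ := y.2
    have hs1 : q s = 1 := by rw [← hθ x s hs, hx]
    have h6 : ⁅(x : P), (y : P)⁆ ∈ π.ker := by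
      rw [MonoidHom.mem_ker, map_commutatorElement, ← hs, ← ht, ← map_commutatorElement,
        commutatorElement_eq_one_iff_mul_comm.2 (hker s hs1 t), map_one]
    exact ((Subgroup.mem_center_iff.1 (h2 h6)) z).symm
  obtain ⟨D, hD, hDm⟩ := exists_perfect Q
  have hDθ := hDm S' θ hθs hperf
  -- in the perfect group `D` they are central
  have hc2 : ∀ x : D, θ (x : Q) = 1 → ∀ y : D, x * y = y * x := by
    intro x hx y
    -- the homomorphism `y ↦ [x, y]`
    let φ : D →* P :=
      { toFun := fun y => ⁅((x : Q) : P), ((y : Q) : P)⁆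
        map_one' := by simp
        map_mul' := fun a b => by
          change ⁅((x : Q) : P), ((a : Q) : P) * ((b : Q) : P)⁆ = _
          have h7 := hc1 x hx b ((a : Q) : P)
          calc ⁅((x : Q) : P), ((a : Q) : P) * ((b : Q) : P)⁆
              = ⁅((x : Q) : P), ((a : Q) : P)⁆ * (((a : Q) : P) * ⁅((x : Q) : P), ((b : Q) : P)⁆ * ((a : Q) : P)⁻¹) := by
                simp only [commutatorElement_def]; group
            _ = _ := by rw [← h7, mul_assoc, mul_inv_cancel, mul_one] }
    have h8 : ∀ a b : D, φ a * φ b = φ b * φ a := fun a b => hc1 x hx a (φ b)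
    have h9 : commutator D ≤ φ.ker := by
      rw [_root_.commutator_def, Subgroup.commutator_le]
      intro a _ b _
      rw [MonoidHom.mem_ker, map_commutatorElement, commutatorElement_eq_one_iff_mul_comm]
      exact h8 a b
    have h10 : commutator D = ⊤ := by
      apply Subgroup.map_injective D.subtype_injective
      rw [_root_.commutator_def, Subgroup.map_commutator, ← MonoidHom.range_eq_map, Subgroup.range_subtype, hD]
    have h11 : y ∈ φ.ker := h9 (by rw [h10]; exact Subgroup.mem_top y)
    have h12 : ⁅((x : Q) : P), ((y : Q) : P)⁆ = 1 := h11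
    rw [commutatorElement_eq_one_iff_mul_comm] at h12
    exact Subtype.ext (Subtype.ext h12)
  refine ⟨F, inferInstance, inferInstance, inferInstance, D, inferInstance, inferInstance, θ.comp D.subtype,
    (ρ.comp Q.subtype).comp D.subtype, ?_, ?_, ?_, ?_, ?_⟩
  · intro s
    have h6 : s ∈ D.map θ := by rw [hDθ]; trivial
    obtain ⟨d, hd, rfl⟩ := h6
    exact ⟨⟨d, hd⟩, rfl⟩
  · intro x hx
    rw [Subgroup.mem_center_iff]
    intro y
    exact (hc2 x hx y).symm
  · apply Subgroup.map_injective D.subtype_injective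
    rw [_root_.commutator_def, Subgroup.map_commutator, ← MonoidHom.range_eq_map, Subgroup.range_subtype, hD]
  · intro a b hab
    exact Subtype.ext (Subtype.ext (h4 hab))
  · intro h6
    exact h5 ((h6.trans (Subgroup.card_subgroup_dvd_card D)).trans (Subgroup.card_subgroup_dvd_card Q))

/-- Different element orders give different classes. -/
theorem card_le_classes {X : Type u} [Group X] [Finite X] (S : Finset ℕ) (h : ∀ n ∈ S, ∃ x : X, orderOf x = n) :
    S.card ≤ Nat.card (ConjClasses X) := by
  classical
  choose! g hg using h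
  have : Finite (ConjClasses X) := Finite.of_surjective _ ConjClasses.mk_surjective
  have hinj : Function.Injective (fun n : S => ConjClasses.mk (g n)) := by
    intro a b hab
    have h1 : IsConj (g a) (g b) := ConjClasses.mk_eq_mk_iff_isConj.1 hab
    obtain ⟨c, hc⟩ := isConj_iff.1 h1
    apply Subtype.ext
    rw [← hg a a.2, ← hg b b.2, ← hc]
    exact (orderOf_injective (MulAut.conj c).toMonoidHom (MulAut.conj c).injective (g a)).symm
  have h2 := Nat.card_le_card_of_injective _ hinj
  rwa [Nat.card_eq_fintype_card, Fintype.card_coe] at h2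

theorem conj_injective {T : Type u} [Group T] (hc : Subgroup.center T = ⊥) :
    Function.Injective (MulAut.conj : T →* MulAut T) := by
  rw [injective_iff_map_eq_one]
  intro a ha
  have h1 : a ∈ Subgroup.center T := by
    rw [Subgroup.mem_center_iff]
    intro x
    have h2 : a * x * a⁻¹ = x := DFunLike.congr_fun ha x
    calc x * a = (a * x * a⁻¹) * a := by rw [h2]
      _ = a * x := by group
  rwa [hc, Subgroup.mem_bot] at h1

theorem classes_of_orders {T : Type u} [Group T] [Finite T] (hc : Subgroup.center T = ⊥) (S : Finset ℕ)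
    (h : ∀ n ∈ S, ∃ x : T, orderOf x = n) (X : Subgroup (MulAut T)) (hX : (MulAut.conj : T →* MulAut T).range ≤ X) :
    S.card ≤ Nat.card (ConjClasses X) := by
  refine card_le_classes S fun n hn => ?_
  obtain ⟨x, hx⟩ := h n hn
  refine ⟨⟨MulAut.conj x, hX ⟨x, rfl⟩⟩, ?_⟩
  rw [← hx, ← Subgroup.orderOf_coe]
  exact orderOf_injective (MulAut.conj : T →* MulAut T) (conj_injective hc) x

end Cfsg.Agent.H315.FineOrth
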