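import Cfsg.Agent.H315.FineOrth
import Cfsg.Agent.H315.FineSec

/-!
# `Fine` for `PΩ⁻₁₂(2)`: at least twelve classes
-/

set_option autoImplicit false

namespace Cfsg.Agent.H315.FineOrth

universe u v w

open Cfsg Cfsg.Agent.H698 Cfsg.Agent.H912.Bd Cfsg.Agent.H315.FineNum Matrix

abbrev M5 := Matrix (Fin 5) (Fin 5) (ZMod 2)

def a5 : M5 := !![1, 1, 0, 0, 0; 0, 1, 1, 0, 0; 0, 0, 1, 0, 0; 0, 0, 0, 0, 1; 0, 0, 0, 1, 1]
def a5_2 : M5 := !![1, 0, 1, 0, 0; 0, 1, 0, 0, 0; 0, 0, 1, 0, 0; 0, 0, 0, 1, 1; 0, 0, 0, 1, 0]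
def a5_4 : M5 := !![1, 0, 0, 0, 0; 0, 1, 0, 0, 0; 0, 0, 1, 0, 0; 0, 0, 0, 0, 1; 0, 0, 0, 1, 1]
def a5_6 : M5 := !![1, 0, 1, 0, 0; 0, 1, 0, 0, 0; 0, 0, 1, 0, 0; 0, 0, 0, 1, 0; 0, 0, 0, 0, 1]
def c5 : M5 := !![0, 1, 0, 0, 0; 0, 0, 1, 0, 0; 0, 0, 0, 1, 0; 0, 0, 0, 0, 1; 1, 0, 0, 0, 0]

theorem a5_mul : a5 * a5 = a5_2 := by decide +kernel
theorem a5_mul2 : a5_2 * a5_2 = a5_4 := by decide +kernel
theorem a5_mul4 : a5_4 * a5_2 = a5_6 := by decide +kernel
theorem a5_mul6 : a5_6 * a5_6 = 1 := by decide +kernel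
theorem a5_det : a5.det = 1 := by decide +kernel
theorem c5_det : c5.det = 1 := by decide +kernel
theorem c5_a4 : a5_4 * c5 ≠ c5 * a5_4 := by decide +kernel
theorem c5_a6 : a5_6 * c5 ≠ c5 * a5_6 := by decide +kernel

def x5 : SpecialLinearGroup (Fin 5) (ZMod 2) := ⟨a5, a5_det⟩
def y5 : SpecialLinearGroup (Fin 5) (ZMod 2) := ⟨c5, c5_det⟩

theorem x5_pow4 : (x5 ^ 4).1 = a5_4 := by
  rw [show x5 ^ 4 = (x5 * x5) * (x5 * x5) by simp only [pow_succ, pow_zero, one_mul, mul_assoc]]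
  change (a5 * a5) * (a5 * a5) = _
  rw [a5_mul, a5_mul2]

theorem x5_pow6 : (x5 ^ 6).1 = a5_6 := by
  rw [show x5 ^ 6 = ((x5 * x5) * (x5 * x5)) * (x5 * x5) by simp only [pow_succ, pow_zero, one_mul, mul_assoc]]
  change ((a5 * a5) * (a5 * a5)) * (a5 * a5) = _
  rw [a5_mul, a5_mul2, a5_mul4]

theorem x5_pow12 : x5 ^ 12 = 1 := by
  apply Subtype.ext
  rw [show x5 ^ 12 = x5 ^ 6 * x5 ^ 6 by group]
  change (x5 ^ 6).1 * (x5 ^ 6).1 = 1
  rw [x5_pow6, a5_mul6]

/-- The image of `x5` has order `12`. -/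
theorem orderOf_x5 {T : Type v} [Group T] (j : SpecialLinearGroup (Fin 5) (ZMod 2) →* T)
    (hj : j.ker ≤ Subgroup.center _) : orderOf (j x5) = 12 := by
  have h4 : ¬ x5 ^ 4 ∈ Subgroup.center (SpecialLinearGroup (Fin 5) (ZMod 2)) := by
    intro h
    have h1 := congrArg Subtype.val ((Subgroup.mem_center_iff.1 h) y5)
    change c5 * (x5 ^ 4).1 = (x5 ^ 4).1 * c5 at h1
    rw [x5_pow4] at h1
    exact c5_a4 h1.symm
  have h6 : ¬ x5 ^ 6 ∈ Subgroup.center (SpecialLinearGroup (Fin 5) (ZMod 2)) := by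
    intro h
    have h1 := congrArg Subtype.val ((Subgroup.mem_center_iff.1 h) y5)
    change c5 * (x5 ^ 6).1 = (x5 ^ 6).1 * c5 at h1
    rw [x5_pow6] at h1
    exact c5_a6 h1.symm
  refine orderOf_eq_of_pow_and_pow_div_prime (by norm_num) (by rw [← map_pow, x5_pow12, map_one]) ?_
  intro p hp hp12
  have h5 : p ∈ Nat.primeFactors 12 := Nat.mem_primeFactors.2 ⟨hp, hp12, by norm_num⟩
  have h7 : Nat.primeFactors 12 = {2, 3} := by decide +kernel
  rw [h7] at h5
  rw [← map_pow]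
  intro h8
  have h9 := hj (MonoidHom.mem_ker.2 h8)
  simp only [Finset.mem_insert, Finset.mem_singleton] at h5
  rcases h5 with rfl | rfl
  · exact h6 h9
  · exact h4 h9

variable {K : Type} [Field K] [Fintype K]

/-- `PΩ⁻₁₂(2)` -/
theorem fine_minus_six (hq : Fintype.card K = 2) (a b : K)
    (hab : ∀ z₁ z₂ : K, z₁ ^ 2 + a * z₁ * z₂ + b * z₂ ^ 2 = 0 → z₁ = 0 ∧ z₂ = 0)
    (hN : Cop.{0, w} 2 (Cfsg.POmega K (Cfsg.quadFormMinus (6 - 1) K a b))) :
    Fine.{0, w} (Cfsg.POmega K (Cfsg.quadFormMinus (6 - 1) K a b)) := by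
  have : Finite (Cfsg.isometryGroup K (Cfsg.quadFormMinus (6 - 1) K a b)) := inferInstance
  have : Finite (Cfsg.POmega K (Cfsg.quadFormMinus (6 - 1) K a b)) := inferInstance
  obtain ⟨h1, h2, h3⟩ := minus_basic Nat.prime_two le_rfl (by rw [hq, pow_one]) (by norm_num : 4 ≤ 6) a b hab
  have haut := minus_aut_two hq (by norm_num : 4 ≤ 6) a b hab
  have hcard := Cfsg.Agent.S0294.result (F := K) hq 6 (by norm_num) a b hab
  norm_num [Finset.prod_range_succ] at hcard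
  have hK2 : CharP K 2 := by
    obtain ⟨p, f, hp, hf, hc, hpK⟩ := exists_pf (K := K)
    obtain rfl : p = 2 := by
      have h4 : p ∣ 2 := by rw [← hq, hc]; exact dvd_pow_self p (by omega)
      exact (Nat.prime_dvd_prime_iff_eq hp Nat.prime_two).1 h4
    exact hpK
  -- an element of order twelve
  obtain ⟨σ⟩ : Nonempty (ZMod 2 ≃+* K) := by
    have : Fintype.card (ZMod 2) = Fintype.card K := by rw [hq]; rfl
    exact ⟨FiniteField.ringEquivOfCardEq this⟩
  obtain ⟨f, hf⟩ := exists_minus (K := K) (le_refl 5) a b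
  have h12 : ∃ x : Cfsg.POmega K (Cfsg.quadFormMinus (6 - 1) K a b), orderOf x = 12 := by
    refine ⟨(f.comp ((slO (K := K) (m := 5) (by norm_num)).comp (SpecialLinearGroup.map σ.toRingHom))) x5, orderOf_x5 _ ?_⟩
    intro x hx
    have h5 : slO (K := K) (m := 5) (by norm_num) (SpecialLinearGroup.map σ.toRingHom x) ∈ Subgroup.center _ := hf hx
    rw [Subgroup.mem_center_iff] at h5 ⊢
    intro y
    have h6 := h5 (slO (K := K) (m := 5) (by norm_num) (SpecialLinearGroup.map σ.toRingHom y))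
    rw [← map_mul, ← map_mul, ← map_mul, ← map_mul] at h6
    have h7 := slO_injective _ h6
    have hinj : Function.Injective (SpecialLinearGroup.map (n := Fin 5) σ.toRingHom) := by
      intro u v huv
      apply Subtype.ext
      ext i j
      have h8 := congrFun (congrFun (congrArg Subtype.val huv) i) j
      exact σ.injective h8
    exact hinj h7
  obtain ⟨x, hx⟩ := h12
  have hcl := fun X hX => classes_of_orders h1 {1, 2, 3, 4, 5, 6, 7, 11, 12, 13, 17, 31} (by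
    intro n hn
    have hpr : ∀ p : ℕ, p.Prime → p ∣ Nat.card (Cfsg.POmega K (Cfsg.quadFormMinus (6 - 1) K a b)) →
        ∃ x : Cfsg.POmega K (Cfsg.quadFormMinus (6 - 1) K a b), orderOf x = p := by
      intro p hp hd
      have := Fact.mk hp
      exact exists_prime_orderOf_dvd_card' p hd
    have hx4 : orderOf (x ^ 3) = 4 := by
      rw [orderOf_pow, hx]; norm_num
    have hx6 : orderOf (x ^ 2) = 6 := by
      rw [orderOf_pow, hx]; norm_num
    simp only [Finset.mem_insert, Finset.mem_singleton] at hn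
    rcases hn with rfl | rfl | rfl | rfl | rfl | rfl | rfl | rfl | rfl | rfl | rfl | rfl
    · exact ⟨1, orderOf_one⟩
    · exact hpr 2 (by norm_num) (by omega)
    · exact hpr 3 (by norm_num) (by omega)
    · exact ⟨_, hx4⟩
    · exact hpr 5 (by norm_num) (by omega)
    · exact ⟨_, hx6⟩
    · exact hpr 7 (by norm_num) (by omega)
    · exact hpr 11 (by norm_num) (by omega)
    · exact ⟨x, hx⟩
    · exact hpr 13 (by norm_num) (by omega)
    · exact hpr 17 (by norm_num) (by omega)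
    · exact hpr 31 (by norm_num) (by omega)) X hX
  have hS : ({1, 2, 3, 4, 5, 6, 7, 11, 12, 13, 17, 31} : Finset ℕ).card = 12 := rfl
  rw [hS] at hcl
  refine Fine.of_classes (k := 12) hcl fun p m hp h11 hpT hm hR => ?_
  have hm15 : 15 ≤ m := rep_le hp Nat.prime_two h3 hpT hR hN fun F _ hF => by
    have h5 := bd_pomega_minus_sl (m := 5) Nat.prime_two hF hK2 (by norm_num) a b
    rw [hq] at h5
    exact h5.mono (by norm_num)
  have h5 : p ^ 15 ≤ p ^ m := Nat.pow_le_pow_right hp.pos hm15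
  rcases (show p ≤ 23 ∨ 24 ≤ p by omega) with h23 | h24
  · have h6 : p + 1 - 2 * 12 = 0 := by omega
    rw [h6, zero_mul]
    exact Nat.one_lt_pow (by omega) hp.one_lt
  · have hp29 : 29 ≤ p := by
      by_contra hcon
      have : p = 24 ∨ p = 25 ∨ p = 26 ∨ p = 27 ∨ p = 28 := by omega
      rcases this with rfl | rfl | rfl | rfl | rfl <;> exact absurd hp (by norm_num)
    have h6 : 29 ^ 14 ≤ p ^ 14 := Nat.pow_le_pow_left hp29 14
    have h7 : 2 ^ (6 * (2 * 6 - 1) + 1) ≤ p ^ 14 := le_trans (by norm_num) h6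
    calc _ ≤ (p + 1 - 2 * 12) * p ^ 14 + 1 := Nat.add_le_add_right (Nat.mul_le_mul_left _ (haut.trans h7)) 1
      _ < p * p ^ 14 := by
        have h8 : 0 < p ^ 14 := Nat.pow_pos hp.pos
        obtain ⟨c, rfl⟩ : ∃ c, p = c + 29 := ⟨p - 29, by omega⟩
        have h9 : c + 29 + 1 - 2 * 12 = c + 6 := by omega
        rw [h9]
        nlinarith
      _ = p ^ 15 := by ring
      _ ≤ _ := h5

end Cfsg.Agent.H315.FineOrth
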