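import Cfsg.Agent.H315.FineOrth
import Cfsg.Agent.H315.FineSec
import Cfsg.Agent.H175.BdSL
import Cfsg.Agent.S0302
import Cfsg.Agent.S0248

/-!
# `Fine` for `PΩ₇(3)`: through `PSL₄(3)`
-/

set_option autoImplicit false

namespace Cfsg.Agent.H315.FineOrth

universe u v w

open Cfsg Cfsg.Agent.H698 Cfsg.Agent.H912.Bd Cfsg.Agent.H315.FineNum

variable {K : Type} [Field K] [Fintype K]

theorem psl_perfect {n : ℕ} (hn : 3 ≤ n) : commutator (Matrix.ProjectiveSpecialLinearGroup (Fin n) K) = ⊤ := by
  have h1 := Cfsg.Agent.S0248.result (F := K) n hn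
  have h2 : (commutator (Matrix.SpecialLinearGroup (Fin n) K)).map
      (QuotientGroup.mk' (Subgroup.center (Matrix.SpecialLinearGroup (Fin n) K))) = ⊤ := by
    rw [h1, ← MonoidHom.range_eq_map, MonoidHom.range_eq_top]
    exact QuotientGroup.mk'_surjective _
  rw [_root_.commutator_def, Subgroup.map_commutator, ← MonoidHom.range_eq_map,
    MonoidHom.range_eq_top.2 (QuotientGroup.mk'_surjective _)] at h2
  rw [_root_.commutator_def]
  exact h2

/-- `PΩ₇(3)` -/
theorem fine_odd_three (hK : Fintype.card K = 3)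
    (hN : Cop.{0, w} 3 (Matrix.ProjectiveSpecialLinearGroup (Fin 4) K)) :
    Fine.{0, w} (Cfsg.POmega K (Cfsg.quadFormOdd 3 K)) := by
  obtain ⟨p, f, hp, hf, hq, hpK⟩ := exists_pf (K := K)
  obtain rfl : p = 3 := by
    have h4 : p ∣ 3 := by rw [← hK, hq]; exact dvd_pow_self p (by omega)
    exact (Nat.prime_dvd_prime_iff_eq hp Nat.prime_three).1 h4
  obtain rfl : f = 1 := by
    rw [hK] at hq
    exact (Nat.pow_right_injective (le_refl 3 |>.trans' (by norm_num)) (by simpa using hq)).symm
  have := Fact.mk hp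
  have : Finite (Cfsg.isometryGroup K (Cfsg.quadFormOdd 3 K)) := inferInstance
  have : Finite (Cfsg.POmega K (Cfsg.quadFormOdd 3 K)) := inferInstance
  have ho : Odd (Fintype.card K) := by rw [hK]; decide
  have hs : IsSimpleGroup (Cfsg.POmega K (Cfsg.quadFormOdd 3 K)) := Cfsg.Agent.S0295.result ho 3 le_rfl
  have hcard := Cfsg.Agent.S0292.result (F := K) hK (by decide) 3 le_rfl
  norm_num [Finset.prod_range_succ] at hcard
  have haut := Cfsg.Agent.S0816.result (F := K) 3 1 le_rfl hq (by decide) 3 le_rfl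
  have h3 : 3 ∣ Nat.card (Cfsg.POmega K (Cfsg.quadFormOdd 3 K)) := by omega
  have hc := center_eq_bot (not_comm (T := Cfsg.POmega K (Cfsg.quadFormOdd 3 K)) Nat.prime_three h3 (by omega))
  refine Fine.of_eleven (d := 10) hc (by omega) (fun p m hp h11 hpT hm hR => ?_) ?_
  · obtain ⟨j, hj⟩ := exists_odd (K := K) (le_refl 3)
    obtain ⟨e⟩ := Cfsg.Agent.S0302.result (F := K)
    have hker : (e.toMonoidHom.comp (QuotientGroup.mk' (Subgroup.center (Cfsg.Omega K (Cfsg.quadFormPlus 3 K))))).ker
        = Subgroup.center (Cfsg.Omega K (Cfsg.quadFormPlus 3 K)) := by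
      ext x
      rw [MonoidHom.mem_ker, MonoidHom.comp_apply]
      change e _ = 1 ↔ _
      rw [map_eq_one_iff _ e.injective, QuotientGroup.mk'_apply, QuotientGroup.eq_one_iff]
    have hR' : Rep.{0, w} p m (Matrix.ProjectiveSpecialLinearGroup (Fin 4) K) :=
      rep_sec hR j (e.toMonoidHom.comp (QuotientGroup.mk' (Subgroup.center (Cfsg.Omega K (Cfsg.quadFormPlus 3 K)))))
        (e.surjective.comp (QuotientGroup.mk'_surjective _)) (by
          intro x hx y
          have h1 : x ∈ Subgroup.center (Cfsg.Omega K (Cfsg.quadFormPlus 3 K)) := by rw [← hker]; exact hx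
          exact ((Subgroup.mem_center_iff.1 h1) y).symm) (by rw [hker]; exact hj) (psl_perfect (by norm_num))
    have h26 : 26 ≤ m := rep_le' hp Nat.prime_three (by omega) hR' hN fun F _ hF => by
      have h7 := Cfsg.Agent.H175.BdSL.bd_psl (F := F) (K := K) (r := 3) (q := 3) Nat.prime_three hK (m := 4)
        (by norm_num) (by exact_mod_cast hF) (MulEquiv.refl (Matrix.ProjectiveSpecialLinearGroup (Fin 4) K))
      exact h7.mono (by norm_num)
    omega
  · rw [haut]
    norm_num
    omega

end Cfsg.Agent.H315.FineOrth
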