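import Cfsg.Agent.H912.BdHom

/-!
# The bound `8` from `5² : Q₈`
-/

set_option autoImplicit false

namespace Cfsg.Agent.H315.FineOrth

universe u v w

open Cfsg.Agent.H912.Bd

section

variable {X : Type w} [Group X]

theorem pow_mod_five {x : X} (hx : x ^ 5 = 1) (n : ℕ) : x ^ (n % 5) = x ^ n := by
  conv_rhs => rw [← Nat.div_add_mod n 5, pow_add, pow_mul, hx, one_pow, one_mul]

theorem pow_val_add {x : X} (hx : x ^ 5 = 1) (a b : ZMod 5) : x ^ (a + b).val = x ^ a.val * x ^ b.val := by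
  rw [ZMod.val_add, pow_mod_five hx, pow_add]

theorem pow_val_mul {x : X} (hx : x ^ 5 = 1) (k : ℕ) (a : ZMod 5) : x ^ ((k : ZMod 5) * a).val = x ^ (k * a.val) := by
  rw [ZMod.val_mul, ZMod.val_natCast, pow_mod_five hx, pow_mul, pow_mul, pow_mod_five hx]

/-- the homomorphism `(a, b) ↦ e₁ᵃ e₂ᵇ` -/
def gHom {e₁ e₂ : X} (h1 : e₁ ^ 5 = 1) (h2 : e₂ ^ 5 = 1) (h12 : Commute e₁ e₂) :
    Multiplicative (ZMod 5 × ZMod 5) →* X where
  toFun x := e₁ ^ (Multiplicative.toAdd x).1.val * e₂ ^ (Multiplicative.toAdd x).2.val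
  map_one' := by simp
  map_mul' x y := by
    rw [toAdd_mul, Prod.fst_add, Prod.snd_add, pow_val_add h1, pow_val_add h2]
    have h3 : Commute (e₁ ^ (Multiplicative.toAdd y).1.val) (e₂ ^ (Multiplicative.toAdd x).2.val) :=
      (h12.pow_left _).pow_right _
    rw [mul_assoc, mul_assoc, ← mul_assoc (e₁ ^ (Multiplicative.toAdd y).1.val), h3.eq, mul_assoc]

/-- the action of the elements of `Q₈` -/
def act (s : Fin 2 × Fin 4) (x : ZMod 5 × ZMod 5) : ZMod 5 × ZMod 5 :=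
  let y : ZMod 5 × ZMod 5 := if s.1 = 0 then x else (4 * x.2, x.1)
  (2 ^ (s.2 : ℕ) * y.1, 3 ^ (s.2 : ℕ) * y.2)

theorem exists_natCast_mul : ∀ a : ZMod 5, a ≠ 0 → ∃ k : Fin 5, (((k : ℕ) : ZMod 5)) * a = 1 := by decide +kernel

theorem act_free : ∀ s t : Fin 2 × Fin 4, s ≠ t → ∀ x : ZMod 5 × ZMod 5, act s x = act t x → x = 0 := by
  decide +kernel

/-- **`5² : Q₈`**: bound `8`. -/
theorem bd_eight {F : Type u} [Field F] (h5 : ((5 : ℕ) : F) ≠ 0) {T : Type v} [Group T] (f : X →* T)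
    (hf : f.ker ≤ Subgroup.center X) {e₁ e₂ i j : X} (h1 : e₁ ^ 5 = 1) (h2 : e₂ ^ 5 = 1) (h12 : e₁ * e₂ = e₂ * e₁)
    (hi1 : i * e₁ * i⁻¹ = e₁ ^ 2) (hi2 : i * e₂ * i⁻¹ = e₂ ^ 3) (hj1 : j * e₁ * j⁻¹ = e₂)
    (hj2 : j * e₂ * j⁻¹ = e₁ ^ 4) (hne : ∀ c : Fin 5, e₁ ≠ e₂ ^ (c : ℕ)) : Bd F 5 8 T := by
  classical
  have hc12 : Commute e₁ e₂ := h12
  let g := gHom h1 h2 hc12
  have hg : ∀ x : ZMod 5 × ZMod 5, g (Multiplicative.ofAdd x) = e₁ ^ x.1.val * e₂ ^ x.2.val := fun x => rfl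
  -- injectivity
  have hcop : ∀ a : ZMod 5, a ≠ 0 → ∃ k : ℕ, (k : ZMod 5) * a = 1 := fun a ha =>
    (exists_natCast_mul a ha).elim fun k hk => ⟨k, hk⟩
  have he2 : e₂ ≠ 1 := by
    rintro rfl
    have h6 := hj1
    rw [mul_inv_eq_iff_eq_mul, one_mul, mul_eq_left] at h6
    exact hne 0 (by rw [h6]; simp)
  have hinj : Function.Injective g := by
    rw [injective_iff_map_eq_one]
    intro x hx
    obtain ⟨⟨a, b⟩, rfl⟩ : ∃ y : ZMod 5 × ZMod 5, Multiplicative.ofAdd y = x := ⟨Multiplicative.toAdd x, rfl⟩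
    rw [hg] at hx
    have ha : a = 0 := by
      by_contra ha
      obtain ⟨k, hk⟩ := hcop a ha
      have h6 : g (Multiplicative.ofAdd ((1 : ZMod 5), (k : ZMod 5) * b)) = 1 := by
        have h7 : g (Multiplicative.ofAdd ((k : ZMod 5) * a, (k : ZMod 5) * b)) = (e₁ ^ a.val * e₂ ^ b.val) ^ k := by
          rw [hg, pow_val_mul h1, pow_val_mul h2, ((hc12.pow_left _).pow_right _).mul_pow, ← pow_mul, ← pow_mul,
            mul_comm k, mul_comm k]
        rw [← hk, h7, hx, one_pow]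
      rw [hg] at h6
      change e₁ ^ (1 : ZMod 5).val * e₂ ^ ((k : ZMod 5) * b).val = 1 at h6
      rw [show (1 : ZMod 5).val = 1 from rfl, pow_one, mul_eq_one_iff_eq_inv] at h6
      -- `e₁ = e₂ ^ c`
      have h8 : (e₂ ^ ((k : ZMod 5) * b).val)⁻¹ = e₂ ^ (-((k : ZMod 5) * b)).val := by
        rw [inv_eq_iff_mul_eq_one, ← pow_val_add h2, add_neg_cancel, ZMod.val_zero, pow_zero]
      rw [h8] at h6
      exact hne ⟨(-((k : ZMod 5) * b)).val, ZMod.val_lt _⟩ h6
    subst ha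
    have hb : b = 0 := by
      by_contra hb
      obtain ⟨k, hk⟩ := hcop b hb
      rw [ZMod.val_zero, pow_zero, one_mul] at hx
      apply he2
      have h6 : e₂ ^ ((k : ZMod 5) * b).val = 1 := by rw [pow_val_mul h2, mul_comm, pow_mul, hx, one_pow]
      rwa [hk, show (1 : ZMod 5).val = 1 from rfl, pow_one] at h6
    subst hb
    rfl
  -- the action
  let el : Fin 2 × Fin 4 → X := fun s => i ^ (s.2 : ℕ) * (if s.1 = 0 then 1 else j)
  have hconj_pow : ∀ (y x : X) (n : ℕ), y * x ^ n * y⁻¹ = (y * x * y⁻¹) ^ n := fun y x n => conj_pow.symm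
  have hi : ∀ x : ZMod 5 × ZMod 5, i * g (Multiplicative.ofAdd x) * i⁻¹ = g (Multiplicative.ofAdd (2 * x.1, 3 * x.2)) := by
    intro x
    rw [hg, hg]
    have h6 : i * (e₁ ^ x.1.val * e₂ ^ x.2.val) * i⁻¹ = (i * e₁ ^ x.1.val * i⁻¹) * (i * e₂ ^ x.2.val * i⁻¹) := by group
    rw [h6, hconj_pow, hconj_pow, hi1, hi2, ← pow_mul, ← pow_mul]
    have h7 := pow_val_mul h1 2 x.1
    have h8 := pow_val_mul h2 3 x.2
    rw [← h7, ← h8]
    rfl
  have hj : ∀ x : ZMod 5 × ZMod 5, j * g (Multiplicative.ofAdd x) * j⁻¹ = g (Multiplicative.ofAdd (4 * x.2, x.1)) := by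
    intro x
    rw [hg, hg]
    have h6 : j * (e₁ ^ x.1.val * e₂ ^ x.2.val) * j⁻¹ = (j * e₁ ^ x.1.val * j⁻¹) * (j * e₂ ^ x.2.val * j⁻¹) := by group
    rw [h6, hconj_pow, hconj_pow, hj1, hj2, ← pow_mul]
    have h7 := pow_val_mul h1 4 x.2
    rw [← h7]
    exact ((hc12.symm.pow_left _).pow_right _).eq
  have hipow : ∀ (n : ℕ) (x : ZMod 5 × ZMod 5),
      i ^ n * g (Multiplicative.ofAdd x) * (i ^ n)⁻¹ = g (Multiplicative.ofAdd (2 ^ n * x.1, 3 ^ n * x.2)) := by
    intro n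
    induction n with
    | zero => intro x; simp
    | succ n ih =>
      intro x
      have h6 : i ^ (n + 1) * g (Multiplicative.ofAdd x) * (i ^ (n + 1))⁻¹
          = i * (i ^ n * g (Multiplicative.ofAdd x) * (i ^ n)⁻¹) * i⁻¹ := by rw [pow_succ']; group
      rw [h6, ih, hi]
      congr 2
      rw [pow_succ', pow_succ']
      simp only [mul_assoc]
  have hel : ∀ (s : Fin 2 × Fin 4) (x : ZMod 5 × ZMod 5),
      el s * g (Multiplicative.ofAdd x) * (el s)⁻¹ = g (Multiplicative.ofAdd (act s x)) := by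
    rintro ⟨s, n⟩ x
    by_cases hs : s = 0
    · subst hs
      change i ^ (n : ℕ) * (if (0 : Fin 2) = 0 then 1 else j) * g (Multiplicative.ofAdd x) * _ = _
      have h6 : el (0, n) = i ^ (n : ℕ) := by simp [el]
      have h7 : act (0, n) x = (2 ^ (n : ℕ) * x.1, 3 ^ (n : ℕ) * x.2) := by simp [act]
      rw [h6, h7, if_pos rfl, mul_one, hipow]
    · have h6 : el (s, n) = i ^ (n : ℕ) * j := by simp [el, hs]
      have h7 : act (s, n) x = (2 ^ (n : ℕ) * (4 * x.2), 3 ^ (n : ℕ) * x.1) := by simp [act, hs]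
      rw [h6, h7]
      have h8 : i ^ (n : ℕ) * j * g (Multiplicative.ofAdd x) * (i ^ (n : ℕ) * j)⁻¹
          = i ^ (n : ℕ) * (j * g (Multiplicative.ofAdd x) * j⁻¹) * (i ^ (n : ℕ))⁻¹ := by group
      rw [h8, hj, hipow]
  have helinj : Function.Injective el := by
    intro s t hst
    by_contra hne'
    have h6 := hel s (1, 0)
    have h7 := hel t (1, 0)
    rw [hst, h7] at h6
    have h8 := act_free t s (Ne.symm hne') (1, 0) (Multiplicative.ofAdd.injective (hinj h6))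
    exact absurd h8 (by decide)
  have hcard : (Finset.univ.image el).card = 8 := by
    rw [Finset.card_image_of_injective _ helinj]
    rfl
  have : Finite g.range := (MonoidHom.ofInjective hinj).toEquiv.finite_iff.1 inferInstance
  have key := bd_of_free_hom (F := F) (r := 5) (by norm_num) h5 f hf g.range
    (by
      rintro _ ⟨x, rfl⟩ _ ⟨y, rfl⟩
      rw [← map_mul, ← map_mul, mul_comm])
    (by
      rintro ⟨_, x, rfl⟩
      refine ⟨1, Subtype.ext ?_⟩
      change g x ^ 5 ^ 1 = 1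
      rw [← map_pow]
      have h6 : ∀ y : ZMod 5 × ZMod 5, 5 • y = 0 := by decide +kernel
      have h7 : x ^ 5 ^ 1 = 1 := h6 (Multiplicative.toAdd x)
      rw [h7, map_one])
    (by
      intro h0
      have h6 : g (Multiplicative.ofAdd (1, 0)) ∈ g.range := ⟨_, rfl⟩
      rw [h0, Subgroup.mem_bot, ← map_one g] at h6
      exact absurd (hinj h6) (by decide))
    (Finset.univ.image el) (by rw [hcard]; norm_num)
    (by
      intro s hs e he
      obtain ⟨s, -, rfl⟩ := Finset.mem_image.1 hs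
      obtain ⟨x, rfl⟩ := he
      exact ⟨_, (hel s (Multiplicative.toAdd x)).symm⟩)
    (by
      intro s hs t ht hst e he h
      obtain ⟨s, -, rfl⟩ := Finset.mem_image.1 hs
      obtain ⟨t, -, rfl⟩ := Finset.mem_image.1 ht
      obtain ⟨x, rfl⟩ := he
      have h6 := hel s (Multiplicative.toAdd x)
      have h7 := hel t (Multiplicative.toAdd x)
      rw [ofAdd_toAdd] at h6 h7
      rw [h6, h7] at h
      have h8 := act_free s t (fun h => hst (by rw [h])) _ (Multiplicative.ofAdd.injective (hinj h))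
      have h9 : x = 1 := congrArg Multiplicative.ofAdd h8
      rw [h9, map_one])
  rwa [hcard] at key

end

end Cfsg.Agent.H315.FineOrth
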