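import Mathlib

/-!
# Numerical inequalities for the orthogonal groups (orders against powers of eleven)
-/

set_option autoImplicit false

namespace Cfsg.Agent.H315.FineNum

theorem pow_le_eleven {q N D : ℕ} (hq : 1 ≤ q) (h : 3 * N * (q - 1) ≤ 10 * D) : q ^ N ≤ 11 ^ D := by
  have h1 : q ≤ 2 ^ (q - 1) := by
    have := Nat.lt_two_pow_self (n := q - 1)
    omega
  have h2 : q ^ N ≤ 2 ^ (N * (q - 1)) := by
    calc q ^ N ≤ (2 ^ (q - 1)) ^ N := Nat.pow_le_pow_left h1 N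
      _ = 2 ^ (N * (q - 1)) := by rw [← pow_mul, mul_comm]
  refine h2.trans ?_
  have h3 : (2 ^ (N * (q - 1))) ^ 10 ≤ (11 ^ D) ^ 10 := by
    calc (2 ^ (N * (q - 1))) ^ 10 = (2 ^ 10) ^ (N * (q - 1)) := by rw [← pow_mul, ← pow_mul, mul_comm]
      _ ≤ (11 ^ 3) ^ (N * (q - 1)) := Nat.pow_le_pow_left (by norm_num) _
      _ = 11 ^ (3 * N * (q - 1)) := by rw [← pow_mul, mul_assoc]
      _ ≤ 11 ^ (10 * D) := Nat.pow_le_pow_right (by norm_num) h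
      _ = (11 ^ D) ^ 10 := by rw [← pow_mul, mul_comm]
  exact (Nat.pow_le_pow_iff_left (by norm_num)).1 h3

/-- products of `q ^ (2 (i + 1)) - 1` -/
theorem prod_le (q k : ℕ) : ∏ i ∈ Finset.range k, (q ^ (2 * (i + 1)) - 1) ≤ q ^ (k * (k + 1)) := by
  induction k with
  | zero => simp
  | succ k ih =>
    rw [Finset.prod_range_succ]
    calc _ ≤ q ^ (k * (k + 1)) * q ^ (2 * (k + 1)) := Nat.mul_le_mul ih (Nat.sub_le _ _)
      _ = q ^ ((k + 1) * (k + 1 + 1)) := by rw [← pow_add]; congr 1; ring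

theorem prod_le' (q k : ℕ) : (∏ i ∈ Finset.range (k + 1), (q ^ (2 * (i + 1)) - 1)) * q ^ 2
    ≤ q ^ ((k + 1) * (k + 2)) * (q ^ 2 - 1) := by
  induction k with
  | zero => simp [mul_comm]
  | succ k ih =>
    rw [Finset.prod_range_succ]
    calc _ = ((∏ i ∈ Finset.range (k + 1), (q ^ (2 * (i + 1)) - 1)) * q ^ 2) * (q ^ (2 * (k + 1 + 1)) - 1) := by ring
      _ ≤ (q ^ ((k + 1) * (k + 2)) * (q ^ 2 - 1)) * q ^ (2 * (k + 1 + 1)) := Nat.mul_le_mul ih (Nat.sub_le _ _)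
      _ = q ^ ((k + 1) * (k + 2)) * q ^ (2 * (k + 1 + 1)) * (q ^ 2 - 1) := by ring
      _ = _ := by rw [← pow_add]; congr 2; ring

/-- `(q ^ m + 1) ∏_{i < m - 1} (q ^ (2 (i + 1)) - 1) ≤ q ^ (m * m)` -/
theorem prod_minus_le {q m : ℕ} (hq : 1 ≤ q) (hm : 2 ≤ m) :
    (q ^ m + 1) * ∏ i ∈ Finset.range (m - 1), (q ^ (2 * (i + 1)) - 1) ≤ q ^ (m * m) := by
  obtain ⟨k, rfl⟩ : ∃ k, m = k + 2 := ⟨m - 2, by omega⟩
  have h1 := prod_le' q k
  have h2 : k + 2 - 1 = k + 1 := rfl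
  rw [h2]
  set A := ∏ i ∈ Finset.range (k + 1), (q ^ (2 * (i + 1)) - 1) with hA
  have hq2 : 0 < q ^ 2 := by positivity
  refine Nat.le_of_mul_le_mul_right ?_ hq2
  calc (q ^ (k + 2) + 1) * A * q ^ 2 = (q ^ (k + 2) + 1) * (A * q ^ 2) := by ring
    _ ≤ (q ^ (k + 2) + 1) * (q ^ ((k + 1) * (k + 2)) * (q ^ 2 - 1)) := Nat.mul_le_mul_left _ h1
    _ = q ^ ((k + 1) * (k + 2)) * ((q ^ (k + 2) + 1) * (q ^ 2 - 1)) := by ring
    _ ≤ q ^ ((k + 1) * (k + 2)) * (q ^ (k + 2) * q ^ 2) := by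
        refine Nat.mul_le_mul_left _ ?_
        have h3 : q ^ 2 ≤ q ^ (k + 2) := Nat.pow_le_pow_right hq (by omega)
        obtain ⟨b, hb⟩ : ∃ b, q ^ 2 = b + 1 := ⟨q ^ 2 - 1, by omega⟩
        rw [hb] at h3 ⊢
        rw [Nat.add_sub_cancel]
        nlinarith
    _ = q ^ ((k + 2) * (k + 2)) * q ^ 2 := by rw [← pow_add, ← pow_add, ← pow_add]; congr 1; ring

theorem four_mul_le {f p q : ℕ} (hp : 2 ≤ p) (hf : 1 ≤ f) (hq : q = p ^ f) : 2 * f ≤ q := by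
  rw [hq]
  calc 2 * f ≤ 2 ^ f := by
        obtain ⟨k, rfl⟩ : ∃ k, f = k + 1 := ⟨f - 1, by omega⟩
        have := Nat.lt_two_pow_self (n := k)
        rw [pow_succ]
        omega
    _ ≤ p ^ f := Nat.pow_le_pow_left hp f


theorem big {q m : ℕ} (hq : 3 ≤ q) (hm : 5 ≤ m) :
    3 * ((m + 1) * (2 * m + 1) + 3) * (q - 1) + 20 ≤ 10 * q ^ (m - 1) := by
  obtain ⟨b, rfl⟩ : ∃ b, q = b + 3 := ⟨q - 3, by omega⟩
  have hb : b + 3 - 1 = b + 2 := rfl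
  rw [hb]
  induction m, hm using Nat.le_induction with
  | base =>
    norm_num
    nlinarith [sq_nonneg b, sq_nonneg (b ^ 2)]
  | succ m hm ih =>
    have h1 : (b + 3) ^ (m + 1 - 1) = (b + 3) ^ (m - 1) * (b + 3) := by
      rw [← pow_succ]; congr 1; omega
    rw [h1]
    set X := (b + 3) ^ (m - 1) with hX
    have h2 : 3 * ((m + 1 + 1) * (2 * (m + 1) + 1) + 3) * (b + 2) + 20 ≤
        3 * (3 * ((m + 1) * (2 * m + 1) + 3) * (b + 2) + 20) := by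
      have h3 : (m + 1 + 1) * (2 * (m + 1) + 1) + 3 ≤ 3 * ((m + 1) * (2 * m + 1) + 3) := by nlinarith
      have h4 := Nat.mul_le_mul_right (b + 2) (Nat.mul_le_mul_left 3 h3)
      calc _ ≤ 3 * (3 * ((m + 1) * (2 * m + 1) + 3)) * (b + 2) + 20 := Nat.add_le_add_right h4 20
        _ ≤ _ := by
          generalize (m + 1) * (2 * m + 1) + 3 = Y
          have : 3 * (3 * Y) * (b + 2) = 3 * (3 * Y * (b + 2)) := by ring
          omega
    calc _ ≤ _ := h2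
      _ ≤ 3 * (10 * X) := Nat.mul_le_mul_left _ ih
      _ ≤ 10 * (X * (b + 3)) := by nlinarith

theorem big_two {m : ℕ} (hm : 6 ≤ m) : 3 * ((m + 1) * (2 * m + 1) + 3) + 20 ≤ 10 * 2 ^ (m - 1) := by
  induction m, hm using Nat.le_induction with
  | base => norm_num
  | succ m hm ih =>
    have h1 : 2 ^ (m + 1 - 1) = 2 ^ (m - 1) * 2 := by
      rw [← pow_succ]; congr 1; omega
    rw [h1]
    nlinarith

theorem odd_four {q : ℕ} (hq : 3 ≤ q) : 111 * (q - 1) + 20 ≤ 10 * q ^ 3 := by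
  obtain ⟨b, rfl⟩ : ∃ b, q = b + 3 := ⟨q - 3, by omega⟩
  have hb : b + 3 - 1 = b + 2 := rfl
  rw [hb]
  nlinarith [sq_nonneg b, Nat.zero_le (b ^ 3), Nat.zero_le (b ^ 2)]

theorem minus_five {q : ℕ} (hq : 4 ≤ q) : 144 * (q - 1) + 20 ≤ 10 * q ^ 3 := by
  obtain ⟨b, rfl⟩ : ∃ b, q = b + 4 := ⟨q - 4, by omega⟩
  have hb : b + 4 - 1 = b + 3 := rfl
  rw [hb]
  nlinarith [sq_nonneg b, Nat.zero_le (b ^ 3), Nat.zero_le (b ^ 2)]

end Cfsg.Agent.H315.FineNum
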