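import Cfsg.Agent.H315.PwTool
import Cfsg.Agent.H845.HNNineteen
import Cfsg.Agent.H513.HNSeven
import Cfsg.Agent.H163.PG.HN
import Cfsg.Agent.H502.TO.Gen

/-!
# Products of `p`-elements in the Harada–Norton group (helper315, for S2454)

* `pw_hn` : `PW p 70` for the Harada–Norton group and every prime divisor `p` of its order.

An element of order 19 has centralizer of order 19 and `|N : C| = 9`, one of order 11 has centralizer of order 22 and
`|N : C| = 10`; the product of two 7-cycles of `Alt(12)` can be an 11-cycle.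
-/

set_option autoImplicit false
set_option maxRecDepth 100000

namespace Cfsg.Agent.H315.PwHN

open Subgroup Cfsg Cfsg.Agent
open Cfsg.Agent.H514.DP Cfsg.Agent.H773.Pw Cfsg.Agent.H315.PwTool
open Cfsg.Agent.HN.NormalH (ψ H)
open Cfsg.Agent.HN.H0Basic (τ)
open Cfsg.Agent.CpAutHN.Alt (Φ Φ_inj A12)

instance simple : IsSimpleGroup Spor.HN := Cfsg.Agent.S1701.result.1

instance fin : Finite Spor.HN := Cfsg.Agent.H845.HNNineteen.finite_HN

theorem card_HN : Nat.card Spor.HN = 273030912000000 := Cfsg.Agent.KFacts.HN.Classes.card_HN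

theorem notComm : ¬ ∀ a b : Spor.HN, a * b = b * a :=
  H253.TC.not_comm_of_card card_HN (by norm_num) (p := 19) (by norm_num) (by norm_num) (by norm_num)

theorem deg : MinDeg Spor.HN 10 :=
  minDeg_of_prime card_HN (by norm_num) (l := 19) (by norm_num) (by norm_num) (by norm_num) (by norm_num) (by norm_num)
    (by norm_num) (by norm_num)

theorem card_nineteen {y : Spor.HN} (hy : orderOf y = 19) : Nat.card (centralizer ({y} : Set Spor.HN)) = 19 := by
  obtain ⟨x, hx, hc⟩ := Cfsg.Agent.H845.HNNineteen.hn_nineteen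
  rw [H502.TO.card_cent_eq (by norm_num) (by rw [card_HN]; norm_num) hx hy, hc]

theorem card_eleven {y : Spor.HN} (hy : orderOf y = 11) : Nat.card (centralizer ({y} : Set Spor.HN)) = 22 := by
  have f11 : Fact (Nat.Prime 11) := ⟨by norm_num⟩
  obtain ⟨g, hg⟩ := Cfsg.Agent.H163.PG.HNR.exists_conj hy (by norm_num)
  have hx : orderOf (g⁻¹ * y * g) = 11 := by rw [Cfsg.Agent.H163.PG.HNR.orderOf_conj', hy]
  rw [H502.TO.card_cent_eq (by norm_num) (by rw [card_HN]; norm_num) hx hy]
  set x := g⁻¹ * y * g with hxd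
  have hcomm : ∀ z ∈ H, ψ τ * z = z * ψ τ := by
    intro z hz
    rw [← Cfsg.Agent.HN.NormalH.range_ψ] at hz
    obtain ⟨u, rfl⟩ := hz
    exact Cfsg.Agent.H513.HNSeven.ψτ_comm u
  have h1 := Cfsg.Agent.H513.HNSeven.inf_eleven hx Cfsg.Agent.H513.HNSeven.order_ψτ (hcomm x hg)
  rw [← h1]
  congr 2
  refine le_antisymm (le_inf le_rfl ?_) inf_le_left
  intro z hz
  have hz' := mem_centralizer_singleton_iff.1 hz
  have h2 := Cfsg.Agent.H163.PG.HNR.mem_H_of_comm hg hx hz'.symm
  exact mem_centralizer_singleton_iff.2 (hcomm z h2).symm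

theorem exists19 : ∃ y : Spor.HN, orderOf y = 19 := exists_order (by norm_num) (by rw [card_HN]; norm_num)

theorem exists11 : ∃ y : Spor.HN, orderOf y = 11 := exists_order (by norm_num) (by rw [card_HN]; norm_num)

theorem pw3 : PW 3 70 Spor.HN := by
  obtain ⟨y, hy⟩ := exists19
  exact pw_rel notComm Nat.prime_three (l := 19) (n := 14370048000000) (c := 1) (e := 9) (k := 6) (by norm_num)
    (by rw [card_HN]) (by norm_num) hy (card_nineteen hy) (by norm_num) (by norm_num) (by norm_num) deg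
    (by norm_num) (by norm_num) (by norm_num)

theorem pw_a {p : ℕ} (hp : p.Prime) (hd : p ∣ 10) : PW p 70 Spor.HN := by
  obtain ⟨y, hy⟩ := exists11
  exact pw_rel notComm hp (l := 11) (n := 24820992000000) (c := 2) (e := 10) (k := 6) (by norm_num)
    (by rw [card_HN]) (by norm_num) hy (card_eleven hy) (by norm_num) (by norm_num) hd deg
    (by norm_num) (by norm_num) (by norm_num)

theorem pw19 : PW 19 70 Spor.HN :=
  pw_of_order notComm (by norm_num) (by rw [card_HN]; norm_num) deg (c := 19)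
    (fun _ hy => (card_nineteen hy).le) (k := 6) (by norm_num) (by norm_num) (by norm_num)

theorem pw11 : PW 11 70 Spor.HN :=
  pw_of_order notComm (by norm_num) (by rw [card_HN]; norm_num) deg (c := 22)
    (fun _ hy => (card_eleven hy).le) (k := 6) (by norm_num) (by norm_num) (by norm_num)

/-! ### order 7 -/

/-- the 7-cycle `(0 1 2 3 4 5 6)` -/
def ca : Equiv.Perm (Fin 12) := Equiv.swap 0 1 * (Equiv.swap 1 2 * (Equiv.swap 2 3 * (Equiv.swap 3 4 *
  (Equiv.swap 4 5 * Equiv.swap 5 6))))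

/-- the 7-cycle `(4 5 6 7 8 9 10)` -/
def cb : Equiv.Perm (Fin 12) := Equiv.swap 4 5 * (Equiv.swap 5 6 * (Equiv.swap 6 7 * (Equiv.swap 7 8 *
  (Equiv.swap 8 9 * Equiv.swap 9 10))))

theorem ca_pow : ca ^ 7 = 1 := by decide +kernel
theorem cb_pow : cb ^ 7 = 1 := by decide +kernel
theorem cab_pow : (ca * cb) ^ 11 = 1 := by decide +kernel
theorem cab_ne : ca * cb ≠ 1 := by decide +kernel
theorem ca_sign : Equiv.Perm.sign ca = 1 := by decide +kernel
theorem cb_sign : Equiv.Perm.sign cb = 1 := by decide +kernel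

/-- `ca` in `Alt(12)` -/
def ea : A12 := ⟨ca, Equiv.Perm.mem_alternatingGroup.2 ca_sign⟩

/-- `cb` in `Alt(12)` -/
def eb : A12 := ⟨cb, Equiv.Perm.mem_alternatingGroup.2 cb_sign⟩

theorem ea_pow : ea ^ 7 = 1 := by
  apply Subtype.ext
  rw [Subgroup.coe_pow]
  exact ca_pow

theorem eb_pow : eb ^ 7 = 1 := by
  apply Subtype.ext
  rw [Subgroup.coe_pow]
  exact cb_pow

theorem order_ab : orderOf (ca * cb) = 11 := by
  have f11 : Fact (Nat.Prime 11) := ⟨by norm_num⟩
  exact orderOf_eq_prime cab_pow cab_ne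

theorem order_eab : orderOf (ea * eb) = 11 := by
  rw [← Subgroup.orderOf_coe, Subgroup.coe_mul]
  exact order_ab

theorem pw7 : PW 7 70 Spor.HN := by
  have ha := ea_pow
  have hb := eb_pow
  have ho := order_eab
  have ho' : orderOf (Φ ea * Φ eb) = 11 := by rw [← map_mul, orderOf_injective Φ Φ_inj, ho]
  exact pw_prod notComm (a := Φ ea) (b := Φ eb) ⟨1, by rw [pow_one, ← map_pow, ha, map_one]⟩
    ⟨1, by rw [pow_one, ← map_pow, hb, map_one]⟩ deg (card_eleven ho').le (k := 6) (by norm_num) (by norm_num)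
    (by norm_num)

theorem prime_cases {p : ℕ} (hp : p.Prime) (hd : p ∣ 273030912000000) :
    p = 2 ∨ p = 3 ∨ p = 5 ∨ p = 7 ∨ p = 11 ∨ p = 19 := by
  have h1 : (273030912000000 : ℕ) = 2 ^ 14 * (3 ^ 6 * (5 ^ 6 * (7 * (11 * 19)))) := by norm_num
  rw [h1] at hd
  simp only [hp.dvd_mul] at hd
  rcases hd with h | h | h | h | h | h
  · have := (Nat.prime_dvd_prime_iff_eq hp (by norm_num)).1 (hp.dvd_of_dvd_pow h); omega
  · have := (Nat.prime_dvd_prime_iff_eq hp (by norm_num)).1 (hp.dvd_of_dvd_pow h); omega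
  · have := (Nat.prime_dvd_prime_iff_eq hp (by norm_num)).1 (hp.dvd_of_dvd_pow h); omega
  · have := (Nat.prime_dvd_prime_iff_eq hp (by norm_num)).1 h; omega
  · have := (Nat.prime_dvd_prime_iff_eq hp (by norm_num)).1 h; omega
  · have := (Nat.prime_dvd_prime_iff_eq hp (by norm_num)).1 h; omega

theorem pw_HN {p : ℕ} (hp : p.Prime) (hd : p ∣ Nat.card Spor.HN) : PW p 70 Spor.HN := by
  rw [card_HN] at hd
  rcases prime_cases hp hd with rfl | rfl | rfl | rfl | rfl | rfl
  exacts [pw_a hp (by norm_num), pw3, pw_a hp (by norm_num), pw7, pw11, pw19]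

/-- **Row `HN`** -/
theorem pw_hn {S : Type*} [Group S] [Finite S] [IsSimpleGroup S] (h : Spor.IsoHN S) {p : ℕ} (hp : p.Prime)
    (hd : p ∣ Nat.card S) : PW p 70 S := by
  obtain ⟨e⟩ := h
  rw [Nat.card_congr e.toEquiv] at hd
  exact (pw_HN hp hd).congr e.symm

end Cfsg.Agent.H315.PwHN
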