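import Cfsg.Agent.H732.DegRee
import Cfsg.Agent.H740.FiveRee
import Cfsg.Agent.H664.Eight.Base

/-!
# S4899, the small Ree groups: at least eight character degrees (helper315)

`1`, `q³`, `q³ + 1`, the two constituents of the induced quadratic character, the degrees of the exceptional
characters of the two tori of order `q ± √(3q) + 1`, and the degree of a cuspidal character which is not exceptional:
it exists because there are at least `q + 3` classes, at most `(q + 7) / 2` characters in the principal series and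
`q / 3` exceptional characters.
-/

set_option autoImplicit false
set_option linter.unusedSectionVars false

open scoped ComplexConjugate

namespace Cfsg.Agent.H315.EightRee

open Cfsg Cfsg.Agent.Characters.Core Cfsg.Agent.OddOrderCharacters.Clifford
  Cfsg.Agent.LieRecognition.RankOneAbstract Cfsg.Agent.H710.Cuspidal Cfsg.Agent.H732.RankOneGG

/-! ### the number of principal series characters of a rank one group -/

section count

variable {G : Type*} [Group G] {H U T : Subgroup G} {w : G} [Fintype G] [Fintype U] [Fintype H]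
  [Fintype (IrrCharacter G)]

theorem indU_of_mem (D : Data H U w) {t : ℕ} (ht : Nat.card H = Nat.card U * t) {u : G} (hu : u ∈ U)
    (hu1 : u ≠ 1) : indFun U (fun v => ((1 : U →* ℂˣ) v : ℂ)) u = t := by
  classical
  rw [Cfsg.Agent.Characters.Core.indFun_apply]
  have h1 : ∑ x : G, extendByZero U (fun v => ((1 : U →* ℂˣ) v : ℂ)) (x⁻¹ * u * x) =
      ∑ x : G, if x ∈ H then (1 : ℂ) else 0 := by
    refine Finset.sum_congr rfl fun x _ => ?_
    by_cases hx : x ∈ H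
    · rw [if_pos hx]
      have h2 : x⁻¹ * (u : G) * x ∈ U := conj_mem_U D hx hu
      rw [ext_apply_mem U _ _ h2, MonoidHom.one_apply, Units.val_one]
    · rw [if_neg hx, ext_apply_not_mem]
      intro h2
      exact hx (mem_of_conj D hu hu1 (D.le h2))
  have h3 : (Finset.univ.filter fun x : G => x ∈ H).card = Nat.card H := by
    rw [Nat.card_eq_fintype_card, Fintype.card_subtype]
  rw [h1, Finset.sum_ite, Finset.sum_const_zero, add_zero, Finset.sum_const, nsmul_eq_mul, mul_one, h3, ht,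
    Nat.cast_mul, inv_mul_cancel_left₀ card_ne_zero_complex]

theorem indU_one (D : Data H U w) {t : ℕ} (ht : Nat.card H = Nat.card U * t) :
    indFun U (fun v => ((1 : U →* ℂˣ) v : ℂ)) 1 = (Nat.card U + 1) * t := by
  rw [ind_one]
  have h1 : U.index = (Nat.card U + 1) * t := by
    have h2 := U.index_mul_card
    have h3 := H.index_mul_card
    rw [D.index, ht] at h3
    have h4 : U.index * Nat.card U = ((Nat.card U + 1) * t) * Nat.card U := by
      rw [h2, ← h3]; ring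
    exact Nat.eq_of_mul_eq_mul_right Nat.card_pos h4
  rw [h1]
  push_cast
  ring

/-- the norm of the character induced from the unipotent radical -/
theorem sum_mu_sq (D : Data H U w) {t : ℕ} (ht : Nat.card H = Nat.card U * t) :
    ∑ χ : IrrCharacter G, (mu U 1 χ) ^ 2 = 2 * t := by
  classical
  have hcU : (Nat.card U : ℂ) ≠ 0 := card_ne_zero_complex
  have h1 : classInner (indFun U (fun v => ((1 : U →* ℂˣ) v : ℂ))) (indFun U (fun v => ((1 : U →* ℂˣ) v : ℂ))) =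
      ((∑ χ : IrrCharacter G, (mu U 1 χ) ^ 2 : ℕ) : ℂ) := by
    rw [classInner_eq_sum (isClassFunction_indFun U _) (isClassFunction_indFun U _), Nat.cast_sum]
    refine Finset.sum_congr rfl fun χ _ => ?_
    rw [ind_inner, Nat.cast_pow, pow_two]
    simp
  rw [classInner_indFun U _ _ (isClassFunction_indFun U _), classInner_apply, inv_mul_eq_iff_eq_mul₀ hcU] at h1
  have h3 : ∀ g : U, ((1 : U →* ℂˣ) g : ℂ) * conj (indFun U (fun v => ((1 : U →* ℂˣ) v : ℂ)) (g : G)) =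
      t + if g = 1 then (Nat.card U : ℂ) * t else 0 := by
    intro g
    by_cases hg : g = 1
    · rw [if_pos hg, hg, OneMemClass.coe_one, indU_one D ht]
      simp
      ring
    · rw [if_neg hg, indU_of_mem D ht g.2 (fun h => hg (Subtype.ext h))]
      simp
  rw [Finset.sum_congr rfl fun g _ => h3 g, Finset.sum_add_distrib, Finset.sum_const, Finset.card_univ,
    nsmul_eq_mul, ← Nat.card_eq_fintype_card, Finset.sum_ite_eq' Finset.univ (1 : U) (fun _ => (Nat.card U : ℂ) * t),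
    if_pos (Finset.mem_univ _), ← mul_add] at h1
  have h4 := mul_left_cancel₀ hcU h1
  have h5 : ((∑ χ : IrrCharacter G, (mu U 1 χ) ^ 2 : ℕ) : ℂ) = ((2 * t : ℕ) : ℂ) := by
    rw [← h4]; push_cast; ring
  exact_mod_cast h5

/-- a character with a fixed vector of the unipotent radical: in `Ind f` with `f` invariant, or two dimensions -/
theorem cases_mu (D : Data H U w) (hab : ∀ h ∈ H, ∀ k ∈ H, ∃ u ∈ U, h * k = k * h * u) {χ : IrrCharacter G}
    (h : mu U 1 χ ≠ 0) : (∃ f : H →* ℂˣ, Inv H U w f ∧ mu H f χ ≠ 0) ∨ 2 ≤ mu U 1 χ := by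
  classical
  obtain ⟨f, hf1, hf2⟩ := exists_lin D hab χ h
  by_cases hinv : ∀ (d : G) (hd : d ∈ H) (hdw : w * d * w⁻¹ ∈ H), f ⟨w * d * w⁻¹, hdw⟩ = f ⟨d, hd⟩
  · exact Or.inl ⟨f, ⟨hf1, hinv⟩, hf2⟩
  · right
    push Not at hinv
    obtain ⟨d, hd, hdw, hne⟩ := hinv
    have hirr := ind_irr D f hd hdw hne
    have hχ : (χ : G → ℂ) = indFun H (fun u => (f u : ℂ)) := by
      by_contra h4
      have h6 := ind_inner H f χ
      rw [classInner_irr_ne hirr χ.2 (fun h => h4 h.symm)] at h6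
      exact hf2 (by exact_mod_cast h6.symm)
    have h1 : ∀ χ' : IrrCharacter G, χ' ≠ χ → mu H f χ' = 0 := by
      intro χ' hχ'
      have h2 := ind_inner H f χ'
      rw [classInner_irr_ne hirr χ'.2 (fun h => hχ' (Subtype.ext (h.symm.trans hχ.symm)))] at h2
      exact_mod_cast h2.symm
    have h7 : mu H f χ = 1 := by
      have h6 := ind_inner H f χ
      rw [← hχ, classInner_irr_self χ.2] at h6
      exact_mod_cast h6.symm
    have s1 := sum_mul D f hf1 1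
    rw [Finset.sum_eq_single χ (fun χ' _ h => by rw [h1 χ' h, zero_mul])
      (fun h => absurd (Finset.mem_univ _) h), if_pos rfl, h7] at s1
    omega

/-- **the number of principal series characters** -/
theorem card_principal (D : Data H U w) (hT : ∀ g, g ∈ T ↔ g ∈ H ∧ w⁻¹ * g * w ∈ H)
    (hab : ∀ h ∈ H, ∀ k ∈ H, ∃ u ∈ U, h * k = k * h * u) {t : ℕ} (ht : Nat.card H = Nat.card U * t) {i : ℕ}
    (hi : Nat.card {f : H →* ℂˣ // Inv H U w f} ≤ i) :
    2 * (Finset.univ.filter fun χ : IrrCharacter G => mu U 1 χ ≠ 0).card ≤ t + 4 * i := by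
  classical
  have := finite_hom H
  have := Fintype.ofFinite {f : H →* ℂˣ // Inv H U w f}
  have c0 : ∀ f : {f : H →* ℂˣ // Inv H U w f},
      (Finset.univ.filter fun χ : IrrCharacter G => mu H f.1 χ ≠ 0).card ≤ 2 := by
    intro f
    rw [← sum_sq_inv D hT f.1 f.2, Finset.card_eq_sum_ones, Finset.sum_filter]
    refine Finset.sum_le_sum fun χ _ => ?_
    split_ifs with h
    · exact Nat.one_le_pow _ _ (Nat.pos_of_ne_zero h)
    · exact Nat.zero_le _
  have c1 : ((Finset.univ : Finset {f : H →* ℂˣ // Inv H U w f}).biUnion fun f =>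
      Finset.univ.filter fun χ : IrrCharacter G => mu H f.1 χ ≠ 0).card ≤ 2 * i := by
    refine Finset.card_biUnion_le.trans ((Finset.sum_le_sum fun f _ => c0 f).trans ?_)
    rw [Finset.sum_const, Finset.card_univ, ← Nat.card_eq_fintype_card, smul_eq_mul]
    omega
  have c2 : 4 * (Finset.univ.filter fun χ : IrrCharacter G => 2 ≤ mu U 1 χ).card ≤ 2 * t := by
    rw [← sum_mu_sq D ht, Finset.card_eq_sum_ones, Finset.mul_sum, Finset.sum_filter]
    refine Finset.sum_le_sum fun χ _ => ?_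
    split_ifs with h
    · nlinarith
    · exact Nat.zero_le _
  have c3 : (Finset.univ.filter fun χ : IrrCharacter G => mu U 1 χ ≠ 0) ⊆
      ((Finset.univ : Finset {f : H →* ℂˣ // Inv H U w f}).biUnion fun f =>
        Finset.univ.filter fun χ : IrrCharacter G => mu H f.1 χ ≠ 0) ∪
      Finset.univ.filter fun χ : IrrCharacter G => 2 ≤ mu U 1 χ := by
    intro χ hχ
    rw [Finset.mem_filter] at hχ
    rw [Finset.mem_union, Finset.mem_biUnion, Finset.mem_filter]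
    rcases cases_mu D hab hχ.2 with ⟨f, hf, hf1⟩ | h
    · exact Or.inl ⟨⟨f, hf⟩, Finset.mem_univ _, Finset.mem_filter.2 ⟨Finset.mem_univ _, hf1⟩⟩
    · exact Or.inr ⟨Finset.mem_univ _, h⟩
  have c4 := (Finset.card_le_card c3).trans (Finset.card_union_le _ _)
  omega

/-- `Ind f = θ₁ + θ₂` -/
theorem ind_eq_add (D : Data H U w) (hT : ∀ g, g ∈ T ↔ g ∈ H ∧ w⁻¹ * g * w ∈ H) (f : H →* ℂˣ) (hf : Inv H U w f)
    {θ₁ θ₂ : IrrCharacter G} (hne : θ₁ ≠ θ₂) (h1 : mu H f θ₁ = 1) (h2 : mu H f θ₂ = 1) (g : G) :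
    indFun H (fun u => (f u : ℂ)) g = (θ₁ : G → ℂ) g + (θ₂ : G → ℂ) g := by
  classical
  have h3 := sum_sq_inv D hT f hf
  have h4 : ∀ χ : IrrCharacter G, χ ≠ θ₁ ∧ χ ≠ θ₂ → mu H f χ = 0 := by
    rintro χ ⟨e1, e2⟩
    have h5 : ∑ ψ ∈ ({χ, θ₁, θ₂} : Finset (IrrCharacter G)), (mu H f ψ) ^ 2 ≤ 2 :=
      le_of_le_of_eq (Finset.sum_le_sum_of_subset (Finset.subset_univ _)) h3
    rw [Finset.sum_insert (by simp [e1, e2]), Finset.sum_pair hne, h1, h2] at h5
    have h6 : (mu H f χ) ^ 2 = 0 := by omega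
    exact pow_eq_zero_iff two_ne_zero |>.1 h6
  rw [ind_eq_sum, Finset.sum_apply, Fintype.sum_eq_add θ₁ θ₂ hne, Pi.smul_apply, Pi.smul_apply, h1, h2, Nat.cast_one,
    one_smul, one_smul]
  intro χ hχ
  rw [Pi.smul_apply, h4 χ hχ, Nat.cast_zero, zero_smul]

theorem ind_eq_zero (f : H →* ℂˣ) {g : G} (hg : ∀ x : G, x⁻¹ * g * x ∉ H) :
    indFun H (fun u => (f u : ℂ)) g = 0 := by
  classical
  rw [Cfsg.Agent.Characters.Core.indFun_apply,
    Finset.sum_eq_zero fun x _ => ext_apply_not_mem H (fun u => (f u : ℂ)) _ (hg x), mul_zero]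

end count

/-! ### exceptional characters -/

section cc

open Cfsg.Agent.Characters Cfsg.Agent.Characters.CCBasic Cfsg.Agent.Characters.CCValues
  Cfsg.Agent.Characters.CCEstimates Cfsg.Agent.H678.CCExact Cfsg.Agent.H678.SuzChar Finset

universe u

variable {G : Type u} [Group G] [Fintype G] [Fintype (IrrCharacter G)] {A : Subgroup G} {s : ℕ}

/-- a number close to `0` modulo `|A|` is not the degree of the exceptional characters -/
theorem ne_deg (E : CCData A s 6) (hs : 3 ≤ s) (h2 : 2 ≤ ∑ ψ, E.f ψ ^ 2) (hA : 19 ≤ Nat.card A) {u : ℕ} {r : ℤ}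
    (hr : |r| ≤ 2) (hu : (Nat.card A : ℤ) ∣ u - r) : u ≠ E.d := by
  rintro rfl
  have h3 := E.ddvd
  have h4 := dvd_sub h3 hu
  rw [sub_sub_sub_cancel_left] at h4
  have hA' : (19 : ℤ) ≤ Nat.card A := by exact_mod_cast hA
  have hr' := abs_le.1 hr
  have h5 : r - (E.ε * (6 : ℕ) + E.c) = 0 := by
    apply Int.eq_zero_of_abs_lt_dvd h4
    rw [abs_lt]
    rcases E.hε with h | h <;> rcases H740.FiveReeCC.c_cases E hs h2 with h' | h' <;> rw [h', h] <;> push_cast <;>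
      constructor <;> omega
  rcases E.hε with h | h <;> rcases H740.FiveReeCC.c_cases E hs h2 with h' | h' <;> rw [h', h] at h5 <;>
    push_cast at h5 <;> omega

theorem abs_f_le (E : CCData A s 6) (hs : 3 ≤ s) (h2 : 2 ≤ ∑ ψ, E.f ψ ^ 2) (ψ : IrrCharacter G) : |E.f ψ| ≤ 2 := by
  have h6 := H740.FiveReeCC.sum_le_six E hs h2
  have h7 : E.f ψ ^ 2 ≤ ∑ ψ, E.f ψ ^ 2 :=
    Finset.single_le_sum (f := fun ψ => E.f ψ ^ 2) (fun _ _ => sq_nonneg _) (Finset.mem_univ ψ)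
  have h8 : E.f ψ ^ 2 ≤ 6 := h7.trans h6
  rw [abs_le]
  constructor <;> nlinarith

/-- the degree of a character which is not exceptional -/
theorem ne_deg_of_not_mem (E : CCData A s 6) (hs : 3 ≤ s) (h2 : 2 ≤ ∑ ψ, E.f ψ ^ 2) (hA : 19 ≤ Nat.card A)
    {ψ : IrrCharacter G} (hψ : ψ ∉ E.R) : charDegree (ψ : G → ℂ) ≠ E.d :=
  ne_deg E hs h2 hA (abs_f_le E hs h2 ψ) (E.dvd ψ hψ)

/-- two characters with sum zero on `A#` -/
theorem not_mem_of_add {e : ℕ} (E : CCData A s e) {θ₁ θ₂ : IrrCharacter G}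
    (h : ∀ a ∈ A, a ≠ 1 → (θ₁ : G → ℂ) a + (θ₂ : G → ℂ) a = 0)
    (hne : charDegree (θ₁ : G → ℂ) ≠ charDegree (θ₂ : G → ℂ)) : θ₁ ∉ E.R := by
  intro h1
  by_cases h2 : θ₂ ∈ E.R
  · exact hne ((E.deg _ h1).trans (E.deg _ h2).symm)
  · obtain ⟨a, ha, ha1, h3⟩ := E.nonconst θ₁ h1 (-(E.f θ₂ : ℂ))
    apply h3
    rw [eq_neg_iff_add_eq_zero, ← E.hf θ₂ h2 a ha ha1]
    exact h a ha ha1

end cc

/-! ### the small Ree groups -/

section ree

open Cfsg.Agent.LieRecognition Cfsg.Agent.LieRecognition.ReeAbs Cfsg.Agent.LieRecognition.ReeSylowThree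
  Cfsg.Agent.LieRecognition.ReeSplit Cfsg.Agent.H88 Cfsg.Agent.H732.DegRee
open Cfsg.Agent.Characters.CCBasic Cfsg.Agent.Characters.CCValues
  Cfsg.Agent.Characters.CCEstimates Cfsg.Agent.H678.CCExact Cfsg.Agent.H678.SuzChar

universe u v

variable {K : Type u} [Field K] [Fintype K] {G : Type v} [Group G] {m : ℕ} {U : K → K → K → G} {h : Kˣ → G} {n : G}

theorem half {q : ℕ} (h8 : q % 8 = 3) (h27 : 27 ≤ q) : ∃ c, c = (q - 1) / 2 ∧ 13 ≤ c ∧ q = 2 * c + 1 :=
  ⟨(q - 1) / 2, rfl, by omega, by omega⟩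

theorem theta_ne {Q d₁ d₂ : ℕ} (h3 : 3 ∣ Q) (h1 : 3 ∣ d₁ - 1) (h1' : 1 < d₁) (hs : d₁ + d₂ = Q + 1) (h2 : 1 ≤ d₂)
    (hQ : 1 < Q) : d₁ ≠ d₂ ∧ (1 ≠ Q ∧ 1 ≠ Q + 1 ∧ 1 ≠ d₁ ∧ 1 ≠ d₂) ∧ (Q ≠ Q + 1 ∧ Q ≠ d₁ ∧ Q ≠ d₂) ∧
      (Q + 1 ≠ d₁ ∧ Q + 1 ≠ d₂) := by
  refine ⟨?_, ⟨?_, ?_, ?_, ?_⟩, ⟨?_, ?_, ?_⟩, ?_, ?_⟩ <;> omega

/-- the numbers of characters -/
theorem count_ne {q r N sA sB a b k : ℕ} (h1 : sA * 6 + 1 = a) (h2 : sB * 6 + 1 = b) (h3 : q - r + 1 = a)
    (h4 : q + r + 1 = b) (hr : r ≤ q) (hN : 2 * N ≤ (q - 1) + 4 * 2) (hk : q + 3 ≤ k) (hq : 27 ≤ q)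
    (h : k ≤ N + (sA + sB)) : False := by
  omega

/-- the constituents of the induced quadratic character -/
theorem exists_theta [Finite G] (D : ReeAbs.Data m U h n) (hm : 1 ≤ m) (hK : Fintype.card K = 3 ^ (2 * m + 1))
    (hG : commutator G = ⊤) : ∃ θ₁ θ₂ : IrrCharacter G,
      (((3 ^ (2 * m + 1) - 1) / 2 : ℕ) : ℤ) ∣ (charDegree (θ₁ : G → ℂ) : ℤ) - 1 ∧
      (((3 ^ (2 * m + 1) - 1) / 2 : ℕ) : ℤ) ∣ (charDegree (θ₂ : G → ℂ) : ℤ) - 1 ∧
      3 ∣ charDegree (θ₁ : G → ℂ) - 1 ∧ 1 < charDegree (θ₁ : G → ℂ) ∧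
      charDegree (θ₁ : G → ℂ) + charDegree (θ₂ : G → ℂ) = (3 ^ (2 * m + 1)) ^ 3 + 1 ∧
      ∀ g : G, (∀ x : G, x⁻¹ * g * x ∉ bSub D) → (θ₁ : G → ℂ) g + (θ₂ : G → ℂ) g = 0 := by
  classical
  have := Fintype.ofFinite G
  have : Finite (IrrCharacter G) := Characters.Core.finite_irr
  have := Fintype.ofFinite (IrrCharacter G)
  have R := RkRee.rank_one D
  have hp3 : Fact (Nat.Prime 3) := ⟨Nat.prime_three⟩
  have hP := isPGroup D hK
  have h8 := three_pow_odd_mod m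
  have hcU : Nat.card (uSub D) = (3 ^ (2 * m + 1)) ^ 3 := by rw [card_uSub D, hK]
  have hnt : Nontrivial (uSub D) := by
    rw [← Finite.one_lt_card_iff_nontrivial, hcU]
    exact Nat.one_lt_pow (by norm_num) (by omega)
  obtain ⟨ψ, hψ⟩ := H670.PSing.exists_linear_ne_one hP
  have hA : aSub D ≤ bSub D := by
    intro x hx
    exact ((hT D x).1 (aSub_le D hx)).1
  have hcA := card_aSub D hK
  obtain ⟨f, hf, hf1, hfA⟩ := exists_quad D hK
  obtain ⟨θ₁, θ₂, hne, c1, c2, m1, m2, g1, g2, hsum⟩ := exists_split R (hT D) f hf ψ hψ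
  have e1 := modEq_one R f hf.1 m1 (by rw [c1]; exact one_ne_zero) (aSub D) hA (regular D hK) hfA
  have e2 := modEq_one R f hf.1 m2 (by rw [c2]; exact one_ne_zero) (aSub D) hA (regular D hK) hfA
  have e3 := modEq_p hP m1 (by
    intro ν hν
    obtain ⟨x, rfl⟩ := H732.ReeLin.trans D hK hm hψ hν
    rw [mu_tw]; exact g1)
  rw [hcA] at e1 e2
  rw [hcU] at hsum
  have hpos : 1 ≤ charDegree (θ₁ : G → ℂ) := Blocks.Basic.charDegree_pos θ₁.2
  have hnl : charDegree (θ₁ : G → ℂ) ≠ 1 := by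
    intro h1
    have h2 : (θ₁ : G → ℂ) 1 = 1 := by rw [Blocks.Basic.irr_one_eq_charDegree θ₁.2, h1, Nat.cast_one]
    obtain ⟨φ, hφ⟩ := Characters.Linear.exists_hom_of_isIrrCharacter θ₁.2 h2
    have h3 : φ = 1 := by
      have h4 : commutator G ≤ φ.ker := Abelianization.commutator_subset_ker φ
      rw [hG, top_le_iff] at h4
      ext g
      have h5 : g ∈ φ.ker := by rw [h4]; trivial
      rw [MonoidHom.mem_ker.1 h5]; rfl
    have h5 := mu_spec (bSub D) f θ₁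
    rw [c1] at h5
    have h6 : (fun u : bSub D => (θ₁ : G → ℂ) u) = fun u => ((1 : bSub D →* ℂˣ) u : ℂ) := by
      ext u
      rw [hφ, h3]; rfl
    rw [h6, inner_hom, if_neg hf1] at h5
    norm_num at h5
  refine ⟨θ₁, θ₂, e1, e2, e3, by omega, hsum, fun g hg => ?_⟩
  rw [← ind_eq_add R (hT D) f hf hne c1 c2 g, ind_eq_zero f hg]

set_option maxHeartbeats 2000000 in
/-- **At least eight character degrees.** -/
theorem eight_of_data [Finite G] (D : ReeAbs.Data m U h n) (hm : 1 ≤ m) (hK : Fintype.card K = 3 ^ (2 * m + 1))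
    (hG : commutator G = ⊤)
    (hcyc : ∀ x : G, x ≠ 1 → orderOf x ∣ (3 ^ (2 * m + 1)) ^ 2 - 3 ^ (2 * m + 1) + 1 →
      IsCyclic (Subgroup.centralizer {x}) ∧
        Nat.card (Subgroup.normalizer (Subgroup.centralizer {x} : Set G)) ∣
          6 * Nat.card (Subgroup.centralizer {x})) : H664.Eight.Eight G := by
  classical
  have := Fintype.ofFinite G
  have : Finite (IrrCharacter G) := Characters.Core.finite_irr
  have := Fintype.ofFinite (IrrCharacter G)
  have hcl := H732.ReeClasses.classes D hm hK hG hcyc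
  have R := RkRee.rank_one D
  have h8 := three_pow_odd_mod m
  have hq27 : 27 ≤ 3 ^ (2 * m + 1) := by
    calc 27 = 3 ^ 3 := by norm_num
      _ ≤ 3 ^ (2 * m + 1) := Nat.pow_le_pow_right (by norm_num) (by omega)
  have ht : Nat.card (bSub D) = Nat.card (uSub D) * (3 ^ (2 * m + 1) - 1) := by
    rw [card_bSub D, card_uSub D, hK]
  have hprin := card_principal R (hT D) (hab D) ht (card_inv D)
  obtain ⟨sA, sB, a, b, ea, eb, ea', eb', hsA, hsB, hq3, hcop, -, -, -⟩ := H740.FiveRee.nums hm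
  obtain ⟨A, B, -, -, cA, cB, nA, nB, zA, zB, -⟩ := ReeSetup.exists_tori D hm hK hG hcyc
  rw [ea'] at cA nA
  rw [eb'] at cB nB
  have hA0 : A ≠ ⊥ := by
    rintro rfl
    rw [Subgroup.card_bot] at cA
    omega
  have hB0 : B ≠ ⊥ := by
    rintro rfl
    rw [Subgroup.card_bot] at cB
    omega
  have hAcc : IsCC A := ⟨hA0, fun x hx hx1 => (zA x hx hx1)⟩
  have hBcc : IsCC B := ⟨hB0, fun x hx hx1 => (zB x hx hx1)⟩
  have hAlen : len A = 6 := by
    rw [len, nA, cA, Nat.mul_div_cancel _ (by omega)]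
  have hBlen : len B = 6 := by
    rw [len, nB, cB, Nat.mul_div_cancel _ (by omega)]
  obtain ⟨E⟩ := nonempty_ccData hAcc hAlen (s := sA) (by omega) (by omega)
  obtain ⟨F⟩ := nonempty_ccData hBcc hBlen (s := sB) (by omega) (by omega)
  obtain ⟨St, St1, hSt⟩ := H740.FiveRee.steinberg D hK
  have hcardB := ReeSplit.card_bSub D
  rw [hK] at hcardB
  have hdvA : a ∣ (3 ^ (2 * m + 1)) ^ 3 + 1 := by
    rw [hq3]
    exact ⟨(3 ^ (2 * m + 1) + 1) * b, by ring⟩
  have hdvB : b ∣ (3 ^ (2 * m + 1)) ^ 3 + 1 := by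
    rw [hq3]
    exact ⟨(3 ^ (2 * m + 1) + 1) * a, by ring⟩
  have hcopB : ∀ x : ℕ, x ∣ (3 ^ (2 * m + 1)) ^ 3 + 1 → Odd x → x.Coprime (Nat.card (ReeSplit.bSub D)) := by
    intro x hx hxo
    rw [hcardB]
    obtain ⟨c, hc⟩ : ∃ c, 3 ^ (2 * m + 1) = c + 1 := ⟨3 ^ (2 * m + 1) - 1, by omega⟩
    rw [hc] at hx ⊢
    rw [Nat.add_sub_cancel]
    apply Nat.Coprime.mul_right
    · apply Nat.Coprime.coprime_dvd_left hx
      rw [Nat.coprime_self_add_left]
      exact Nat.coprime_one_left _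
    · have h1 : Nat.Coprime x 2 := Nat.Coprime.symm (Nat.coprime_two_left.2 hxo)
      have h2 : (c + 1) ^ 3 + 1 = c * (c ^ 2 + 3 * c + 3) + 2 := by ring
      have h3 : Nat.gcd x c ∣ 2 := by
        have h4 : Nat.gcd x c ∣ c * (c ^ 2 + 3 * c + 3) + 2 := h2 ▸ (Nat.gcd_dvd_left x c).trans hx
        exact (Nat.dvd_add_right ((Nat.gcd_dvd_right x c).mul_right _)).1 h4
      have h5 : Nat.gcd x c ∣ x := Nat.gcd_dvd_left x c
      exact Nat.eq_one_of_dvd_coprimes h1 h5 h3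
  have kA : (Nat.card A).Coprime (Nat.card (bSub D)) := by rw [cA]; exact hcopB a hdvA ⟨sA * 3, by omega⟩
  have kB : (Nat.card B).Coprime (Nat.card (bSub D)) := by rw [cB]; exact hcopB b hdvB ⟨sB * 3, by omega⟩
  have hStA := hSt A kA
  have hStB := hSt B kB
  have hout : ∀ {C : Subgroup G}, (Nat.card C).Coprime (Nat.card (bSub D)) → ∀ c ∈ C, c ≠ 1 →
      ∀ x : G, x⁻¹ * c * x ∉ bSub D := by
    intro C hC c hc hc1 x hx
    have h1 : orderOf c ∣ Nat.card C := Subgroup.orderOf_dvd_natCard _ hc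
    have h5 : orderOf (x⁻¹ * c * x) = orderOf c := by
      have := orderOf_injective (MulAut.conj x⁻¹).toMonoidHom (MulAut.conj x⁻¹).injective c
      simpa using this
    have h6 : orderOf c ∣ Nat.card (ReeSplit.bSub D) := by
      rw [← h5]
      exact Subgroup.orderOf_dvd_natCard _ hx
    exact hc1 (orderOf_eq_one_iff.1 (Nat.eq_one_of_dvd_coprimes hC h1 h6))
  have hQ1 : 1 < (3 ^ (2 * m + 1)) ^ 3 := Nat.one_lt_pow (by norm_num) (by omega)
  have hne : Characters.CCValues.one G ≠ St := by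
    intro h
    rw [← h, deg_one] at St1
    omega
  obtain ⟨o2, p2⟩ := const E hA0 (ψ := one G) (z := 1) (fun a _ _ => by rw [coe_one]; simp)
  obtain ⟨o3, p3⟩ := const F hB0 (ψ := one G) (z := 1) (fun a _ _ => by rw [coe_one]; simp)
  obtain ⟨t2, u2⟩ := const E hA0 (ψ := St) (z := -1) (fun a ha ha1 => by rw [hStA a ha ha1]; simp)
  obtain ⟨t3, u3⟩ := const F hB0 (ψ := St) (z := -1) (fun a ha ha1 => by rw [hStB a ha ha1]; simp)
  have e2 : 2 ≤ ∑ ψ, E.f ψ ^ 2 := by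
    simpa using lower E hne (by rw [p2]; norm_num) (by rw [u2]; norm_num) (R' := ∅) (z := 0) (by simp) (by simp)
      (by simp)
  have f2 : 2 ≤ ∑ ψ, F.f ψ ^ 2 := by
    simpa using lower F hne (by rw [p3]; norm_num) (by rw [u3]; norm_num) (R' := ∅) (z := 0) (by simp) (by simp)
      (by simp)
  have cop : (Nat.card A).Coprime (Nat.card B) := by rw [cA, cB]; exact hcop
  have dFE : ∀ ψ ∈ F.R, ψ ∉ E.R := fun ψ hψ => F.disjoint E (by omega) (not_conj cop.symm) hψ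
  -- the constituents of the quadratic character
  obtain ⟨θ₁, θ₂, r1, r2, r3, hθ1, hsum, hθ0⟩ := exists_theta D hm hK hG
  have hθ2pos : 1 ≤ charDegree (θ₂ : G → ℂ) := Blocks.Basic.charDegree_pos θ₂.2
  have h3Q : 3 ∣ (3 ^ (2 * m + 1)) ^ 3 := by rw [← pow_mul]; exact dvd_pow_self 3 (by omega)
  obtain ⟨hθne, ⟨l1, l2, l3, l4⟩, ⟨l5, l6, l7⟩, l8, l9⟩ := theta_ne h3Q r3 hθ1 hsum hθ2pos hQ1
  have hA1 : θ₁ ∉ E.R := not_mem_of_add E (fun a ha ha1 => hθ0 a (hout kA a ha ha1)) hθne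
  have hA2 : θ₂ ∉ E.R := not_mem_of_add E (θ₂ := θ₁)
    (fun a ha ha1 => by rw [add_comm]; exact hθ0 a (hout kA a ha ha1)) hθne.symm
  have hB1 : θ₁ ∉ F.R := not_mem_of_add F (fun a ha ha1 => hθ0 a (hout kB a ha ha1)) hθne
  have hB2 : θ₂ ∉ F.R := not_mem_of_add F (θ₂ := θ₁)
    (fun a ha ha1 => by rw [add_comm]; exact hθ0 a (hout kB a ha ha1)) hθne.symm
  -- a cuspidal character which is not exceptional
  obtain ⟨χ, hχ⟩ : ∃ χ : IrrCharacter G,
      χ ∉ (Finset.univ.filter fun χ : IrrCharacter G => mu (uSub D) 1 χ ≠ 0) ∪ (E.R ∪ F.R) := by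
    by_contra hcon
    push Not at hcon
    have h1 : (Finset.univ : Finset (IrrCharacter G)) ⊆
        (Finset.univ.filter fun χ : IrrCharacter G => mu (uSub D) 1 χ ≠ 0) ∪ (E.R ∪ F.R) := fun χ _ => hcon χ
    have h2 := ((Finset.card_le_card h1).trans (Finset.card_union_le _ _)).trans
      (Nat.add_le_add_left (Finset.card_union_le _ _) _)
    rw [E.hcard, F.hcard, Finset.card_univ, ← Nat.card_eq_fintype_card, card_irr] at h2
    exact count_ne ea eb ea' eb' (Nat.pow_le_pow_right (by norm_num) (by omega)) hprin hcl hq27 h2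
  rw [Finset.mem_union, Finset.mem_union, not_or, not_or, Finset.mem_filter] at hχ
  obtain ⟨hχ1, hχA, hχB⟩ := hχ
  have hχ0 : mu (uSub D) 1 χ = 0 := by
    by_contra h
    exact hχ1 ⟨Finset.mem_univ _, h⟩
  have hA : aSub D ≤ bSub D := by
    intro x hx
    exact ((hT D x).1 (aSub_le D hx)).1
  have hχd := card_dvd R hχ0 (aSub D) hA (regular D hK)
  rw [card_aSub D hK] at hχd
  -- the principal series
  obtain ⟨φ, hφ, hφ1⟩ := H620.RowRee.exists_irr D hK hm
  have hidxB : (H620.RowRee.borel D).index = (3 ^ (2 * m + 1)) ^ 3 + 1 := by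
    have h5 := (H620.RowRee.borel D).card_mul_index
    rw [H620.RowRee.card_borel D hK, ReeFinal.card_of_data D hK] at h5
    exact Nat.eq_of_mul_eq_mul_left (Nat.mul_pos (by positivity) (by omega)) h5
  rw [hidxB] at hφ1
  obtain ⟨ψA, hψA⟩ : E.R.Nonempty := Finset.card_pos.1 (by rw [E.hcard]; omega)
  obtain ⟨ψB, hψB⟩ : F.R.Nonempty := Finset.card_pos.1 (by rw [F.hcard]; omega)
  have neE : ∀ {ψ : IrrCharacter G}, ψ ∉ E.R → charDegree (ψ : G → ℂ) ≠ E.d := fun hψ =>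
    ne_deg_of_not_mem E hsA e2 (by omega) hψ
  have neF : ∀ {ψ : IrrCharacter G}, ψ ∉ F.R → charDegree (ψ : G → ℂ) ≠ F.d := fun hψ =>
    ne_deg_of_not_mem F (by omega) f2 (by omega) hψ
  have m1 : 1 ≠ E.d := by rw [← deg_one (G := G)]; exact neE o2
  have m2 : 1 ≠ F.d := by rw [← deg_one (G := G)]; exact neF o3
  have m3 : (3 ^ (2 * m + 1)) ^ 3 ≠ E.d := by rw [← St1]; exact neE t2
  have m4 : (3 ^ (2 * m + 1)) ^ 3 ≠ F.d := by rw [← St1]; exact neF t3
  have m5 : (3 ^ (2 * m + 1)) ^ 3 + 1 ≠ E.d := ne_deg E hsA e2 (by omega) (r := 0) (by norm_num) (by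
    rw [sub_zero, cA]
    exact Int.natCast_dvd_natCast.2 hdvA)
  have m6 : (3 ^ (2 * m + 1)) ^ 3 + 1 ≠ F.d := ne_deg F (by omega) f2 (by omega) (r := 0) (by norm_num) (by
    rw [sub_zero, cB]
    exact Int.natCast_dvd_natCast.2 hdvB)
  have m7 := neE hA1
  have m8 := neE hA2
  have m9 := neF hB1
  have m10 := neF hB2
  have m11 := neE hχA
  have m12 := neF hχB
  have m13 : F.d ≠ E.d := by
    have := neE (dFE ψB hψB)
    rwa [F.deg ψB hψB] at this
  -- the degree of the cuspidal character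
  obtain ⟨c, hc, hhalf, hqc⟩ := half h8 hq27
  rw [← hc] at r1 r2 hχd
  have hQc : (c : ℤ) ∣ ((3 ^ (2 * m + 1)) ^ 3 : ℕ) - 1 := by
    rw [hqc]
    exact ⟨2 * ((2 * c + 1) ^ 2 + (2 * c + 1) + 1), by push_cast; ring⟩
  have hχd' : (c : ℤ) ∣ (charDegree (χ : G → ℂ) : ℤ) := Int.natCast_dvd_natCast.2 hχd
  have kill : ∀ {u : ℕ} {r : ℤ}, 0 < r → r ≤ 2 → (c : ℤ) ∣ u - r → u ≠ charDegree (χ : G → ℂ) := by
    rintro u r hr hr2 hu rfl
    have h1 := dvd_sub hχd' hu
    rw [sub_sub_cancel] at h1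
    have h2 := Int.le_of_dvd hr h1
    omega
  have n1 : 1 ≠ charDegree (χ : G → ℂ) := kill one_pos (by norm_num) (by simp)
  have n2 : (3 ^ (2 * m + 1)) ^ 3 ≠ charDegree (χ : G → ℂ) := kill one_pos (by norm_num) hQc
  have n3 : (3 ^ (2 * m + 1)) ^ 3 + 1 ≠ charDegree (χ : G → ℂ) := kill two_pos le_rfl (by
    have e1 : (((3 ^ (2 * m + 1)) ^ 3 + 1 : ℕ) : ℤ) - 2 = ((3 ^ (2 * m + 1)) ^ 3 : ℕ) - 1 := by push_cast; ring
    rw [e1]; exact hQc)
  have n4 := kill one_pos (by norm_num) r1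
  have n5 := kill one_pos (by norm_num) r2
  refine H664.Eight.eight_of_list
    [1, (3 ^ (2 * m + 1)) ^ 3, (3 ^ (2 * m + 1)) ^ 3 + 1, charDegree (θ₁ : G → ℂ), charDegree (θ₂ : G → ℂ),
      charDegree (χ : G → ℂ), F.d, E.d] ?_ (by simp) ?_
  · simp only [List.nodup_cons, List.mem_cons, List.not_mem_nil, or_false, not_or, List.nodup_nil, and_true]
    exact ⟨⟨l1, l2, l3, l4, n1, m2, m1⟩, ⟨l5, l6, l7, n2, m4, m3⟩, ⟨l8, l9, n3, m6, m5⟩, ⟨hθne, n4, m9, m7⟩,
      ⟨n5, m10, m8⟩, ⟨m12, m11⟩, m13, not_false⟩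
  · intro d hd
    simp only [List.mem_cons, List.not_mem_nil, or_false] at hd
    rcases hd with rfl | rfl | rfl | rfl | rfl | rfl | rfl | rfl
    · exact H664.Eight.one_mem
    · exact ⟨St, St1⟩
    · exact H424.DegTools.mem_charDegrees.2 ⟨φ, hφ, hφ1⟩
    · exact ⟨θ₁, rfl⟩
    · exact ⟨θ₂, rfl⟩
    · exact ⟨χ, rfl⟩
    · exact ⟨ψB, F.deg ψB hψB⟩
    · exact ⟨ψA, E.deg ψA hψA⟩

/-- **S4899, the small Ree groups.** -/
theorem eight_ree {S : Type v} [Group S] (hS : Lie.IsoRee S) : H664.Eight.Eight S := by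
  obtain ⟨K, _, _, m, hm, hK, ⟨e⟩⟩ := hS
  refine H664.Eight.Eight.of_equiv e ?_
  have hfin : Finite ↥(Cfsg.Lie.twistedG2 K (3 ^ m)) := by
    apply Nat.finite_of_card_ne_zero
    rw [Cfsg.Agent.LieRecognition.ReeFinal.card hK]
    have h1 : 0 < 3 ^ (2 * m + 1) := by positivity
    have h2 : 0 < 3 ^ (2 * m + 1) - 1 := by
      have : 3 ^ 1 ≤ 3 ^ (2 * m + 1) := Nat.pow_le_pow_right (by norm_num) (by omega)
      omega
    positivity
  exact eight_of_data (ReeFinal.data hK) hm hK (S1116.result hK hm)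
    (fun x hx hx1 => ReeTorusTw.isCyclic_centralizer hK hx hx1)

end ree

end Cfsg.Agent.H315.EightRee
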