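import Cfsg.Agent.KFacts.J3

/-!
# `J₃`: the centraliser of an arbitrary involution (helper315)

`exists_psi`: `K ≅ J₃`, `x` an involution of `K`: there is `ψ : C(x) → Perm (Fin 5)` with image `A₅`, kernel of
order 32, and only `1`, `x` in `C(x)` centralise the kernel.
-/

set_option autoImplicit false

namespace Cfsg.Agent.H315.JThreeFact

open Cfsg.Spor Cfsg.Agent.J2Type.Model Cfsg.Agent.J3Type.OneClass Cfsg.Agent.KFacts.J3 Subgroup

variable {K : Type*} [Group K]

/-- the permutation part of the model -/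
def perm {C : Type*} [Group C] (ρ : C →* SP) : C →* Equiv.Perm (Fin 5) where
  toFun c := (ρ c).σ
  map_one' := by rw [map_one]; rfl
  map_mul' a b := by rw [map_mul]; rfl

/-- conjugation `C(x) ≃* C(z)`, `x = g z g⁻¹` -/
def conjEquiv {x z g : K} (hg : g * z * g⁻¹ = x) :
    centralizer ({x} : Set K) ≃* centralizer ({z} : Set K) where
  toFun c := ⟨g⁻¹ * c * g, mem_centralizer_singleton_iff.2 (by
    have h := mem_centralizer_singleton_iff.1 c.2
    calc g⁻¹ * (c : K) * g * z = g⁻¹ * ((c : K) * (g * z * g⁻¹)) * g := by group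
      _ = g⁻¹ * ((g * z * g⁻¹) * (c : K)) * g := by rw [hg, h]
      _ = z * (g⁻¹ * (c : K) * g) := by group)⟩
  invFun c := ⟨g * c * g⁻¹, mem_centralizer_singleton_iff.2 (by
    have h := mem_centralizer_singleton_iff.1 c.2
    rw [← hg]
    calc g * (c : K) * g⁻¹ * (g * z * g⁻¹) = g * ((c : K) * z) * g⁻¹ := by group
      _ = g * (z * (c : K)) * g⁻¹ := by rw [h]
      _ = (g * z * g⁻¹) * (g * (c : K) * g⁻¹) := by group)⟩
  left_inv c := Subtype.ext (show g * (g⁻¹ * (c : K) * g) * g⁻¹ = c by group)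
  right_inv c := Subtype.ext (show g⁻¹ * (g * (c : K) * g⁻¹) * g = c by group)
  map_mul' a b := Subtype.ext (show g⁻¹ * ((a : K) * b) * g = (g⁻¹ * a * g) * (g⁻¹ * b * g) by group)

theorem exists_psi (h : IsoJ3 K) (x : K) (hx : orderOf x = 2) :
    ∃ ψ : centralizer ({x} : Set K) →* Equiv.Perm (Fin 5), ψ.range = alternatingGroup (Fin 5) ∧
      Nat.card ψ.ker = 32 ∧ ∀ y : centralizer ({x} : Set K), (∀ k ∈ ψ.ker, y * k = k * y) →
        (y : K) = 1 ∨ (y : K) = x := by
  obtain ⟨-, z, Q, v, ρ, n, u, F⟩ := exists_facts h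
  have hx1 : x ≠ 1 := by
    rintro rfl
    rw [orderOf_one] at hx
    exact absurd hx (by norm_num)
  have hxx : x * x = 1 := by rw [← pow_two, ← hx, pow_orderOf_eq_one]
  obtain ⟨g, hg⟩ := F.one x hx1 hxx
  have M := F.model
  have hC : Nat.card (centralizer ({x} : Set K)) = 1920 := by
    rw [Nat.card_congr (conjEquiv hg).toEquiv, F.card_C]
  have hran : ((perm ρ).comp (conjEquiv hg).toMonoidHom).range = alternatingGroup (Fin 5) := by
    ext σ
    rw [Equiv.Perm.mem_alternatingGroup]
    constructor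
    · rintro ⟨c, rfl⟩
      exact ((M.range _).1 ⟨_, rfl⟩).1
    · intro hσ
      obtain ⟨c, hc⟩ := (M.range ⟨σ, fun _ => 0⟩).2 ⟨hσ, by simp⟩
      refine ⟨(conjEquiv hg).symm c, ?_⟩
      show (ρ (conjEquiv hg ((conjEquiv hg).symm c))).σ = σ
      rw [MulEquiv.apply_symm_apply, hc]
  refine ⟨(perm ρ).comp (conjEquiv hg).toMonoidHom, hran, ?_, ?_⟩
  · have h1 := Subgroup.card_mul_index ((perm ρ).comp (conjEquiv hg).toMonoidHom).ker
    rw [Subgroup.index_ker, hran, hC] at h1
    have h2 : Nat.card (alternatingGroup (Fin 5)) = 60 := by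
      rw [Nat.card_eq_fintype_card]; rfl
    rw [h2] at h1
    omega
  · intro y hy
    have hv : ∀ i, conjEquiv hg y * v i = v i * conjEquiv hg y := by
      intro i
      have hk : (conjEquiv hg).symm (v i) ∈ ((perm ρ).comp (conjEquiv hg).toMonoidHom).ker := by
        rw [MonoidHom.mem_ker]
        show (ρ (conjEquiv hg ((conjEquiv hg).symm (v i)))).σ = 1
        rw [MulEquiv.apply_symm_apply]
        exact (M.mem_Q _).1 (M.v_mem i)
      have h1 := congrArg (conjEquiv hg) (hy _ hk)
      rwa [map_mul, map_mul, MulEquiv.apply_symm_apply] at h1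
    have hρ : ρ (conjEquiv hg y) = 1 := by
      have h1 : ∀ i, (0 : ZMod 2) = (ρ (conjEquiv hg y)).s i ∧ i = (ρ (conjEquiv hg y)).σ i := by
        intro i
        apply M.v_inj
        rw [zp_zero, one_mul, ← M.conj, hv i, mul_inv_cancel_right]
      apply SP.ext
      · apply Equiv.ext
        intro i
        exact (h1 i).2.symm
      · funext i
        exact (h1 i).1.symm
    rcases (M.ker _).1 hρ with h1 | h1
    · left
      have h2 : y = 1 := (conjEquiv hg).injective (h1.trans (map_one _).symm)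
      rw [h2]; rfl
    · right
      have h2 : g⁻¹ * (y : K) * g = z := congrArg Subtype.val h1
      calc (y : K) = g * (g⁻¹ * (y : K) * g) * g⁻¹ := by group
        _ = g * z * g⁻¹ := by rw [h2]
        _ = x := hg

end Cfsg.Agent.H315.JThreeFact
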