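import Cfsg.Agent.OrdCrit.Main

/-!
# The order of a group of Lie type in characteristic `p` (any `p`) is less than the cube of its `p`-part (helper315)

`card_lt_cube`: `IsLieTypeChar p X → |X| < |X|_p ^ 3`, for every prime `p` (the case `p ≠ 2` is
`Cfsg.Agent.OrdCrit.card_lt_cube`).
-/

set_option autoImplicit false

namespace Cfsg.Agent.H315.OrderCube

open Cfsg Cfsg.Agent.OrdCrit

theorem suz {F : Type} [Field F] [Fintype F] {m : ℕ} (hm : 1 ≤ m) (hF : Fintype.card F = 2 ^ (2 * m + 1)) :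
    Nat.card ↥(Lie.Sz F (2 ^ (m + 1))) < (ordProj[2] (Nat.card ↥(Lie.Sz F (2 ^ (m + 1))))) ^ 3 := by
  have h1 := (S1163.result (F := F) hm hF).1
  have hq2 : 2 ≤ 2 ^ (2 * m + 1) := by
    have : 2 ^ 1 ≤ 2 ^ (2 * m + 1) := Nat.pow_le_pow_right (by norm_num) (by omega)
    omega
  rw [mul_assoc, ← one_mul (Nat.card _)] at h1
  refine cube_of (q := 2 ^ (2 * m + 1)) Nat.prime_two rfl (Nat.coprime_one_left 2) h1 ?_ Nat.card_pos.ne'
  generalize 2 ^ (2 * m + 1) = q at hq2 ⊢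
  have h3 : q ^ 2 + 1 ≤ q ^ 3 := by
    have : 1 ≤ q ^ 2 := Nat.one_le_pow _ _ (by omega)
    rw [pow_succ q 2]; nlinarith
  calc (q - 1) * (q ^ 2 + 1) < q * (q ^ 2 + 1) := Nat.mul_lt_mul_of_pos_right (by omega) (by omega)
    _ ≤ q * q ^ 3 := Nat.mul_le_mul_left _ h3
    _ = q ^ (2 * 2) := by ring

theorem twF4 {K : Type} [Field K] [Fintype K] {m : ℕ} (hK : Fintype.card K = 2 ^ (2 * m + 1)) :
    Nat.card ↥(Lie.twistedF4 K (2 ^ m)) < (ordProj[2] (Nat.card ↥(Lie.twistedF4 K (2 ^ m)))) ^ 3 := by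
  have h1 := S1068.result (K := K) hK
  have hq2 : 2 ≤ 2 ^ (2 * m + 1) := by
    have : 2 ^ 1 ≤ 2 ^ (2 * m + 1) := Nat.pow_le_pow_right (by norm_num) (by omega)
    omega
  rw [mul_assoc, mul_assoc, mul_assoc, ← one_mul (Nat.card _)] at h1
  refine cube_of (q := 2 ^ (2 * m + 1)) Nat.prime_two rfl (Nat.coprime_one_left 2) h1 ?_ Nat.card_pos.ne'
  generalize 2 ^ (2 * m + 1) = q at hq2 ⊢
  have h3 : q ^ 3 + 1 ≤ q ^ 4 := by
    have : 1 ≤ q ^ 3 := Nat.one_le_pow _ _ (by omega)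
    rw [pow_succ q 3]; nlinarith
  have h6 : q ^ 6 + 1 ≤ q ^ 7 := by
    have : 1 ≤ q ^ 6 := Nat.one_le_pow _ _ (by omega)
    rw [pow_succ q 6]; nlinarith
  calc (q - 1) * ((q ^ 3 + 1) * ((q ^ 4 - 1) * (q ^ 6 + 1)))
      ≤ q * (q ^ 4 * (q ^ 4 * q ^ 7)) :=
        Nat.mul_le_mul (Nat.sub_le _ _) (Nat.mul_le_mul h3 (Nat.mul_le_mul (Nat.sub_le _ _) h6))
    _ = q ^ 16 := by ring
    _ < q ^ (2 * 12) := Nat.pow_lt_pow_right (by omega) (by norm_num)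

/-- **`|X| < |X|_p ^ 3`**, `X` of Lie type in characteristic `p`. -/
theorem card_lt_cube {X : Type*} [Group X] {p : ℕ} (hp : p.Prime) (h : IsLieTypeChar p X) :
    Nat.card X < (ordProj[p] (Nat.card X)) ^ 3 := by
  by_cases hp2 : p ≠ 2
  · exact Cfsg.Agent.OrdCrit.card_lt_cube hp hp2 h
  push Not at hp2
  subst hp2
  rcases h with h | h | h | h | h | h | h | h | ⟨-, h⟩ | ⟨-, h⟩ | ⟨hp', -⟩
  · obtain ⟨F, _, _, _, n, h1, h2, ⟨f⟩⟩ := h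
    rw [Nat.card_congr f.toEquiv]
    exact psl hp h1
  · obtain ⟨F, _, _, _, m, h1, h2, ⟨f⟩⟩ := h
    rw [Nat.card_congr f.toEquiv]
    exact psp hp h1
  · obtain ⟨F, _, _, _, n, q, h1, h2, h3, ⟨f⟩⟩ := h
    rw [Nat.card_congr f.toEquiv]
    exact psu hp h1 h2
  · obtain ⟨F, _, _, _, m, h1, h2, -⟩ := h
    exfalso
    obtain ⟨k, hk, hq⟩ := exists_pow (F := F) hp
    rw [hq, Nat.odd_pow_iff hk] at h2
    exact absurd h2 (by decide)
  · obtain ⟨F, i1, i2, i3, m, h1, ⟨f⟩⟩ := h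
    rw [Nat.card_congr f.toEquiv]
    exact pomegaPlus hp h1
  · obtain ⟨F, i1, i2, i3, m, a, b, h1, h2, ⟨f⟩⟩ := h
    rw [Nat.card_congr f.toEquiv]
    exact pomegaMinus hp h1 a b h2
  · obtain ⟨F, i1, i2, i3, h⟩ := h
    rcases h with ⟨h1, ⟨f⟩⟩ | ⟨⟨f⟩⟩ | ⟨⟨f⟩⟩ | ⟨⟨f⟩⟩ | ⟨⟨f⟩⟩
    · rw [Nat.card_congr f.toEquiv]; exact g2 hp
    · rw [Nat.card_congr f.toEquiv]; exact f4 hp
    · rw [Nat.card_congr f.toEquiv]; exact e6 hp
    · rw [Nat.card_congr f.toEquiv]; exact e7 hp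
    · rw [Nat.card_congr f.toEquiv]; exact e8 hp
  · obtain ⟨F, i1, i2, i3, q, hq, h⟩ := h
    rcases h with ⟨h1, ⟨f⟩⟩ | ⟨h1, ⟨f⟩⟩
    · rw [Nat.card_congr f.toEquiv]; exact twE6 hp hq h1
    · rw [Nat.card_congr f.toEquiv]; exact twD4 hp hq h1
  · obtain ⟨F, _, _, m, h1, h2, ⟨f⟩⟩ := h
    rw [Nat.card_congr f.toEquiv]
    exact suz h1 h2
  · obtain ⟨F, _, _, m, h1, h2, ⟨f⟩⟩ := h
    rw [Nat.card_congr f.toEquiv]
    exact twF4 h2
  · exact absurd hp' (by norm_num)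

/-- No group of Lie type (any characteristic) has order `N`, if `ordProj[p] N ^ 3 ≤ N` for every prime divisor
`p` of `N`. -/
theorem not_lie {X : Type*} [Group X] {N : ℕ} (hN : Nat.card X = N) (hN1 : 1 ≤ N)
    (h : ∀ p ∈ N.primeFactors, (ordProj[p] N) ^ 3 ≤ N) {p : ℕ} (hp : p.Prime) : ¬ IsLieTypeChar p X := by
  intro hL
  have h1 := card_lt_cube hp hL
  rw [hN] at h1
  by_cases hd : p ∣ N
  · exact absurd (h p (Nat.mem_primeFactors.2 ⟨hp, hd, by omega⟩)) (not_le.2 h1)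
  · rw [Nat.factorization_eq_zero_of_not_dvd hd, pow_zero, one_pow] at h1
    omega

end Cfsg.Agent.H315.OrderCube
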