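import Cfsg.Agent.H315.FxRow
import Cfsg.Agent.S1619
import Cfsg.Agent.S1620
import Cfsg.Agent.S1625
import Cfsg.Agent.S1695
import Cfsg.Agent.S1696
import Cfsg.Agent.S1697
import Cfsg.Agent.S0399
import Cfsg.Agent.Schreier.McLaughlin
import Cfsg.Agent.Schreier.CoTwoStab
import Cfsg.Agent.Co2Type.CardCo2
import Cfsg.Agent.SporRec.Co3.Model

/-!
# `No34` for `J2, J3, McL, He, Co1, Co2, Co3, Fi22, Fi23` (helper315)
-/

set_option autoImplicit false

namespace Cfsg.Agent.H315.FxNum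

open Cfsg Cfsg.Agent.H254.Fx

theorem noE {K : Type*} [Group K] : ∀ x ∈ ([] : List (ℕ × ℕ)), NoExc K x.1 x.2 :=
  fun _ h => absurd h List.not_mem_nil

theorem no34_j2 {G : Type*} [Group G] (h : Spor.IsoJ2 G) : No34 G := by
  obtain ⟨e⟩ := h
  exact No34.congr e.symm (no34_of_chk (l := [(2, 7), (3, 3), (5, 2), (7, 1)]) S1620.result.1 S1619.result.2.2.2
    (by decide +kernel) (Or.inl rfl) noE)

theorem no34_j3 {G : Type*} [Group G] (h : Spor.IsoJ3 G) : No34 G := by
  obtain ⟨F, _, _, ω, hF, hω, ⟨e⟩⟩ := h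
  exact No34.congr e.symm (no34_of_chk (l := [(2, 7), (3, 5), (5, 1), (17, 1), (19, 1)])
    (S1625.result F hF ω hω).2.2.2 (S1625.result F hF ω hω).2.2.1 (by decide +kernel) (Or.inl rfl) noE)

theorem no34_mcl {G : Type*} [Group G] (h : Spor.IsoMcL G) : No34 G := by
  obtain ⟨e⟩ := h
  exact No34.congr e.symm (no34_of_chk (l := [(2, 7), (3, 6), (5, 3), (7, 1), (11, 1)])
    Schreier.McLaughlin.isSimple_mcl Schreier.McLaughlin.card_mcl (by decide +kernel) (Or.inl rfl) noE)

theorem no34_he {G : Type*} [Group G] (h : Spor.IsoHe G) : No34 G := by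
  obtain ⟨e⟩ := h
  exact No34.congr e.symm (no34_of_chk (n := 4030387200) (l := [(2, 10), (3, 3), (5, 2), (7, 3), (17, 1)])
    S1695.result.1 S1695.result.2 (by decide +kernel) (Or.inl rfl) noE)

theorem no34_co1 {G : Type*} [Group G] (h : Spor.IsoCo1 G) : No34 G := by
  obtain ⟨e⟩ := h
  exact No34.congr e.symm (no34_of_chk (K := Spor.Co1) (n := 4157776806543360000)
    (l := [(2, 21), (3, 9), (5, 4), (7, 2), (11, 1), (13, 1), (23, 1)])
    S0399.result.1 S0399.result.2 (by decide +kernel) (Or.inl rfl) noE)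

theorem no34_co2 {G : Type*} [Group G] (h : Spor.IsoCo2 G) : No34 G := by
  obtain ⟨e⟩ := h
  exact No34.congr e.symm (no34_of_chk (n := 42305421312000)
    (l := [(2, 18), (3, 6), (5, 3), (7, 1), (11, 1), (23, 1)])
    Schreier.CoTwoStab.isSimpleGroup Co2Type.CardCo2.card_co2 (by decide +kernel) (Or.inl rfl) noE)

theorem no34_co3 {G : Type*} [Group G] (h : Spor.IsoCo3 G) : No34 G := by
  obtain ⟨e⟩ := h
  exact No34.congr (e.trans SporRec.Co3.Model.equivCo3.symm).symm (no34_of_chk (n := 495766656000)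
    (l := [(2, 10), (3, 7), (5, 3), (7, 1), (11, 1), (23, 1)])
    SporRec.Co3.Chain.isCo3_G3.1 SporRec.Co3.Chain.isCo3_G3.2 (by decide +kernel) (Or.inl rfl) noE)

theorem no34_fi22 {G : Type*} [Group G] (h : Spor.IsoFi22 G) : No34 G := by
  obtain ⟨e⟩ := h
  exact No34.congr e.symm (no34_of_chk (n := 64561751654400)
    (l := [(2, 17), (3, 9), (5, 2), (7, 1), (11, 1), (13, 1)])
    S1696.result.1 S1696.result.2 (by decide +kernel) (Or.inl rfl) noE)

theorem no34_fi23 {G : Type*} [Group G] (h : Spor.IsoFi23 G) : No34 G := by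
  obtain ⟨e⟩ := h
  exact No34.congr e.symm (no34_of_chk (n := 4089470473293004800)
    (l := [(2, 18), (3, 13), (5, 2), (7, 1), (11, 1), (13, 1), (17, 1), (23, 1)])
    S1697.result.1 S1697.result.2 (by decide +kernel) (Or.inl rfl) noE)

end Cfsg.Agent.H315.FxNum
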