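import Cfsg.Agent.H315.FxExc
import Cfsg.Agent.H52.StrFi24
import Cfsg.Agent.H690.Spor.ONRow
import Cfsg.Agent.H859.BigNum
import Cfsg.Agent.S1698
import Cfsg.Agent.S1699
import Cfsg.Agent.S1703

/-!
# `No34` for `Fi24'`, `ON`, `J4` (helper315)
-/

set_option autoImplicit false

namespace Cfsg.Agent.H315.FxNum

open Cfsg Cfsg.Agent.H254.Fx Subgroup

theorem noexc_fi24 : NoExc Spor.Fi24' 25 12 := by
  have hcard : Nat.card Spor.Fi24' = 1255205709190661721292800 := S1698.result.2
  have hsim : IsSimpleGroup Spor.Fi24' := S1698.result.1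
  have hfin : Finite Spor.Fi24' := Nat.finite_of_card_ne_zero (by rw [hcard]; norm_num)
  intro k D h hF hD hi
  have : Fact (Nat.Prime 5) := ⟨Nat.prime_five⟩
  exact false_of_noSP h hF (by rw [hcard]; norm_num) (r := 5) (by rw [hD]; norm_num)
    (H52.StrFi24.nosp_fi24p_5 ⟨MulEquiv.refl _⟩)

theorem no34_fi24' {G : Type*} [Group G] (h : Spor.IsoFi24' G) : No34 G := by
  obtain ⟨e⟩ := h
  refine No34.congr e.symm (no34_of_chk (n := 1255205709190661721292800) (E := [(25, 12)])
    (l := [(2, 21), (3, 16), (5, 2), (7, 3), (11, 1), (13, 1), (17, 1), (23, 1), (29, 1)])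
    S1698.result.1 S1698.result.2 (by decide +kernel) (Or.inl rfl) ?_)
  intro x hx
  rw [List.mem_singleton] at hx
  subst hx
  exact noexc_fi24

theorem noexc_on : ∀ x ∈ [(5, 4), (209, 4)], NoExc Spor.ON x.1 x.2 := by
  have hcard : Nat.card Spor.ON = 460815505920 := S1699.result.2
  have hsim : IsSimpleGroup Spor.ON := S1699.result.1
  have hfin : Finite Spor.ON := Nat.finite_of_card_ne_zero (by rw [hcard]; norm_num)
  intro x hx
  simp only [List.mem_cons, List.not_mem_nil, or_false] at hx
  rcases hx with rfl | rfl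
  · intro k D h hF hD hi
    obtain ⟨t, ht⟩ := @exists_prime_orderOf_dvd_card' Spor.ON _ _ 2 ⟨Nat.prime_two⟩ (by rw [hcard]; norm_num)
    refine sylow_five_contra (D := D) ht (H690.Spor.ONRow.card_inv ht) (by rw [hcard]; norm_num) (by norm_num) hD ?_
      (by norm_num) (by norm_num)
    replace hD : Nat.card D = 5 := hD
    replace hi : D.relIndex (normalizer (D : Set Spor.ON)) = 4 := hi
    rw [card_normalizer_eq, hD, hi]
  · intro k D h hF hD hi
    obtain ⟨t, x, ht, hx, htx⟩ := exists_inv h hF (r := 11) (by norm_num) (by rw [hD]; norm_num)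
      (by rw [hcard]; norm_num) (Or.inr ⟨hi, by norm_num⟩)
    have h1 := dvd_centralizer hx htx
    rw [H690.Spor.ONRow.card_inv ht] at h1
    norm_num at h1

theorem no34_on {G : Type*} [Group G] (h : Spor.IsoON G) : No34 G := by
  obtain ⟨e⟩ := h
  exact No34.congr e.symm (no34_of_chk (n := 460815505920) (E := [(5, 4), (209, 4)])
    (l := [(2, 9), (3, 4), (5, 1), (7, 3), (11, 1), (19, 1), (31, 1)])
    S1699.result.1 S1699.result.2 (by decide +kernel) (Or.inl rfl) noexc_on)

theorem noexc_j4 : ∀ x ∈ [(7, 3), (37, 12)], NoExc Spor.J4 x.1 x.2 := by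
  have hcard : Nat.card Spor.J4 = 86775571046077562880 := S1703.result.2
  have hfin : Finite Spor.J4 := Nat.finite_of_card_ne_zero (by rw [hcard]; norm_num)
  intro x hx
  simp only [List.mem_cons, List.not_mem_nil, or_false] at hx
  rcases hx with rfl | rfl
  · intro k D h hF hD hi
    have h1 := H859.BigCent.card_normalizer_seven hD
    rw [card_normalizer_eq, hD, hi] at h1
    norm_num at h1
  · intro k D h hF hD hi
    obtain ⟨t, x, ht, hx, htx⟩ := exists_inv h hF (r := 37) (by norm_num) (by rw [hD])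
      (by rw [hcard]; norm_num) (Or.inl hi)
    have h1 := (H859.BigNum.data37 (P := zpowers x) (by rw [Nat.card_zpowers, hx])).1
    have h2 : t ∈ centralizer (zpowers x : Set Spor.J4) := by
      rw [mem_centralizer_iff]
      rintro _ ⟨n, rfl⟩
      exact (Commute.zpow_right (show Commute t x from htx) n).eq.symm
    have h3 := orderOf_dvd_card_of_mem h2
    rw [h1, ht] at h3
    norm_num at h3

theorem no34_j4 {G : Type*} [Group G] (h : Spor.IsoJ4 G) : No34 G := by
  obtain ⟨e⟩ := h
  exact No34.congr e.symm (no34_of_chk (n := 86775571046077562880) (E := [(7, 3), (37, 12)])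
    (l := [(2, 21), (3, 3), (5, 1), (7, 1), (11, 3), (23, 1), (29, 1), (31, 1), (37, 1), (43, 1)])
    S1703.result.1 S1703.result.2 (by decide +kernel) (Or.inl rfl) noexc_j4)

end Cfsg.Agent.H315.FxNum
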