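import Cfsg.Agent.H254.FxTools
import Cfsg.Agent.H998.StrP.Basic
import Cfsg.Agent.H904.SylOne
import Cfsg.Agent.H940.EngLoc

/-!
# Fixity 3 and 4: numerical engine (helper315)

`D` with `OddTI k D` in a finite simple group `G` of even order, `D` containing a Sylow `r`-subgroup of `G` for
every prime divisor `r` of `|D|`. Then `N(D)` is strongly `r`-embedded for these primes, hence
`|G : N(D)| ≡ 1 (mod |G|_r)`, and `|N(D) : D| ∈ {3}` (`k = 3`), `{4, 12}` (`k = 4`).

* `cases` : the pair `(|D|, |N(D) : D|)` is in a list of exceptions `E`, from a computation.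
-/

set_option autoImplicit false
set_option linter.unusedSectionVars false

namespace Cfsg.Agent.H315.FxNum

open Subgroup Cfsg Cfsg.Agent.H254.Fx Cfsg.Agent.EvenType.StrongP

/-! ### Arithmetic -/

/-- the product of a factorized number -/
def pr (l : List (ℕ × ℕ)) : ℕ := (l.map fun x => x.1 ^ x.2).prod

theorem pr_nil : pr [] = 1 := rfl

theorem pr_cons (x : ℕ × ℕ) (l : List (ℕ × ℕ)) : pr (x :: l) = x.1 ^ x.2 * pr l := by
  unfold pr
  rw [List.map_cons, List.prod_cons]

theorem coprime_pr {l : List (ℕ × ℕ)} (hp : ∀ x ∈ l, x.1.Prime) {q : ℕ} (hq : q.Prime)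
    (h : q ∉ l.map Prod.fst) : Nat.Coprime q (pr l) := by
  induction l with
  | nil => rw [pr_nil]; exact Nat.coprime_one_right q
  | cons x l ih =>
    rw [pr_cons]
    rw [List.map_cons, List.mem_cons, not_or] at h
    refine Nat.Coprime.mul_right (Nat.Coprime.pow_right _ ?_) (ih (fun y hy => hp y (List.mem_cons_of_mem _ hy)) h.2)
    exact (Nat.coprime_primes hq (hp x List.mem_cons_self)).2 h.1

theorem gcd_pr {l : List (ℕ × ℕ)} (hp : ∀ x ∈ l, x.1.Prime) (hnd : (l.map Prod.fst).Nodup) {m : ℕ}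
    (hf : ∀ x ∈ l, x.1 ∣ m → x.1 ^ x.2 ∣ m) :
    Nat.gcd m (pr l) = pr (l.filter fun x => decide (x.1 ∣ m)) := by
  induction l with
  | nil => rw [pr_nil, Nat.gcd_one_right]; rfl
  | cons x l ih =>
    rw [List.map_cons, List.nodup_cons] at hnd
    have hx := hp x List.mem_cons_self
    have hc : Nat.Coprime (x.1 ^ x.2) (pr l) :=
      Nat.Coprime.pow_left _ (coprime_pr (fun y hy => hp y (List.mem_cons_of_mem _ hy)) hx hnd.1)
    have ih' := ih (fun y hy => hp y (List.mem_cons_of_mem _ hy)) hnd.2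
      (fun y hy => hf y (List.mem_cons_of_mem _ hy))
    rw [pr_cons, Nat.Coprime.gcd_mul m hc, ih']
    by_cases h : x.1 ∣ m
    · rw [List.filter_cons_of_pos (by simpa using h), pr_cons,
        Nat.gcd_eq_right (hf x List.mem_cons_self h)]
    · rw [List.filter_cons_of_neg (by simpa using h)]
      have h1 : Nat.gcd m (x.1 ^ x.2) = 1 :=
        (Nat.Coprime.pow_left _ ((Nat.Prime.coprime_iff_not_dvd hx).2 h)).symm
      rw [h1, one_mul]

theorem eq_pr_filter {l : List (ℕ × ℕ)} (hp : ∀ x ∈ l, x.1.Prime) (hnd : (l.map Prod.fst).Nodup) {m : ℕ}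
    (hm : m ∣ pr l) (hf : ∀ x ∈ l, x.1 ∣ m → x.1 ^ x.2 ∣ m) :
    m = pr (l.filter fun x => decide (x.1 ∣ m)) := by
  rw [← gcd_pr hp hnd hf, Nat.gcd_eq_left hm]

/-- one set of primes -/
def leaf (n : ℕ) (E : List (ℕ × ℕ)) (S : List (ℕ × ℕ)) (m : ℕ) : Bool :=
  [3, 4, 12].all fun kk => E.contains (m, kk) || (m % 3 == 0 && kk != 4) || n % (m * kk) != 0 ||
    (S.any fun x => (n / (m * kk)) % (x.1 ^ x.2) != 1 % (x.1 ^ x.2)) ||
    (S.any fun x => x.2 == 1 && Nat.gcd (x.1 - 1) (m * (if kk = 12 then 3 else kk)) == 1)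

/-- all sets of primes -/
def chk (n : ℕ) (E : List (ℕ × ℕ)) : List (ℕ × ℕ) → List (ℕ × ℕ) → ℕ → Bool
  | [], S, m => m == 1 || leaf n E S m
  | x :: l, S, m => chk n E l S m && chk n E l (x :: S) (x.1 ^ x.2 * m)

theorem chk_sound {n : ℕ} {E : List (ℕ × ℕ)} (q : ℕ × ℕ → Bool) : ∀ (l S : List (ℕ × ℕ)) (m : ℕ),
    chk n E l S m = true → ∃ T : List (ℕ × ℕ), (∀ x, x ∈ T ↔ x ∈ S ∨ (x ∈ l ∧ q x = true)) ∧
      (pr (l.filter q) * m = 1 ∨ leaf n E T (pr (l.filter q) * m) = true) := by
  intro l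
  induction l with
  | nil =>
    intro S m h
    refine ⟨S, fun x => by simp, ?_⟩
    simp only [List.filter_nil, pr_nil, one_mul]
    unfold chk at h
    rw [Bool.or_eq_true, beq_iff_eq] at h
    exact h
  | cons x l ih =>
    intro S m h
    unfold chk at h
    rw [Bool.and_eq_true] at h
    by_cases hq : q x = true
    · obtain ⟨T, hT, h1⟩ := ih _ _ h.2
      refine ⟨T, fun y => ?_, ?_⟩
      · rw [hT, List.mem_cons, List.mem_cons]
        constructor
        · rintro ((rfl | h2) | ⟨h2, h3⟩)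
          · exact Or.inr ⟨Or.inl rfl, hq⟩
          · exact Or.inl h2
          · exact Or.inr ⟨Or.inr h2, h3⟩
        · rintro (h2 | ⟨rfl | h2, h3⟩)
          · exact Or.inl (Or.inr h2)
          · exact Or.inl (Or.inl rfl)
          · exact Or.inr ⟨h2, h3⟩
      · rw [List.filter_cons_of_pos hq, pr_cons]
        have e : x.1 ^ x.2 * pr (l.filter q) * m = pr (l.filter q) * (x.1 ^ x.2 * m) := by ring
        rw [e]
        exact h1
    · obtain ⟨T, hT, h1⟩ := ih _ _ h.1
      refine ⟨T, fun y => ?_, ?_⟩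
      · rw [hT, List.mem_cons]
        constructor
        · rintro (h2 | ⟨h2, h3⟩)
          · exact Or.inl h2
          · exact Or.inr ⟨Or.inr h2, h3⟩
        · rintro (h2 | ⟨rfl | h2, h3⟩)
          · exact Or.inl h2
          · exact absurd h3 hq
          · exact Or.inr ⟨h2, h3⟩
      · rw [List.filter_cons_of_neg hq]
        exact h1

/-! ### The index of `D` in its normalizer -/

section

variable {G : Type*} [Group G] [Finite G] {k : ℕ} {D : Subgroup G}

/-- `D` contains a Sylow `r`-subgroup of `G` for every prime `r` dividing `|D|` -/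
def Full (D : Subgroup G) : Prop := ∀ r : ℕ, r.Prime → r ∣ Nat.card D → ∃ P : Sylow r G, (P : Subgroup G) ≤ D

theorem full_of (h : OddTI k D) (h9 : ¬ ∀ P : Sylow 3 G, Nat.card P = 9 ∧ ∀ x ∈ (P : Subgroup G), x ^ 3 = 1) :
    Full D := by
  intro r hr hd
  rcases (show r = 2 ∨ r = 3 ∨ r = 4 ∨ 5 ≤ r by have := hr.two_le; omega) with rfl | rfl | rfl | h5
  · have h4 := h.odd
    rw [← Nat.not_even_iff_odd, even_iff_two_dvd] at h4
    exact absurd hd h4
  · exact (h.three hd).resolve_right h9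
  · exact absurd hr (by norm_num)
  · exact h.exists_sylow_le hr h5 hd

theorem full_of_bad3 (h : OddTI k D) (hb : Bad3 G) : Full D := by
  intro r hr hd
  rcases (show r = 2 ∨ r = 3 ∨ r = 4 ∨ 5 ≤ r by have := hr.two_le; omega) with rfl | rfl | rfl | h5
  · have h4 := h.odd
    rw [← Nat.not_even_iff_odd, even_iff_two_dvd] at h4
    exact absurd hd h4
  · exact absurd hd (h.not_three_dvd hb)
  · exact absurd hr (by norm_num)
  · exact h.exists_sylow_le hr h5 hd

/-- elements of `N(D)` of order prime to `|N(D):D|` are in `D` -/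
theorem mem_of_coprime_idx {y : G} (hy : y ∈ normalizer (D : Set G))
    (hc : Nat.Coprime (D.relIndex (normalizer (D : Set G))) (orderOf y)) : y ∈ D := by
  have : (D.subgroupOf (normalizer (D : Set G))).Normal := normal_in_normalizer
  have h7 : (⟨y, hy⟩ : normalizer (D : Set G)) ^ (D.subgroupOf (normalizer (D : Set G))).index ∈
      D.subgroupOf (normalizer (D : Set G)) := pow_index_mem _ _
  rw [mem_subgroupOf] at h7
  exact pow_mem_of_coprime h7 (pow_orderOf_eq_one y) hc

theorem strong (h : OddTI k D) (hN : normalizer (D : Set G) ≠ ⊤) {r : ℕ} [hr : Fact r.Prime]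
    (hd : r ∣ Nat.card D) (hi : ¬ r ∣ D.relIndex (normalizer (D : Set G))) :
    IsStronglyPEmbedded r (normalizer (D : Set G)) := by
  refine of_normIn (hd.trans (card_dvd_of_le le_normalizer)) hN ?_
  intro Q hQ hQN hQ1
  refine h.norm Q ?_ hQ1
  intro y hy
  refine mem_of_coprime_idx (hQN hy) ?_
  obtain ⟨n, hn⟩ := (IsPGroup.iff_orderOf.1 hQ) ⟨y, hy⟩
  rw [Subgroup.orderOf_mk] at hn
  rw [hn]
  exact Nat.Coprime.pow_right n ((Nat.Prime.coprime_iff_not_dvd hr.out).2 hi).symm

theorem not_dvd_relIndex (hF : Full D) {r : ℕ} (hr : r.Prime) (hd : r ∣ Nat.card D) :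
    ¬ r ∣ D.relIndex (normalizer (D : Set G)) := by
  intro h
  have := Fact.mk hr
  obtain ⟨P, hP⟩ := hF r hr hd
  have h1 : D.relIndex (normalizer (D : Set G)) ∣ D.index := Dvd.intro _ (relIndex_mul_index le_normalizer)
  have h2 : D.index ∣ (P : Subgroup G).index := index_dvd_of_le hP
  exact P.not_dvd_index ((h.trans h1).trans h2)

theorem sylow_ne_bot' {r : ℕ} [Fact r.Prime] (P : Sylow r G) (h : r ∣ Nat.card G) : (P : Subgroup G) ≠ ⊥ :=
  sylow_ne_bot h P

theorem exists_prime (h : OddTI k D) : ∃ r : ℕ, r.Prime ∧ r ∣ Nat.card D := by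
  apply Nat.exists_prime_and_dvd
  intro h1
  exact h.ne (Subgroup.eq_bot_of_card_eq D h1)

theorem relIndex_cases (h : OddTI k D) (hF : Full D) :
    (k = 3 ∧ D.relIndex (normalizer (D : Set G)) = 3) ∨
      (k = 4 ∧ (D.relIndex (normalizer (D : Set G)) = 4 ∨ D.relIndex (normalizer (D : Set G)) = 12)) := by
  obtain ⟨r, hr, hd⟩ := exists_prime h
  have := Fact.mk hr
  obtain ⟨P, hP⟩ := hF r hr hd
  have ht := h.tran r P hr hP (sylow_ne_bot' P (hd.trans (card_subgroup_dvd_card D)))
  rcases h.hk with rfl | rfl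
  · left
    refine ⟨rfl, ?_⟩
    exact Nat.dvd_antisymm (h.idx3 rfl) ht
  · right
    refine ⟨rfl, ?_⟩
    obtain ⟨c, hc⟩ := ht
    have h1 := h.idx
    rw [hc] at h1 ⊢
    have h2 : c ∣ 3 := by
      have : 4 * c ∣ 4 * 3 := h1
      exact Nat.dvd_of_mul_dvd_mul_left (by norm_num) this
    rcases (Nat.dvd_prime Nat.prime_three).1 h2 with rfl | rfl
    · left; rfl
    · right; rfl

theorem normalizer_ne_top (h : OddTI k D) [IsSimpleGroup G] (h2 : 2 ∣ Nat.card G) :
    normalizer (D : Set G) ≠ ⊤ := by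
  intro ht
  have hn : D.Normal := normalizer_eq_top_iff.1 ht
  rcases hn.eq_bot_or_eq_top with h1 | h1
  · exact h.ne h1
  · have h4 := h.odd
    rw [h1, Subgroup.card_top, ← Nat.not_even_iff_odd, even_iff_two_dvd] at h4
    exact h4 h2

/-! ### The group `A₄` -/

theorem alt_of_card {H : Subgroup (Equiv.Perm (Fin 4))} (h : Nat.card H = 12) : H = alternatingGroup (Fin 4) := by
  apply Equiv.Perm.eq_alternatingGroup_of_index_eq_two
  have h1 := H.card_mul_index
  rw [h, Nat.card_perm, Nat.card_fin] at h1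
  have h2 : Nat.factorial 4 = 24 := rfl
  omega

/-- a homomorphism into a group of order prime to `3` is trivial if its kernel contains the kernel of a
homomorphism onto `A₄` -/
theorem eq_one_of_alt {N A : Type*} [Group N] [Group A] (f : N →* Equiv.Perm (Fin 4))
    (hf : Nat.card f.range = 12) (ψ : N →* A) (hk : f.ker ≤ ψ.ker) (hA : ∀ a : A, a ^ 3 = 1 → a = 1) (y : N) :
    ψ y = 1 := by
  have h1 : alternatingGroup (Fin 4) ≤ ψ.ker.map f := by
    rw [← Equiv.Perm.closure_three_cycles_eq_alternating, closure_le]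
    intro c hc
    have hc1 : c ∈ f.range := by
      rw [alt_of_card hf, ← Equiv.Perm.closure_three_cycles_eq_alternating]
      exact subset_closure hc
    obtain ⟨y, rfl⟩ := hc1
    have h3 : (f y) ^ 3 = 1 := by
      have := Equiv.Perm.IsThreeCycle.orderOf hc
      rw [← this, pow_orderOf_eq_one]
    have h4 : y ^ 3 ∈ ψ.ker := hk (by rw [MonoidHom.mem_ker, map_pow, h3])
    rw [MonoidHom.mem_ker, map_pow] at h4
    exact ⟨y, hA _ h4, rfl⟩
  have h2 : f y ∈ ψ.ker.map f := by
    apply h1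
    rw [← alt_of_card hf]
    exact ⟨y, rfl⟩
  obtain ⟨z, hz, hzy⟩ := h2
  have h5 : y * z⁻¹ ∈ ψ.ker := hk (by rw [MonoidHom.mem_ker, map_mul, map_inv, hzy, mul_inv_cancel])
  have h6 : ψ (y * z⁻¹) = 1 := h5
  have h7 : ψ z = 1 := hz
  rw [map_mul, map_inv, h7, inv_one, mul_one] at h6
  exact h6

/-- **Burnside**: `gcd(r - 1, |D| k'') ≠ 1` -/
theorem gcd_ne_one (h : OddTI k D) (hF : Full D) [IsSimpleGroup G] (hna : ¬ ∀ a b : G, a * b = b * a)
    {r : ℕ} (hr : r.Prime) (hd : r ∣ Nat.card D) (hr2 : ¬ r ^ 2 ∣ Nat.card G)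
    (hgcd : Nat.Coprime (r - 1) (Nat.card D * (if D.relIndex (normalizer (D : Set G)) = 12 then 3
      else D.relIndex (normalizer (D : Set G))))) : False := by
  have := Fact.mk hr
  obtain ⟨P, hP⟩ := hF r hr hd
  have hdG : r ∣ Nat.card G := hd.trans (card_subgroup_dvd_card D)
  have hPr : Nat.card (P : Subgroup G) = r := by
    have h1 := P.card_eq_multiplicity
    rw [H904.SylOne.factorization_eq_one Nat.card_pos.ne' hdG hr2, pow_one] at h1
    exact h1
  have hP1 : (P : Subgroup G) ≠ ⊥ := sylow_ne_bot' P hdG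
  have hNP : normalizer ((P : Subgroup G) : Set G) ≤ normalizer (D : Set G) := h.norm _ hP hP1
  refine H940.Eng.centralizer_ne_normalizer hna hr hPr hr2 ?_
  let ψ := (P : Subgroup G).normalizerMonoidHom
  have hcyc : IsCyclic (P : Subgroup G) := isCyclic_of_prime_card hPr
  have hfin : Finite (MulAut (P : Subgroup G)) :=
    Finite.of_injective (fun f : MulAut (P : Subgroup G) => ⇑f) DFunLike.coe_injective
  have hA : Nat.card (MulAut (P : Subgroup G)) = r - 1 := by
    rw [IsCyclic.card_mulAut, hPr, Nat.totient_prime hr]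
  suffices hψ : ∀ y : normalizer ((P : Subgroup G) : Set G), ψ y = 1 by
    intro y hy
    have h1 : (⟨y, hy⟩ : normalizer ((P : Subgroup G) : Set G)) ∈ ψ.ker := hψ _
    rw [Subgroup.normalizerMonoidHom_ker, mem_subgroupOf] at h1
    exact h1
  have key : ∀ (a : MulAut (P : Subgroup G)) (m : ℕ), Nat.Coprime (r - 1) m → a ^ m = 1 → a = 1 := by
    intro a m hm ha
    have h1 : orderOf a ∣ m := orderOf_dvd_of_pow_eq_one ha
    have h2 : orderOf a ∣ r - 1 := by rw [← hA]; exact orderOf_dvd_natCard a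
    rw [← orderOf_eq_one_iff]
    exact Nat.eq_one_of_dvd_coprimes hm h2 h1
  have hD := Nat.Coprime.coprime_mul_right_right hgcd
  have hk := Nat.Coprime.coprime_mul_left_right hgcd
  by_cases h12 : D.relIndex (normalizer (D : Set G)) = 12
  · rw [if_pos h12] at hk
    obtain ⟨f, hf⟩ := h.hom
    let f' : normalizer ((P : Subgroup G) : Set G) →* Equiv.Perm (Fin 4) := f.comp (inclusion hNP)
    have hker : ∀ y, f' y = 1 ↔ (y : G) ∈ D := fun y => hf (inclusion hNP y)
    have hDcop : Nat.Coprime 12 (Nat.card D) := by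
      have h3 : ¬ 3 ∣ Nat.card D := by
        intro h3
        exact not_dvd_relIndex hF Nat.prime_three h3 (by rw [h12]; norm_num)
      have e : 12 = 4 * 3 := rfl
      rw [e]
      refine Nat.Coprime.mul_left ?_ ((Nat.Prime.coprime_iff_not_dvd Nat.prime_three).2 h3)
      have := Nat.Coprime.pow_left 2 (Nat.coprime_two_left.2 h.odd)
      simpa using this
    have hrange : Nat.card f'.range = 12 := by
      have h1 : Nat.card (normalizer ((P : Subgroup G) : Set G)) = Nat.card f'.range * Nat.card f'.ker := by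
        rw [Nat.card_congr (QuotientGroup.quotientKerEquivRange f').toEquiv.symm]
        exact Subgroup.card_eq_card_quotient_mul_card_subgroup _
      have h2 : Nat.card f'.ker ∣ Nat.card D := by
        have h3 : f'.ker.map (normalizer ((P : Subgroup G) : Set G)).subtype ≤ D := by
          rintro _ ⟨y, hy, rfl⟩
          exact (hker y).1 hy
        have h4 := card_dvd_of_le h3
        rwa [Subgroup.card_map_of_injective (subtype_injective _)] at h4
      have h3 := h.relIndex_dvd hr hP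
      rw [h12, h1] at h3
      have h4 : 12 ∣ Nat.card f'.range :=
        (Nat.Coprime.coprime_dvd_right h2 hDcop).dvd_of_dvd_mul_right h3
      have h5 : Nat.card f'.range ∣ 12 := by
        have h6 : Nat.card f.range = 12 := by
          have h7 : Nat.card (normalizer (D : Set G)) = Nat.card f.range * Nat.card f.ker := by
            rw [Nat.card_congr (QuotientGroup.quotientKerEquivRange f).toEquiv.symm]
            exact Subgroup.card_eq_card_quotient_mul_card_subgroup _
          have h8 : Nat.card f.ker = Nat.card D := by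
            have h9 : f.ker = D.subgroupOf (normalizer (D : Set G)) := by
              ext y
              rw [MonoidHom.mem_ker, hf, mem_subgroupOf]
            rw [h9]
            exact Nat.card_congr (subgroupOfEquivOfLe le_normalizer).toEquiv
          rw [h8, card_normalizer_eq, h12, mul_comm] at h7
          exact (Nat.eq_of_mul_eq_mul_right Nat.card_pos h7).symm
        rw [← h6]
        refine card_dvd_of_le ?_
        rintro _ ⟨y, rfl⟩
        exact ⟨_, rfl⟩
      exact Nat.dvd_antisymm h5 h4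
    refine eq_one_of_alt f' hrange ψ ?_ (fun a ha => key a 3 hk ha)
    intro y hy
    have hyD : (y : G) ∈ D := (hker y).1 hy
    have h0 : (y : G) ^ Nat.card D = 1 := by
      have : (⟨(y : G), hyD⟩ : D) ^ Nat.card D = 1 := pow_card_eq_one'
      exact congrArg Subtype.val this
    have h1 : y ^ Nat.card D = 1 := Subtype.ext h0
    refine key _ (Nat.card D) hD ?_
    rw [← map_pow, h1, map_one]
  · rw [if_neg h12] at hk
    intro y
    have h1 : (y : G) ^ Nat.card (normalizer (D : Set G)) = 1 := by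
      have : (⟨(y : G), hNP y.2⟩ : normalizer (D : Set G)) ^ Nat.card (normalizer (D : Set G)) = 1 :=
        pow_card_eq_one'
      exact congrArg Subtype.val this
    refine key _ (Nat.card (normalizer (D : Set G))) ?_ ?_
    · rw [card_normalizer_eq]
      exact Nat.Coprime.mul_right hD hk
    · rw [← map_pow]
      have : y ^ Nat.card (normalizer (D : Set G)) = 1 := Subtype.ext h1
      rw [this, map_one]

/-- **The numerical engine.** -/
theorem cases (h : OddTI k D) (hF : Full D) [IsSimpleGroup G] (hna : ¬ ∀ a b : G, a * b = b * a)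
    (h2 : 2 ∣ Nat.card G) {l lo E : List (ℕ × ℕ)}
    (hp : ∀ x ∈ l, x.1.Prime) (hnd : (l.map Prod.fst).Nodup) (hn : Nat.card G = pr l) {n : ℕ} (hn' : Nat.card G = n)
    (hlo : lo = l.filter fun x => x.1 != 2) (hc : chk n E lo [] 1 = true) :
    (Nat.card D, D.relIndex (normalizer (D : Set G))) ∈ E := by
  have hdvd : ∀ x ∈ l, x.1 ^ x.2 ∣ Nat.card G := by
    intro x hx
    rw [hn]
    exact List.dvd_prod (List.mem_map.2 ⟨x, hx, rfl⟩)
  have hsyl : ∀ x ∈ l, x.1 ∣ Nat.card D → ∃ P : Sylow x.1 G, (P : Subgroup G) ≤ D ∧ x.1 ^ x.2 ∣ Nat.card P := by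
    intro x hx hd
    have := Fact.mk (hp x hx)
    obtain ⟨P, hP⟩ := hF _ (hp x hx) hd
    exact ⟨P, hP, P.pow_dvd_card_of_pow_dvd_card (hdvd x hx)⟩
  have hlol : ∀ x ∈ lo, x ∈ l := fun x hx => by rw [hlo] at hx; exact (List.mem_filter.1 hx).1
  have hodd : ¬ 2 ∣ Nat.card D := by
    have h4 := h.odd
    rwa [← Nat.not_even_iff_odd, even_iff_two_dvd] at h4
  have hD : Nat.card D = pr (lo.filter fun x => decide (x.1 ∣ Nat.card D)) := by
    have h1 := eq_pr_filter hp hnd (m := Nat.card D) (by rw [← hn]; exact card_subgroup_dvd_card D) (fun x hx hd => by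
      obtain ⟨P, hP, h3⟩ := hsyl x hx hd
      exact h3.trans (card_dvd_of_le hP))
    rw [hlo, List.filter_filter]
    have h3 : (l.filter fun x => decide (x.1 ∣ Nat.card D)) =
        l.filter fun x => (decide (x.1 ∣ Nat.card D) && x.1 != 2) := by
      apply List.filter_congr
      intro x hx
      by_cases hx2 : x.1 = 2
      · rw [hx2]
        simp [hodd]
      · simp [hx2]
    rw [← h3]
    exact h1
  obtain ⟨T, hT, h3⟩ := chk_sound (fun x => decide (x.1 ∣ Nat.card D)) lo [] 1 hc
  rw [mul_one, ← hD] at h3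
  rcases h3 with h3 | h3
  · exact absurd (Subgroup.eq_bot_of_card_eq D h3) h.ne
  have hTl : ∀ x ∈ T, x ∈ l ∧ x.1 ∣ Nat.card D := by
    intro x hx
    rcases (hT x).1 hx with h4 | ⟨h4, h5⟩
    · exact absurd h4 List.not_mem_nil
    · exact ⟨hlol x h4, by simpa using h5⟩
  have hNt := normalizer_ne_top h h2
  have hcard : n = Nat.card D * D.relIndex (normalizer (D : Set G)) * (normalizer (D : Set G)).index := by
    rw [← card_normalizer_eq, card_mul_index, hn']
  have hkk : D.relIndex (normalizer (D : Set G)) ∈ [3, 4, 12] := by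
    rcases relIndex_cases h hF with ⟨-, h4⟩ | ⟨-, h4 | h4⟩ <;> rw [h4] <;> decide
  have hidx0 : 0 < Nat.card D * D.relIndex (normalizer (D : Set G)) := by
    rw [← card_normalizer_eq]
    exact Nat.card_pos
  unfold leaf at h3
  rw [List.all_eq_true] at h3
  have h4 := h3 _ hkk
  simp only [Bool.or_eq_true, Bool.and_eq_true, bne_iff_ne, beq_iff_eq, List.any_eq_true, List.contains_iff_mem] at h4
  rcases h4 with (((h4 | h4) | h4) | h4) | h4
  · exact h4
  · exfalso
    have h5 : 3 ∣ Nat.card D := Nat.dvd_of_mod_eq_zero h4.1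
    have h6 := not_dvd_relIndex hF Nat.prime_three h5
    rcases relIndex_cases h hF with ⟨-, h7⟩ | ⟨-, h7 | h7⟩
    · rw [h7] at h6; exact h6 (by norm_num)
    · exact h4.2 h7
    · rw [h7] at h6; exact h6 (by norm_num)
  · exfalso
    apply h4
    rw [hcard]
    exact Nat.mul_mod_right _ _
  · exfalso
    obtain ⟨x, hx, h5⟩ := h4
    obtain ⟨hxl, hxd⟩ := hTl x hx
    obtain ⟨P, hP, hPd⟩ := hsyl x hxl hxd
    have := Fact.mk (hp x hxl)
    obtain ⟨c, hc⟩ := H998.StrP.index_mod (strong h hNt hxd (not_dvd_relIndex hF (hp x hxl) hxd)) P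
    apply h5
    have h6 : n / (Nat.card D * D.relIndex (normalizer (D : Set G))) = (normalizer (D : Set G)).index := by
      rw [hcard]
      exact Nat.mul_div_cancel_left _ hidx0
    rw [h6, hc]
    obtain ⟨a, ha⟩ := hPd
    have hPc : Nat.card (P : Subgroup G) = x.1 ^ x.2 * a := ha
    rw [hPc]
    have h7 : 1 + c * (x.1 ^ x.2 * a) = 1 + x.1 ^ x.2 * (c * a) := by ring
    rw [h7, Nat.add_mul_mod_self_left]
  · exfalso
    obtain ⟨x, hx, hx1, h5⟩ := h4
    obtain ⟨hxl, hxd⟩ := hTl x hx
    refine gcd_ne_one h hF hna (hp x hxl) hxd ?_ h5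
    -- `x.1 ^ 2` does not divide `|G|`
    intro hsq
    obtain ⟨l₁, l₂, hl⟩ := List.append_of_mem hxl
    have hmap : l.map Prod.fst = l₁.map Prod.fst ++ x.1 :: l₂.map Prod.fst := by
      rw [hl, List.map_append, List.map_cons]
    rw [hmap, List.nodup_append, List.nodup_cons] at hnd
    obtain ⟨-, ⟨hn2, -⟩, hn3⟩ := hnd
    have hc1 : Nat.Coprime x.1 (pr l₁) := coprime_pr (fun y hy => hp y (by rw [hl]; simp [hy])) (hp x hxl)
      (fun hm => hn3 _ hm _ List.mem_cons_self rfl)
    have hc2 : Nat.Coprime x.1 (pr l₂) := coprime_pr (fun y hy => hp y (by rw [hl]; simp [hy])) (hp x hxl) hn2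
    have hpr : pr l = x.1 * (pr l₁ * pr l₂) := by
      rw [hl]
      unfold pr
      rw [List.map_append, List.prod_append, List.map_cons, List.prod_cons, hx1, pow_one]
      ring
    rw [hn, hpr, pow_two] at hsq
    have h6 := Nat.dvd_of_mul_dvd_mul_left (hp x hxl).pos hsq
    have h7 := (hc1.mul_right hc2)
    rw [Nat.Prime.coprime_iff_not_dvd (hp x hxl)] at h7
    exact h7 h6

end

end Cfsg.Agent.H315.FxNum
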