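import Mathlib

/-!
# No group of odd order divisible by 35 acts faithfully on a group of order 16 (helper315)
-/

set_option autoImplicit false
set_option linter.unusedSectionVars false

namespace Cfsg.Agent.H315.NoAct

open Subgroup

variable {A S : Type*} [Group A] [Finite A] [Group S] [Finite S] [MulDistribMulAction A S]

/-- the fixed points of a subgroup -/
def Fx (S : Type*) [Group S] [MulDistribMulAction A S] (P : Subgroup A) : Subgroup S where
  carrier := {s | ∀ p ∈ P, p • s = s}
  one_mem' := fun p _ => smul_one p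
  mul_mem' := fun {a b} ha hb p hp => by rw [smul_mul', ha p hp, hb p hp]
  inv_mem' := fun {a} ha p hp => by rw [smul_inv', ha p hp]

theorem mem_Fx {P : Subgroup A} {s : S} : s ∈ Fx S P ↔ ∀ p ∈ P, p • s = s := Iff.rfl

theorem modEq {p : ℕ} [Fact p.Prime] {P : Subgroup A} (hP : IsPGroup p P) :
    Nat.card S ≡ Nat.card (Fx S P) [MOD p] := by
  have h1 := hP.card_modEq_card_fixedPoints S
  have h2 : Nat.card (MulAction.fixedPoints P S) = Nat.card (Fx S P) := by
    apply Nat.card_congr
    refine Equiv.subtypeEquivRight fun s => ?_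
    rw [MulAction.mem_fixedPoints]
    exact ⟨fun h p hp => h ⟨p, hp⟩, fun h p => h p p.2⟩
  rwa [h2] at h1

theorem card_Fx (hS : Nat.card S = 16) (P : Subgroup A) : Nat.card (Fx S P) ∣ 16 := by
  rw [← hS]; exact card_subgroup_dvd_card _

theorem eq_bot_of_card [FaithfulSMul A S] (hS : Nat.card S = 16) {P : Subgroup A} (h : Nat.card (Fx S P) = 16) :
    P = ⊥ := by
  have h1 : Fx S P = ⊤ := by
    apply Subgroup.eq_top_of_card_eq
    rw [h, hS]
  rw [eq_bot_iff]
  intro p hp
  rw [mem_bot]
  apply FaithfulSMul.eq_of_smul_eq_smul (α := S)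
  intro s
  have h2 : s ∈ Fx S P := by rw [h1]; exact mem_top s
  rw [h2 p hp, one_smul]

/-- a nontrivial 5-group has no fixed points -/
theorem five [FaithfulSMul A S] (hS : Nat.card S = 16) {P : Subgroup A} (hP : IsPGroup 5 P) (hne : P ≠ ⊥) :
    Fx S P = ⊥ := by
  have : Fact (Nat.Prime 5) := ⟨by norm_num⟩
  have h1 := modEq (S := S) hP
  have h2 := card_Fx hS P
  rw [hS] at h1
  have h3 : Nat.card (Fx S P) ∈ Nat.divisors 16 := Nat.mem_divisors.2 ⟨h2, by norm_num⟩
  have h4 : Nat.divisors 16 = {1, 2, 4, 8, 16} := by decide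
  rw [h4] at h3
  simp only [Finset.mem_insert, Finset.mem_singleton] at h3
  rcases h3 with h | h | h | h | h
  · exact Subgroup.card_eq_one.1 h
  all_goals first
    | exact absurd (eq_bot_of_card hS h) hne
    | (rw [h] at h1; exact absurd h1 (by decide))

/-- a nontrivial 7-group has exactly one fixed point besides 1 -/
theorem seven [FaithfulSMul A S] (hS : Nat.card S = 16) {P : Subgroup A} (hP : IsPGroup 7 P) (hne : P ≠ ⊥) :
    Nat.card (Fx S P) = 2 := by
  have : Fact (Nat.Prime 7) := ⟨by norm_num⟩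
  have h1 := modEq (S := S) hP
  have h2 := card_Fx hS P
  rw [hS] at h1
  have h3 : Nat.card (Fx S P) ∈ Nat.divisors 16 := Nat.mem_divisors.2 ⟨h2, by norm_num⟩
  have h4 : Nat.divisors 16 = {1, 2, 4, 8, 16} := by decide
  rw [h4] at h3
  simp only [Finset.mem_insert, Finset.mem_singleton] at h3
  rcases h3 with h | h | h | h | h
  all_goals first
    | exact h
    | exact absurd (eq_bot_of_card hS h) hne
    | (rw [h] at h1; exact absurd h1 (by decide))

theorem no_act [FaithfulSMul A S] (hS : Nat.card S = 16) (hA : Odd (Nat.card A)) (h5 : 5 ∣ Nat.card A)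
    (h7 : 7 ∣ Nat.card A) : False := by
  have f5 : Fact (Nat.Prime 5) := ⟨by norm_num⟩
  have f7 : Fact (Nat.Prime 7) := ⟨by norm_num⟩
  obtain ⟨P⟩ : Nonempty (Sylow 5 A) := inferInstance
  -- elements of order 5 act freely
  have hfree : ∀ x : A, x ^ 5 = 1 → x ≠ 1 → ∀ v : S, x • v = v → v = 1 := by
    intro x hx hx1 v hv
    have hZ : IsPGroup 5 (zpowers x) := by
      rintro ⟨y, k, rfl⟩
      refine ⟨1, Subtype.ext ?_⟩
      change (x ^ k) ^ (5 ^ 1) = 1
      rw [pow_one, ← zpow_natCast, ← zpow_mul, mul_comm, zpow_mul, zpow_natCast, hx, one_zpow]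
    have h1 := five hS hZ (fun h => hx1 (zpowers_eq_bot.1 h))
    have h2 : v ∈ Fx S (zpowers x) := by
      intro p hp
      have h3 : x ∈ MulAction.stabilizer A v := hv
      exact (zpowers_le.2 h3) hp
    rw [h1, mem_bot] at h2
    exact h2
  have hP5 : Nat.card ↥(P : Subgroup A) = 5 := by
    obtain ⟨k, hk⟩ := P.isPGroup'.exists_card_eq
    have hk1 : 5 ∣ Nat.card ↥(P : Subgroup A) := P.dvd_card_of_dvd_card h5
    -- injection into `S \ {1}`
    obtain ⟨v, hv⟩ : ∃ v : S, v ≠ 1 := by
      have : Nontrivial S := Finite.one_lt_card_iff_nontrivial.1 (by rw [hS]; norm_num)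
      exact exists_ne 1
    have hinj : Function.Injective fun p : ↥(P : Subgroup A) => ((p : A) • v) := by
      intro p q hpq
      by_contra hne
      have h1 : ((q : A)⁻¹ * p) • v = v := by
        rw [mul_smul, inv_smul_eq_iff]
        exact hpq
      have h2 : (q : A)⁻¹ * p ≠ 1 := fun h => hne (Subtype.ext (inv_mul_eq_one.1 h).symm)
      -- some power has order 5
      obtain ⟨z, hz⟩ : ∃ z : A, z = (q : A)⁻¹ * p := ⟨_, rfl⟩
      rw [← hz] at h1 h2
      have hzP : z ∈ P := by rw [hz]; exact mul_mem (inv_mem q.2) p.2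
      have hZ : IsPGroup 5 (zpowers z) := P.isPGroup'.to_le (zpowers_le.2 hzP)
      have h3 := five hS hZ (fun h => h2 (zpowers_eq_bot.1 h))
      have h4 : v ∈ Fx S (zpowers z) := by
        intro p hp
        have h5 : z ∈ MulAction.stabilizer A v := h1
        exact (zpowers_le.2 h5) hp
      rw [h3, mem_bot] at h4
      exact hv h4
    have hle := Nat.card_le_card_of_injective _ hinj
    rw [hS, hk] at hle
    rw [hk] at hk1 ⊢
    have hk2 : k < 2 := by
      by_contra hcon
      have : 5 ^ 2 ≤ 5 ^ k := Nat.pow_le_pow_right (by norm_num) (by omega)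
      omega
    interval_cases k
    · norm_num at hk1
    · norm_num
  -- Burnside
  have hcyc : IsCyclic ↥(P : Subgroup A) := isCyclic_of_prime_card hP5
  have hNC : normalizer (P : Set A) ≤ centralizer (P : Set A) := by
    have key := card_dvd_of_injective _ (QuotientGroup.kerLift_injective (P : Subgroup A).normalizerMonoidHom)
    rw [normalizerMonoidHom_ker, ← index, ← relIndex] at key
    refine relIndex_eq_one.mp (Nat.eq_one_of_dvd_coprimes ?_ dvd_rfl key)
    have h1 : Nat.card (MulAut ↥(P : Subgroup A)) = 4 := by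
      rw [hcyc.card_mulAut, hP5]
      decide
    rw [h1]
    have h2 : Odd ((centralizer (P : Set A)).relIndex (normalizer (P : Set A))) :=
      hA.of_dvd_nat ((relIndex_dvd_card _ _).trans (card_subgroup_dvd_card _))
    have h3 : (4 : ℕ) = 2 ^ 2 := by norm_num
    rw [h3]
    exact (Nat.Coprime.pow_right 2 (Nat.coprime_two_right.2 h2))
  have hcompl := MonoidHom.ker_transferSylow_isComplement' P hNC
  obtain ⟨K, hK⟩ : ∃ K, K = (MonoidHom.transferSylow P hNC).ker := ⟨_, rfl⟩
  rw [← hK] at hcompl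
  have hKn : K.Normal := by rw [hK]; infer_instance
  have hKcard := hcompl.card_mul_card
  rw [hP5] at hKcard
  have hKidx : K.index = 5 := by
    have h1 := K.card_mul_index
    have h2 : Nat.card K ≠ 0 := Nat.card_pos.ne'
    have h3 : Nat.card K * K.index = Nat.card K * 5 := by rw [h1, hKcard]
    exact Nat.eq_of_mul_eq_mul_left (Nat.pos_of_ne_zero h2) h3
  have hK7 : 7 ∣ Nat.card K := by
    rw [← hKcard] at h7
    exact ((Nat.Prime.dvd_mul (by norm_num)).1 h7).resolve_right (by norm_num)
  obtain ⟨Q⟩ : Nonempty (Sylow 7 K) := inferInstance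
  have hfr := Sylow.normalizer_sup_eq_top Q
  obtain ⟨R, hR⟩ : ∃ R : Subgroup A, R = (Q : Subgroup K).map K.subtype := ⟨_, rfl⟩
  rw [← hR] at hfr
  have hR7 : IsPGroup 7 R := by rw [hR]; exact Q.isPGroup'.map _
  have hRne : R ≠ ⊥ := by
    rw [hR, Ne, Subgroup.map_eq_bot_iff_of_injective _ K.subtype_injective]
    intro h
    have h1 : 7 ∣ Nat.card Q := Q.dvd_card_of_dvd_card hK7
    have h2 : Nat.card ↥(Q : Subgroup K) = 1 := by rw [h]; exact card_bot
    have h3 : Nat.card Q = 1 := h2
    rw [h3] at h1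
    norm_num at h1
  -- an element of order 5 normalising `R`
  have hN5 : 5 ∣ Nat.card (normalizer (R : Set A)) := by
    obtain ⟨N, hN⟩ : ∃ N : Subgroup A, N = normalizer (R : Set A) := ⟨_, rfl⟩
    rw [← hN] at hfr ⊢
    have h1 : K.relIndex (N ⊔ K) = K.relIndex N := relIndex_sup_right N K
    rw [hfr, relIndex_top_right, hKidx] at h1
    have h3 : K.relIndex N ∣ Nat.card N := relIndex_dvd_card K N
    rwa [← h1] at h3
  obtain ⟨x, hx⟩ := exists_prime_orderOf_dvd_card' 5 hN5
  have hx5 : (x : A) ^ 5 = 1 := by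
    have := pow_orderOf_eq_one x
    rw [hx] at this
    exact congrArg Subtype.val this
  have hx1 : (x : A) ≠ 1 := by
    intro h
    have : x = 1 := Subtype.ext h
    rw [this, orderOf_one] at hx
    norm_num at hx
  -- the fixed point of `R`
  have h2 := seven hS hR7 hRne
  obtain ⟨v, hv, hv1⟩ : ∃ v ∈ Fx S R, v ≠ 1 := by
    by_contra hcon
    push Not at hcon
    have : Fx S R = ⊥ := by rw [eq_bot_iff]; exact fun v hv => mem_bot.2 (hcon v hv)
    rw [this, card_bot] at h2
    norm_num at h2
  have huniq : ∀ w ∈ Fx S R, w ≠ 1 → w = v := by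
    intro w hw hw1
    obtain ⟨y, -, hy⟩ := (Nat.card_eq_two_iff' (⟨1, one_mem _⟩ : Fx S R)).1 h2
    have h3 := hy ⟨w, hw⟩ (fun h => hw1 (congrArg Subtype.val h))
    have h4 := hy ⟨v, hv⟩ (fun h => hv1 (congrArg Subtype.val h))
    exact congrArg Subtype.val (h3.trans h4.symm)
  have hxv : (x : A) • v = v := by
    refine huniq _ ?_ ?_
    · intro r hr
      have h3 : (x : A)⁻¹ * r * x ∈ R := by
        have h4 := (mem_normalizer_iff.1 (inv_mem x.2) r).1 hr
        rwa [inv_inv] at h4
      have h4 := hv _ h3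
      calc r • (x : A) • v = (x : A) • (((x : A)⁻¹ * r * x) • v) := by
            rw [smul_smul, smul_smul]; congr 1; group
        _ = _ := by rw [h4]
    · intro h
      apply hv1
      rwa [smul_eq_iff_eq_inv_smul, smul_one] at h
  exact hv1 (hfree _ hx5 hx1 v hxv)

end Cfsg.Agent.H315.NoAct
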