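import Cfsg.Agent.H217.Odm.Eng
import Cfsg.Agent.H773.Pw.Spor

/-!
# The trick with the normalizer, from the order of a centralizer (helper315, for S2454)

* `pw_rel` : `l ∥ |K|`, `y` of order `l` with `|C(y)| = l c`; the index `e = |N(⟨y⟩) : C(y)|` is found from
  `c e ≡ |K| / l` modulo `l`; for every prime `p` dividing `e` the element `y` is a product of two `p`-elements.
* `pw_prod` : a product of two `p`-elements of prime order `l`.
-/

set_option autoImplicit false

namespace Cfsg.Agent.H315.PwTool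

open Subgroup Cfsg Cfsg.Agent Cfsg.Agent.H514.DP Cfsg.Agent.H773.Pw

universe u

section

variable {K : Type u} [Group K] [Finite K]

omit [Finite K] in
theorem cent_zpowers (x : K) : centralizer ((zpowers x : Subgroup K) : Set K) = centralizer ({x} : Set K) := by
  ext g
  rw [mem_centralizer_iff, mem_centralizer_iff]
  constructor
  · rintro h _ rfl
    exact h _ (mem_zpowers _)
  · intro h y hy
    obtain ⟨k, rfl⟩ := mem_zpowers_iff.1 hy
    exact ((show Commute x g from h x rfl).zpow_left k)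

theorem dvd_rel {m e p : ℕ} {x : K} (hc : Nat.card (centralizer ({x} : Set K)) = m)
    (hN : Nat.card (normalizer ((zpowers x : Subgroup K) : Set K)) = m * e) (hp : p ∣ e) :
    p ∣ (centralizer ((zpowers x : Subgroup K) : Set K)).relIndex (normalizer ((zpowers x : Subgroup K) : Set K)) := by
  have h1 := Subgroup.relIndex_mul_relIndex ⊥ (centralizer ((zpowers x : Subgroup K) : Set K))
    (normalizer ((zpowers x : Subgroup K) : Set K)) bot_le (centralizer_le_normalizer _)
  rw [Subgroup.relIndex_bot_left, Subgroup.relIndex_bot_left, hN, cent_zpowers, hc] at h1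
  have hm : 0 < m := hc ▸ Nat.card_pos
  rw [cent_zpowers, Nat.eq_of_mul_eq_mul_left hm h1]
  exact hp

theorem pw_rel [IsSimpleGroup K] (hna : ¬ ∀ a b : K, a * b = b * a) {p l n c e D k : ℕ} (hp : p.Prime) (hl : l.Prime)
    (hn : Nat.card K = l * n) (hln : n % l ≠ 0) {y : K} (hy : orderOf y = l)
    (hc : Nat.card (centralizer ({y} : Set K)) = l * c) (he : e < l) (hmod : (c * e) % l = n % l) (hd : p ∣ e)
    (hD : MinDeg K D) (hk : 3 ≤ k) (hC : (l * c - 1) ^ k < D ^ (2 * k - 4)) (hN : 2 * k ≤ 70) : PW p 70 K := by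
  have h1 := (Cfsg.Agent.H217.Odm.norm_of_cent hl hn hln hy hc he hmod).1
  rw [← mul_assoc] at h1
  exact pw_of_norm hna hp hl hy (dvd_rel hc h1 hd) hD hc.le hk hC hN

theorem pw_prod [IsSimpleGroup K] (hna : ¬ ∀ a b : K, a * b = b * a) {p D k c : ℕ} {a b : K} (ha : IsPE p a)
    (hb : IsPE p b) (hD : MinDeg K D) (hc : Nat.card (centralizer ({a * b} : Set K)) ≤ c) (hk : 3 ≤ k)
    (hC : (c - 1) ^ k < D ^ (2 * k - 4)) (hN : 2 * k ≤ 70) : PW p 70 K :=
  pw_of_pe hna (ha.pe.mul hb.pe) hD hc hk hC hN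

end

end Cfsg.Agent.H315.PwTool
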