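import Cfsg.Agent.H315.PwThData
import Cfsg.Agent.H315.PwTool
import Cfsg.Agent.H981.Inv.ThDataC
import Cfsg.Agent.H491.PB.ThC

/-!
# Products of `p`-elements in the Thompson group (helper315, for S2454)

* `pw_th` : `PW p 70` for the Thompson group and every prime divisor `p` of its order.

An element of order 31 has centralizer of order 31 and `|N : C| = 15`, one of order 19 has centralizer of order 19 and
`|N : C| = 18`; explicit elements of order 7 and 13 invert-and-multiply to elements of order 19.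
-/

set_option autoImplicit false
set_option maxRecDepth 100000

namespace Cfsg.Agent.H315.PwTh

open Subgroup Cfsg Cfsg.Agent Cfsg.Agent.Th.Gen248 Cfsg.Agent.H981.InvThData Cfsg.Agent.H315.PwThData
open Cfsg.Agent.H514.DP Cfsg.Agent.H773.Pw Cfsg.Agent.H315.PwTool
open Cfsg.Agent.ThType.Seven (W rho_W W_mul W_inv W_pow W_one W_eq W_ne)

theorem isTh : Cfsg.IsTh Spor.Th := Cfsg.Agent.Th.Main1700.isTh

instance simple : IsSimpleGroup Spor.Th := isTh.1

theorem card_Th : Nat.card Spor.Th = 90745943887872000 := Cfsg.Agent.Th.Main1700.final.2.1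

instance fin : Finite Spor.Th := Cfsg.Agent.Th.Main1700.final.1

theorem notComm : ¬ ∀ a b : Spor.Th, a * b = b * a :=
  H253.TC.not_comm_of_card card_Th (by norm_num) (p := 31) (by norm_num) (by norm_num) (by norm_num)

theorem deg : MinDeg Spor.Th 16 :=
  minDeg_of_prime card_Th (by norm_num) (l := 31) (by norm_num) (by norm_num) (by norm_num) (by norm_num) (by norm_num)
    (by norm_num) (by norm_num)

theorem exists31 : ∃ y : Spor.Th, orderOf y = 31 := exists_order (by norm_num) (by rw [card_Th]; norm_num)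

theorem exists19 : ∃ y : Spor.Th, orderOf y = 19 := exists_order (by norm_num) (by rw [card_Th]; norm_num)

/-- the primes 3 and 5 -/
theorem pw_a {p : ℕ} (hp : p.Prime) (hd : p ∣ 15) : PW p 70 Spor.Th := by
  obtain ⟨y, hy⟩ := exists31
  exact pw_rel notComm hp (l := 31) (n := 2927288512512000) (c := 1) (e := 15) (k := 6) (by norm_num)
    (by rw [card_Th]) (by norm_num) hy (Cfsg.Agent.H491.PB.Th.card_thirtyone hy) (by norm_num) (by norm_num) hd deg
    (by norm_num) (by norm_num) (by norm_num)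

/-- the prime 2 -/
theorem pw_two : PW 2 70 Spor.Th := by
  obtain ⟨y, hy⟩ := exists19
  exact pw_rel notComm Nat.prime_two (l := 19) (n := 4776102309888000) (c := 1) (e := 18) (k := 6) (by norm_num)
    (by rw [card_Th]) (by norm_num) hy (Cfsg.Agent.H491.PB.Th.card_nineteen hy) (by norm_num) (by norm_num)
    (by norm_num) deg (by norm_num) (by norm_num) (by norm_num)

theorem pw31 : PW 31 70 Spor.Th :=
  pw_of_order notComm (by norm_num) (by rw [card_Th]; norm_num) deg (c := 31)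
    (fun _ hy => (Cfsg.Agent.H491.PB.Th.card_thirtyone hy).le) (k := 6) (by norm_num) (by norm_num) (by norm_num)

theorem pw19 : PW 19 70 Spor.Th :=
  pw_of_order notComm (by norm_num) (by rw [card_Th]; norm_num) deg (c := 19)
    (fun _ hy => (Cfsg.Agent.H491.PB.Th.card_nineteen hy).le) (k := 6) (by norm_num) (by norm_num) (by norm_num)

/-! ### orders 7 and 13 -/

theorem W_pow_one {w : Wd} {n : ℕ} (h : evG w ^ n = 1) : W w ^ n = 1 := by
  rw [← W_pow, ← W_one]
  exact W_eq isTh h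

theorem r7 : W wq ^ 7 = 1 := W_pow_one e7

theorem r13 : W (.mul wq (.g .d)) ^ 13 = 1 := W_pow_one e13

theorem sq_d : W (.g .d) ^ 2 = 1 := W_pow_one sqd

theorem sq_b : W (.g .b) ^ 2 = 1 := W_pow_one sqb

theorem d_ne : W (.g .d) ≠ 1 := by
  rw [← W_one]
  exact W_ne (evG_ne ckd)

theorem wq_ne : W wq ≠ 1 := by
  intro h
  have h1 := r13
  rw [W_mul, h, one_mul] at h1
  apply d_ne
  have h2 := sq_d
  calc W (.g .d) = W (.g .d) ^ 13 * (W (.g .d) ^ 2)⁻¹ ^ 6 := by
        rw [← inv_pow, ← zpow_natCast, ← zpow_natCast, ← zpow_natCast]; group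
    _ = 1 := by rw [h1, h2, inv_one, one_pow, one_mul]

theorem wqd_ne : W (.mul wq (.g .d)) ≠ 1 := by
  intro h
  rw [W_mul] at h
  have h3 : W wq = (W (.g .d))⁻¹ := eq_inv_of_mul_eq_one_left h
  have h1 := r7
  rw [h3, inv_pow, inv_eq_one] at h1
  apply d_ne
  have h2 := sq_d
  calc W (.g .d) = W (.g .d) ^ 7 * (W (.g .d) ^ 2)⁻¹ ^ 3 := by
        rw [← inv_pow, ← zpow_natCast, ← zpow_natCast, ← zpow_natCast]; group
    _ = 1 := by rw [h1, h2, inv_one, one_pow, one_mul]

/-- `x` a `p`-element, `t` an involution, `x t` of order 19: `(x t)² = x · x^t` -/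
theorem pw_inv {p : ℕ} (hp : p.Prime) (hp2 : p ≠ 2) {x t : Spor.Th} (hx : x ^ p = 1) (hx1 : x ≠ 1) (ht : t ^ 2 = 1)
    (h : (x * t) ^ 19 = 1) : PW p 70 Spor.Th := by
  have hne : x * t ≠ 1 := by
    intro h1
    have h3 : x = t⁻¹ := eq_inv_of_mul_eq_one_left h1
    have h4 : x ^ 2 = 1 := by rw [h3, inv_pow, ht, inv_one]
    have h5 : orderOf x ∣ 1 := by
      rw [← (Nat.coprime_primes hp Nat.prime_two).2 hp2]
      exact Nat.dvd_gcd (orderOf_dvd_of_pow_eq_one hx) (orderOf_dvd_of_pow_eq_one h4)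
    exact hx1 (orderOf_eq_one_iff.1 (Nat.dvd_one.1 h5))
  have f19 : Fact (Nat.Prime 19) := ⟨by norm_num⟩
  have ho : orderOf (x * t) = 19 := orderOf_eq_prime h hne
  have ho2 : orderOf ((x * t) ^ 2) = 19 := by
    rw [Nat.Coprime.orderOf_pow (by rw [ho]; norm_num), ho]
  have hti : t⁻¹ = t := inv_eq_of_mul_eq_one_left (by rw [← pow_two, ht])
  have he : (x * t) ^ 2 = x * (t * x * t⁻¹) := by rw [hti, pow_two, mul_assoc, mul_assoc]
  have hpe : IsPE p x := ⟨1, by rw [pow_one]; exact hx⟩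
  rw [he] at ho2
  exact pw_prod notComm hpe (hpe.conj t) deg (Cfsg.Agent.H491.PB.Th.card_nineteen ho2).le (k := 6) (by norm_num)
    (by norm_num) (by norm_num)

theorem conj_sq {G : Type*} [Group G] {a g : G} (h : a ^ 2 = 1) : (g⁻¹ * a * g) ^ 2 = 1 := by
  calc (g⁻¹ * a * g) ^ 2 = g⁻¹ * (a ^ 2) * g := by rw [pow_two, pow_two]; group
    _ = 1 := by rw [h]; group

theorem conj_sq' {G : Type*} [Group G] {a g : G} (h : a ^ 2 = 1) : (g * a * g⁻¹) ^ 2 = 1 := by
  calc (g * a * g⁻¹) ^ 2 = g * (a ^ 2) * g⁻¹ := by rw [pow_two, pow_two]; group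
    _ = 1 := by rw [h]; group

theorem pw7 : PW 7 70 Spor.Th := by
  refine pw_inv (t := W wt) (by norm_num) (by norm_num) r7 wq_ne ?_ ?_
  · rw [wt, W_mul, W_mul, W_inv]
    exact conj_sq sq_b
  · rw [← W_mul]
    exact W_pow_one e7t

theorem pw13 : PW 13 70 Spor.Th := by
  refine pw_inv (t := W wv) (by norm_num) (by norm_num) r13 wqd_ne ?_ ?_
  · rw [wv, W_mul, W_mul, W_inv]
    exact conj_sq' sq_b
  · rw [← W_mul]
    exact W_pow_one e13t

theorem prime_cases {p : ℕ} (hp : p.Prime) (hd : p ∣ 90745943887872000) :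
    p = 2 ∨ p = 3 ∨ p = 5 ∨ p = 7 ∨ p = 13 ∨ p = 19 ∨ p = 31 := by
  have h1 : (90745943887872000 : ℕ) = 2 ^ 15 * (3 ^ 10 * (5 ^ 3 * (7 ^ 2 * (13 * (19 * 31))))) := by norm_num
  rw [h1] at hd
  simp only [hp.dvd_mul] at hd
  rcases hd with h | h | h | h | h | h | h
  · have := (Nat.prime_dvd_prime_iff_eq hp (by norm_num)).1 (hp.dvd_of_dvd_pow h); omega
  · have := (Nat.prime_dvd_prime_iff_eq hp (by norm_num)).1 (hp.dvd_of_dvd_pow h); omega
  · have := (Nat.prime_dvd_prime_iff_eq hp (by norm_num)).1 (hp.dvd_of_dvd_pow h); omega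
  · have := (Nat.prime_dvd_prime_iff_eq hp (by norm_num)).1 (hp.dvd_of_dvd_pow h); omega
  · have := (Nat.prime_dvd_prime_iff_eq hp (by norm_num)).1 h; omega
  · have := (Nat.prime_dvd_prime_iff_eq hp (by norm_num)).1 h; omega
  · have := (Nat.prime_dvd_prime_iff_eq hp (by norm_num)).1 h; omega

theorem pw_Th {p : ℕ} (hp : p.Prime) (hd : p ∣ Nat.card Spor.Th) : PW p 70 Spor.Th := by
  rw [card_Th] at hd
  rcases prime_cases hp hd with rfl | rfl | rfl | rfl | rfl | rfl | rfl
  exacts [pw_two, pw_a hp (by norm_num), pw_a hp (by norm_num), pw7, pw13, pw19, pw31]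

/-- **Row `Th`** -/
theorem pw_th {S : Type*} [Group S] [Finite S] [IsSimpleGroup S] (h : Spor.IsoTh S) {p : ℕ} (hp : p.Prime)
    (hd : p ∣ Nat.card S) : PW p 70 S := by
  obtain ⟨e⟩ := h
  rw [Nat.card_congr e.toEquiv] at hd
  exact (pw_Th hp hd).congr e.symm

end Cfsg.Agent.H315.PwTh
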