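import Cfsg.Agent.H315.PwHN
import Cfsg.Agent.H315.PwTh

/-!
# Products of `p`-elements in the Harada–Norton and the Thompson group (helper315, for S2454)
-/

set_option autoImplicit false

namespace Cfsg.Agent.H315.PwHNTh

open Cfsg Cfsg.Agent.H514.DP

theorem pw_hn {S : Type*} [Group S] [Finite S] [IsSimpleGroup S] (h : Spor.IsoHN S) {p : ℕ} (hp : p.Prime)
    (hd : p ∣ Nat.card S) : PW p 70 S := Cfsg.Agent.H315.PwHN.pw_hn h hp hd

theorem pw_th {S : Type*} [Group S] [Finite S] [IsSimpleGroup S] (h : Spor.IsoTh S) {p : ℕ} (hp : p.Prime)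
    (hd : p ∣ Nat.card S) : PW p 70 S := Cfsg.Agent.H315.PwTh.pw_th h hp hd

end Cfsg.Agent.H315.PwHNTh
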