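import Cfsg.Agent.H634.SdDef
import Mathlib.GroupTheory.Transfer

/-!
# S4579, reduction to simple groups: R5 (helper315)

`N` perfect, `G / N` without linear characters of order `4` of its Sylow `2`-subgroups: a linear character of `P` whose
square is not trivial on `P` has a square which is not trivial on `P ∩ N`.
-/

set_option autoImplicit false

open Cfsg

namespace Cfsg.Agent.H315.SdNonreal

open Cfsg.Agent.H634.Sd Subgroup MonoidHom

universe u

/-- the transfer of the restriction of a homomorphism -/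
theorem transfer_restrict {L A : Type*} [Group L] [CommGroup A] (H : Subgroup L) [H.FiniteIndex] (φ : L →* A) (g : L) :
    transfer (φ.comp H.subtype) g = φ g ^ H.index := by
  classical
  let := H.fintypeQuotientOfFiniteIndex
  rw [transfer_eq_prod_quotient_orbitRel_zpowers_quot, Subgroup.index_eq_sum_minimalPeriod H g,
    ← Finset.prod_pow_eq_pow_sum]
  refine Finset.prod_congr rfl fun q _ => ?_
  rw [MonoidHom.comp_apply, Subgroup.subtype_apply, map_mul, map_mul, map_inv, map_pow, mul_comm (φ q.out.out)⁻¹,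
    inv_mul_cancel_right]

/-- the transfer commutes with homomorphisms of the target -/
theorem transfer_comp' {L A B : Type*} [Group L] {H : Subgroup L} [CommGroup A] [CommGroup B] (ϕ : H →* A)
    (f : A →* B) [H.FiniteIndex] (g : L) : transfer (f.comp ϕ) g = f (transfer ϕ g) := by
  rw [transfer_def (f.comp ϕ) default, transfer_def ϕ default]
  unfold Subgroup.leftTransversals.diff
  rw [map_prod]
  rfl

/-- homomorphisms from a perfect subgroup to a commutative group -/
theorem eq_one_of_perf {L A : Type*} [Group L] [CommGroup A] {N : Subgroup L} (hperf : ⁅N, N⁆ = N) (φ : L →* A)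
    {x : L} (hx : x ∈ N) : φ x = 1 := by
  have h1 : ⁅N, N⁆ ≤ φ.ker := by
    rw [Subgroup.commutator_le]
    intro a _ b _
    rw [MonoidHom.mem_ker, map_commutatorElement, commutatorElement_eq_one_iff_mul_comm, mul_comm]
  rw [hperf] at h1
  exact MonoidHom.mem_ker.1 (h1 hx)

/-- the abstract statement, in `L = P N` -/
theorem key {L A : Type*} [Group L] [CommGroup A] (N P : Subgroup L) [N.Normal] [P.FiniteIndex]
    (hPN : ∀ g : L, ∃ x ∈ P, x⁻¹ * g ∈ N) (hodd : Odd P.index) (hperf : ⁅N, N⁆ = N) (f : P →* A)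
    (h2 : ∀ x : P, (x : L) ∈ N → f x ^ 2 = 1)
    (hreal : ∀ g : P →* A, (∀ x : P, (x : L) ∈ N → g x = 1) → ∀ x, g x ^ 2 = 1) : ∀ x, f x ^ 2 = 1 := by
  -- the extension of `f²`
  have hsurj : Function.Surjective ((QuotientGroup.mk' N).comp P.subtype) := by
    intro y
    obtain ⟨g, rfl⟩ := QuotientGroup.mk'_surjective N y
    obtain ⟨x, hx, hxg⟩ := hPN g
    refine ⟨⟨x, hx⟩, ?_⟩
    rw [MonoidHom.comp_apply, Subgroup.subtype_apply, QuotientGroup.mk'_eq_mk']
    exact ⟨x⁻¹ * g, hxg, mul_inv_cancel_left x g⟩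
  have hker : ((QuotientGroup.mk' N).comp P.subtype).ker ≤ ((powMonoidHom 2).comp f).ker := by
    intro x hx
    rw [MonoidHom.mem_ker, MonoidHom.comp_apply, Subgroup.subtype_apply, QuotientGroup.mk'_apply,
      QuotientGroup.eq_one_iff] at hx
    rw [MonoidHom.mem_ker, MonoidHom.comp_apply, powMonoidHom_apply]
    exact h2 x hx
  set φ : L →* A := (((QuotientGroup.mk' N).comp P.subtype).liftOfSurjective hsurj ⟨(powMonoidHom 2).comp f, hker⟩).comp
    (QuotientGroup.mk' N) with hφ
  have hφP : ∀ x : P, φ x = f x ^ 2 := by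
    intro x
    have h3 := MonoidHom.liftOfRightInverse_comp_apply (f := (QuotientGroup.mk' N).comp P.subtype) _
      (Function.rightInverse_surjInv hsurj) ⟨(powMonoidHom 2).comp f, hker⟩ x
    exact h3
  have hres : (powMonoidHom 2).comp f = φ.comp P.subtype := by
    ext x
    rw [MonoidHom.comp_apply, powMonoidHom_apply, MonoidHom.comp_apply, Subgroup.subtype_apply, hφP]
  -- `f⁴ = 1`
  have h4 : ∀ x, (f x ^ 2) ^ 2 = 1 := by
    intro x
    have h5 := hreal ((powMonoidHom 2).comp f) (fun x hx => h2 x hx) x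
    exact h5
  intro x
  have h5 := hreal ((transfer f).comp P.subtype) (fun x hx => eq_one_of_perf hperf (transfer f) hx) x
  rw [MonoidHom.comp_apply, Subgroup.subtype_apply, ← powMonoidHom_apply, ← transfer_comp', hres, transfer_restrict,
    hφP] at h5
  obtain ⟨k, hk⟩ := hodd
  rwa [hk, pow_succ, pow_mul, h4, one_pow, one_mul] at h5

section

variable {G : Type u} [Group G] [Finite G]

/-- a linear character of `P` trivial on `P ∩ N` comes from a Sylow subgroup of `G / N` -/
theorem sq_eq_one_of_not_nonElem [Fact (Nat.Prime 2)] (N : Subgroup G) [N.Normal] (hG : ¬ NonElem (G ⧸ N))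
    (P : Sylow 2 G) (g : (P : Subgroup G) →* ℂˣ) (hg : ∀ x : (P : Subgroup G), (x : G) ∈ N → g x = 1)
    (x : (P : Subgroup G)) : g x ^ 2 = 1 := by
  by_contra hx
  apply hG
  have hs := QuotientGroup.mk'_surjective N
  have hsurj := ((QuotientGroup.mk' N).subgroupMap_surjective (P : Subgroup G))
  have hker : ((QuotientGroup.mk' N).subgroupMap (P : Subgroup G)).ker ≤ g.ker := by
    intro y hy
    rw [MonoidHom.mem_ker] at hy ⊢
    apply hg
    have h1 := congrArg Subtype.val hy
    exact (QuotientGroup.eq_one_iff _).1 h1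
  refine ⟨P.mapSurjective hs, ((QuotientGroup.mk' N).subgroupMap (P : Subgroup G)).liftOfSurjective hsurj ⟨g, hker⟩,
    (QuotientGroup.mk' N).subgroupMap (P : Subgroup G) x, ?_⟩
  have h3 := MonoidHom.liftOfRightInverse_comp_apply (f := (QuotientGroup.mk' N).subgroupMap (P : Subgroup G)) _
    (Function.rightInverse_surjInv hsurj) ⟨g, hker⟩ x
  intro h4
  apply hx
  rw [← h4]
  exact congrArg (· ^ 2) h3.symm

/-- **R5.** `N` perfect: `f` is not real on `P ∩ N` (transfer from `PN` to `P`). -/
theorem nonreal_on [Fact (Nat.Prime 2)] (N : Subgroup G) [N.Normal] (hperf : ⁅N, N⁆ = N)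
    (hG : ¬ NonElem (G ⧸ N)) (P : Sylow 2 G) (f : (P : Subgroup G) →* ℂˣ) (hx : ∃ x, f x ^ 2 ≠ 1) :
    ∃ x : (P : Subgroup G), (x : G) ∈ N ∧ f x ^ 2 ≠ 1 := by
  by_contra hcon
  push Not at hcon
  obtain ⟨x, hx⟩ := hx
  apply hx
  set L : Subgroup G := (P : Subgroup G) ⊔ N with hL
  have hPL : (P : Subgroup G) ≤ L := le_sup_left
  have hNL : N ≤ L := le_sup_right
  let e : (P : Subgroup G).subgroupOf L ≃* (P : Subgroup G) := Subgroup.subgroupOfEquivOfLe hPL
  have he : ∀ y, ((e y : (P : Subgroup G)) : G) = ((y : L) : G) := fun y => rfl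
  have h1 : ∀ y : (P : Subgroup G).subgroupOf L, (f.comp e.toMonoidHom) y ^ 2 = 1 := by
    refine key (N.subgroupOf L) ((P : Subgroup G).subgroupOf L) ?_ ?_ ?_ (f.comp e.toMonoidHom) ?_ ?_
    · rintro ⟨g, hg⟩
      rw [hL, Subgroup.mem_sup_of_normal_right] at hg
      obtain ⟨y, hy, z, hz, rfl⟩ := hg
      refine ⟨⟨y, hPL hy⟩, Subgroup.mem_subgroupOf.2 hy, ?_⟩
      rw [Subgroup.mem_subgroupOf]
      show y⁻¹ * (y * z) ∈ N
      rwa [inv_mul_cancel_left]
    · have h2 : ¬ 2 ∣ ((P : Subgroup G).subgroupOf L).index := fun h =>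
        P.not_dvd_index (h.trans (Subgroup.relIndex_dvd_index_of_le hPL))
      rwa [← Nat.not_even_iff_odd, even_iff_two_dvd]
    · apply Subgroup.map_injective L.subtype_injective
      rw [Subgroup.map_commutator, Subgroup.map_subgroupOf_eq_of_le hNL, hperf]
    · intro y hy
      exact hcon (e y) (by rw [he]; exact Subgroup.mem_subgroupOf.1 hy)
    · intro g hg y
      have h3 := sq_eq_one_of_not_nonElem N hG P (g.comp e.symm.toMonoidHom) (by
        intro z hz
        refine hg (e.symm z) ?_
        rw [Subgroup.mem_subgroupOf, ← he, e.apply_symm_apply]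
        exact hz) (e y)
      rw [MonoidHom.comp_apply] at h3
      have h4 : e.symm.toMonoidHom (e y) = y := e.symm_apply_apply y
      rwa [h4] at h3
  have h2 := h1 (e.symm x)
  rw [MonoidHom.comp_apply] at h2
  have h4 : e.toMonoidHom (e.symm x) = x := e.apply_symm_apply x
  rwa [h4] at h2

end

end Cfsg.Agent.H315.SdNonreal
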