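import Mathlib
import Cfsg.Prelude.Def_SporadicB
import Cfsg.Prelude.Def_TwoFusion
import Cfsg.Agent.HoltZ.Base
import Cfsg.Agent.HoltZ.OneClass
import Cfsg.Agent.Lib.SylowNormalInf

/-!
# 2-central involutions and the squares of their centralizer (helper315, for S3226)

* `Sq s`: the subgroup generated by the squares of the elements commuting with `s`; it contains the commutators of
  these elements (`comm_mem`) and the elements of odd order (`odd_mem`).
* `DF G`: every 2-central involution `s` of `G` lies in `Sq s`, that is, in every subgroup of index 2 of `C(s)`.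
* `DF.of_surj`, `DF.congr`, `of_position` (good position with respect to a 2-subgroup), `DF.of_one` (one class of
  involutions and an element of order four).
* `exists_or_exists`: transfer. `C(t) = ⟨t⟩ × F`, `t` 2-central in `G`: there is a subgroup of index 2 of `G` not containing
  `t` or `t` is conjugate in `N(S)` to an element of `F`.
* `exists_index_two`: if moreover `DF F` there is a subgroup of index 2 not containing `t`.
-/

set_option autoImplicit false

namespace Cfsg.Agent.H315.SqC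

open Subgroup Cfsg

variable {G : Type*} [Group G]

/-- the subgroup generated by the squares of the elements commuting with `s` -/
def Sq (s : G) : Subgroup G := closure {y | ∃ x : G, x * s = s * x ∧ y = x * x}

theorem sq_mem {s x : G} (h : x * s = s * x) : x * x ∈ Sq s := subset_closure ⟨x, h, rfl⟩

theorem comm_inv {s x : G} (h : x * s = s * x) : x⁻¹ * s = s * x⁻¹ := by
  rw [inv_mul_eq_iff_eq_mul, ← mul_assoc, h, mul_inv_cancel_right]

theorem comm_mul {s x y : G} (hx : x * s = s * x) (hy : y * s = s * y) : x * y * s = s * (x * y) := by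
  rw [mul_assoc, hy, ← mul_assoc, hx, mul_assoc]

/-- commutators -/
theorem comm_mem {s x y : G} (hx : x * s = s * x) (hy : y * s = s * y) : x * y * x⁻¹ * y⁻¹ ∈ Sq s := by
  have h : x * y * x⁻¹ * y⁻¹ = (x * y * (x * y)) * ((y⁻¹ * x⁻¹ * y) * (y⁻¹ * x⁻¹ * y)) * (y⁻¹ * y⁻¹) := by group
  rw [h]
  exact mul_mem (mul_mem (sq_mem (comm_mul hx hy)) (sq_mem (comm_mul (comm_mul (comm_inv hy) (comm_inv hx)) hy)))
    (sq_mem (comm_inv hy))

theorem comm_pow {s x : G} (h : x * s = s * x) (n : ℕ) : x ^ n * s = s * x ^ n := by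
  induction n with
  | zero => simp
  | succ n ih => rw [pow_succ]; exact comm_mul ih h

/-- elements of odd order -/
theorem odd_mem {s x : G} (h : x * s = s * x) (ho : Odd (orderOf x)) : x ∈ Sq s := by
  obtain ⟨k, hk⟩ := ho
  have h1 : x = x ^ (k + 1) * x ^ (k + 1) := by
    rw [← pow_add, show k + 1 + (k + 1) = 2 * k + 1 + 1 by ring, pow_succ, ← hk, pow_orderOf_eq_one, one_mul]
  rw [h1]
  exact sq_mem (comm_pow h _)

/-- elements of order dividing an odd number -/
theorem odd_mem' {s x : G} (h : x * s = s * x) {n : ℕ} (ho : Odd n) (hn : x ^ n = 1) : x ∈ Sq s :=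
  odd_mem h (ho.of_dvd_nat (orderOf_dvd_of_pow_eq_one hn))

/-- images -/
theorem map_mem {H : Type*} [Group H] (f : G →* H) {s y : G} (h : y ∈ Sq s) : f y ∈ Sq (f s) := by
  have h1 : (Sq s).map f ≤ Sq (f s) := by
    rw [Sq, MonoidHom.map_closure, closure_le]
    rintro _ ⟨_, ⟨x, hx, rfl⟩, rfl⟩
    rw [map_mul]
    exact sq_mem (by rw [← map_mul, hx, map_mul])
  exact h1 (mem_map_of_mem f h)

/-- conjugates -/
theorem conj_iff {s : G} (g : G) : g * s * g⁻¹ ∈ Sq (g * s * g⁻¹) ↔ s ∈ Sq s := by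
  have key : ∀ (g s : G), s ∈ Sq s → g * s * g⁻¹ ∈ Sq (g * s * g⁻¹) := fun g s h =>
    map_mem (MulAut.conj g).toMonoidHom h
  refine ⟨fun h => ?_, key g s⟩
  have h1 := key g⁻¹ _ h
  have h2 : g⁻¹ * (g * s * g⁻¹) * g⁻¹⁻¹ = s := by group
  rwa [h2] at h1

/-- every 2-central involution `s` is in `Sq s` -/
def DF (G : Type*) [Group G] : Prop := ∀ s : G, IsTwoCentralInvolution s → s ∈ Sq s

/-- Up to conjugation a 2-central involution centralises a given 2-subgroup. -/
theorem exists_position [Finite G] {s : G} (hs : IsTwoCentralInvolution s) (D : Subgroup G) (hD : IsPGroup 2 D) :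
    ∃ g : G, IsTwoCentralInvolution (g * s * g⁻¹) ∧ ∀ d ∈ D, d * (g * s * g⁻¹) = g * s * g⁻¹ * d := by
  obtain ⟨P, hP, hc⟩ := hs.2
  obtain ⟨Q, hQ⟩ := hD.exists_le_sylow
  have : Fact (Nat.Prime 2) := ⟨Nat.prime_two⟩
  obtain ⟨g, hg⟩ := MulAction.exists_smul_eq G P Q
  refine ⟨g, HoltZ.isTwoCentral_conj hs g, fun d hd => ?_⟩
  have h1 : d ∈ ((g • P : Sylow 2 G) : Subgroup G) := by rw [hg]; exact hQ hd
  rw [Sylow.coe_subgroup_smul] at h1
  obtain ⟨y, hy, rfl⟩ := Subgroup.mem_map.1 h1
  change g * y * g⁻¹ * (g * s * g⁻¹) = g * s * g⁻¹ * (g * y * g⁻¹)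
  have := hc y hy
  calc g * y * g⁻¹ * (g * s * g⁻¹) = g * (y * s) * g⁻¹ := by group
    _ = g * (s * y) * g⁻¹ := by rw [this]
    _ = _ := by group

/-- It is enough to consider the 2-central involutions which centralise a given 2-subgroup. -/
theorem of_position [Finite G] (D : Subgroup G) (hD : IsPGroup 2 D)
    (h : ∀ s : G, IsTwoCentralInvolution s → (∀ d ∈ D, d * s = s * d) → s ∈ Sq s) : DF G := by
  intro s hs
  obtain ⟨g, hg, hc⟩ := exists_position hs D hD
  exact (conj_iff g).1 (h _ hg hc)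

theorem DF.congr {H : Type*} [Group H] [Finite G] (e : G ≃* H) (h : DF H) : DF G := by
  intro s hs
  have h1 := map_mem e.symm.toMonoidHom (h _ (HoltZ.isTwoCentral_equiv e hs))
  have h2 : e.symm.toMonoidHom (e s) = s := e.symm_apply_apply s
  rwa [h2] at h1

/-- A lift: `f t = s`, `t ∈ Sq t · ker f`. -/
theorem mem_of_lift {X : Type*} [Group X] (f : X →* G) {t k : X} (h : t * k ∈ Sq t) (hk : f k = 1) :
    f t ∈ Sq (f t) := by
  have h1 := map_mem f h
  rwa [map_mul, hk, mul_one] at h1

/-- One class of involutions and a Sylow 2-subgroup which is not commutative. -/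
theorem DF.of_one [Finite G] (h : HoltZ.OneClass.OneInv G) (P : Sylow 2 G) (hP : ¬ IsMulCommutative (P : Subgroup G)) :
    DF G := by
  have : Fact (Nat.Prime 2) := ⟨Nat.prime_two⟩
  -- an element of order four
  obtain ⟨x, hx⟩ : ∃ x : G, orderOf (x * x) = 2 := by
    by_contra hcon
    push Not at hcon
    apply hP
    -- all squares in `P` are trivial
    have h1 : ∀ x ∈ (P : Subgroup G), x * x = 1 := by
      intro x hxP
      obtain ⟨k, hk⟩ := P.isPGroup' ⟨x, hxP⟩
      have hk' : x ^ 2 ^ k = 1 := by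
        have := congrArg Subtype.val hk
        simpa using this
      obtain ⟨j, -, hj⟩ := (Nat.dvd_prime_pow Nat.prime_two).1 (orderOf_dvd_of_pow_eq_one hk')
      rcases Nat.lt_or_ge j 2 with h2 | h2
      · have : orderOf x ∣ 2 := by
          rw [hj]; interval_cases j <;> norm_num
        rw [← pow_two]
        exact orderOf_dvd_iff_pow_eq_one.1 this
      · exfalso
        obtain ⟨i, rfl⟩ := Nat.exists_eq_add_of_le h2
        have h3 : orderOf (x ^ 2 ^ i) = 4 := by
          rw [orderOf_pow' _ (by positivity), hj, Nat.gcd_eq_right (Nat.pow_dvd_pow 2 (by omega)), pow_add,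
            Nat.mul_div_cancel _ (by positivity)]
          norm_num
        refine hcon (x ^ 2 ^ i) ?_
        rw [← pow_two, orderOf_pow' _ (by norm_num), h3]
        norm_num
    refine ⟨⟨fun a b => Subtype.ext ?_⟩⟩
    change (a : G) * b = b * a
    have e1 := h1 _ (mul_mem a.2 b.2)
    have ea := h1 _ a.2
    have eb := h1 _ b.2
    calc (a : G) * b = a * b * ((b * a) * (b * a)) := by rw [h1 _ (mul_mem b.2 a.2), mul_one]
      _ = a * (b * b) * a * (b * a) := by group
      _ = b * a := by rw [eb, mul_one, ea, one_mul]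
  intro s hs
  obtain ⟨g, rfl⟩ := h (x * x) s hx hs.1
  exact (conj_iff g).2 (sq_mem (by group))

/-! ### Transfer -/

/-- the fixed points of an involution on the cosets of a subgroup of index twice an odd number without subgroups of
index 2 avoiding the involution -/
theorem fixed_odd [Finite G] (Q : Subgroup G) {m : ℕ} (hm : Odd m) (hQ : Q.index = 2 * m) {t : G} (ht : t * t = 1)
    (hno : ¬ ∃ H : Subgroup G, H.index = 2 ∧ t ∉ H) :
    ∃ k : ℕ, Odd k ∧ Nat.card {y : G ⧸ Q // t • y = y} = 2 * k := by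
  classical
  have hfin : Finite (G ⧸ Q) := Quotient.finite _
  have := Fintype.ofFinite (G ⧸ Q)
  let f : G →* ℤˣ := Equiv.Perm.sign.comp (MulAction.toPermHom G (G ⧸ Q))
  have hf1 : f t = 1 := by
    by_contra hne
    apply hno
    refine ⟨f.ker, ?_, fun h => hne h⟩
    have h1 : f t = -1 := (Int.units_eq_one_or _).resolve_left hne
    rw [Subgroup.index_ker, Nat.card_eq_fintype_card]
    have h2 : f.range = ⊤ := by
      rw [eq_top_iff]
      intro u _
      rcases Int.units_eq_one_or u with rfl | rfl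
      · exact ⟨1, map_one _⟩
      · exact ⟨t, h1⟩
    rw [← Nat.card_eq_fintype_card, h2, Subgroup.card_top, Nat.card_eq_fintype_card]
    rfl
  obtain ⟨σ, hσ⟩ : ∃ σ : Equiv.Perm (G ⧸ Q), σ = MulAction.toPermHom G (G ⧸ Q) t := ⟨_, rfl⟩
  have hσ2 : σ ^ 2 = 1 := by rw [hσ, ← map_pow, pow_two, ht, map_one]
  have hs : Equiv.Perm.sign σ = 1 := by rw [hσ]; exact hf1
  rw [Equiv.Perm.sign_of_pow_two_eq_one hσ2] at hs
  obtain ⟨a, ha⟩ := Equiv.Perm.two_dvd_card_support hσ2
  have hcard : Fintype.card (G ⧸ Q) = 2 * m := by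
    rw [← Nat.card_eq_fintype_card, ← hQ]; rfl
  have hsum : Nat.card {y : G ⧸ Q // t • y = y} + σ.support.card = Fintype.card (G ⧸ Q) := by
    have h1 : Nat.card {y : G ⧸ Q // t • y = y} = (Finset.univ.filter fun y : G ⧸ Q => t • y = y).card := by
      rw [Nat.card_eq_fintype_card, Fintype.card_subtype]
    rw [h1]
    have h2 : σ.support = Finset.univ.filter fun y : G ⧸ Q => ¬ t • y = y := by
      ext y
      rw [Equiv.Perm.mem_support, Finset.mem_filter, hσ]
      simp
    rw [h2, Finset.card_filter_add_card_filter_not, Finset.card_univ]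
  have heven : Even a := by
    have h4 : Fintype.card (G ⧸ Q) - Fintype.card ↑(Function.fixedPoints ⇑σ) = σ.support.card := by
      have h5 := Equiv.Perm.card_fixedPoints σ
      have h6 := Finset.card_le_univ σ.support
      rw [← Equiv.Perm.sum_cycleType] at h6 ⊢
      omega
    rw [h4, ha, Nat.mul_div_cancel_left _ (by norm_num)] at hs
    by_contra hne
    rw [(Nat.not_even_iff_odd.1 hne).neg_one_pow] at hs
    exact absurd hs (by decide)
  rw [hcard, ha] at hsum
  refine ⟨m - a, ?_, by omega⟩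
  rcases heven with ⟨b, hb⟩
  rcases hm with ⟨c, hc⟩
  have : a ≤ m := by omega
  exact ⟨c - b, by omega⟩

/-- every element of `C(t) = ⟨t⟩ × F` is `f` or `t f` -/
theorem half {t : G} {F : Subgroup G} (hF : IsInternalDirectProduct (zpowers t) F (centralizer ({t} : Set G)))
    (htt : t * t = 1) : ∀ x ∈ centralizer ({t} : Set G), x ∈ F ∨ t * x ∈ F := by
  obtain ⟨-, -, hcomm, hinf, hsup⟩ := hF
  intro x hx
  rw [← hsup] at hx
  have key : ∀ x ∈ zpowers t ⊔ F, x ∈ F ∨ t * x ∈ F := by
    intro x hx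
    rw [sup_eq_closure] at hx
    induction hx using closure_induction with
    | mem x hx =>
      rcases hx with hx | hx
      swap
      · exact Or.inl hx
      obtain ⟨n, rfl⟩ := mem_zpowers_iff.1 hx
      rcases Int.even_or_odd n with ⟨k, rfl⟩ | ⟨k, rfl⟩
      · left
        have : t ^ (k + k) = 1 := by
          rw [zpow_add, ← (Commute.refl t).mul_zpow, htt, one_zpow]
        rw [this]; exact F.one_mem
      · right
        have h3 : t ^ (2 : ℤ) = 1 := by rw [zpow_two, htt]
        have : t ^ (2 * k + 1) = t := by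
          rw [zpow_add, zpow_mul, zpow_one, h3, one_zpow, one_mul]
        rw [this, htt]; exact F.one_mem
    | one => exact Or.inl F.one_mem
    | mul x y _ _ hx hy =>
      have hty : ∀ y ∈ F, t * y = y * t := fun y hy => hcomm t (mem_zpowers t) y hy
      rcases hx with hx | hx <;> rcases hy with hy | hy
      · exact Or.inl (F.mul_mem hx hy)
      · right
        have : t * (x * y) = x * (t * y) := by rw [← mul_assoc, hty x hx, mul_assoc]
        rw [this]; exact F.mul_mem hx hy
      · right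
        rw [← mul_assoc]; exact F.mul_mem hx hy
      · left
        have h1 : x * y = (t * x) * (t * y) := by
          have h2 := hty _ hx
          calc x * y = (t * t) * x * y := by rw [htt, one_mul]
            _ = t * (t * x) * y := by group
            _ = (t * x) * t * y := by rw [h2]
            _ = _ := by group
        rw [h1]; exact F.mul_mem hx hy
    | inv x _ hx =>
      rcases hx with hx | hx
      · exact Or.inl (F.inv_mem hx)
      · right
        have h2 := hcomm t (mem_zpowers t) _ hx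
        have hti : t⁻¹ = t := inv_eq_of_mul_eq_one_left htt
        have h3 : t * x = x * t := by
          have h4 : t * (t * x) = t * (x * t) := by rw [h2, mul_assoc]
          exact mul_left_cancel h4
        have h5 : t * x⁻¹ = (t * x)⁻¹ := by rw [h3, mul_inv_rev, hti]
        rw [h5]; exact F.inv_mem hx
  exact key x hx

/-- **Transfer.** -/
theorem exists_or_exists [Finite G] (t : G) (ht : orderOf t = 2) (S : Sylow 2 G) (htS : t ∈ (S : Subgroup G))
    (htc : ∀ s ∈ (S : Subgroup G), s * t = t * s) (F : Subgroup G)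
    (hF : IsInternalDirectProduct (zpowers t) F (centralizer ({t} : Set G))) :
    (∃ H : Subgroup G, H.index = 2 ∧ t ∉ H) ∨
      ∃ g ∈ normalizer ((S : Subgroup G) : Set G), g⁻¹ * t * g ∈ F ∧ g⁻¹ * t * g ∈ (S : Subgroup G) := by
  classical
  by_cases hno : ∃ H : Subgroup G, H.index = 2 ∧ t ∉ H
  · exact Or.inl hno
  right
  have : Fact (Nat.Prime 2) := ⟨Nat.prime_two⟩
  have htt : t * t = 1 := by rw [← pow_two, ← ht, pow_orderOf_eq_one]
  have ht1 : t ≠ 1 := by rintro rfl; rw [orderOf_one] at ht; omega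
  obtain ⟨h_le, hFC, hcomm, hinf, hsup⟩ := hF
  have hSC : (S : Subgroup G) ≤ centralizer ({t} : Set G) := fun s hs =>
    mem_centralizer_singleton_iff.2 (htc s hs)
  have htF : t ∉ F := fun h => ht1 (by
    have : t ∈ zpowers t ⊓ F := ⟨mem_zpowers t, h⟩
    rw [hinf] at this
    exact mem_bot.1 this)
  have hdec := half ⟨h_le, hFC, hcomm, hinf, hsup⟩ htt
  -- `Q = S ∩ F` has index two in `S`
  obtain ⟨Q, hQ⟩ : ∃ Q : Subgroup G, Q = (S : Subgroup G) ⊓ F := ⟨_, rfl⟩
  have hrel : Q.relIndex (S : Subgroup G) = 2 := by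
    rw [relIndex, index_eq_two_iff]
    refine ⟨⟨t, htS⟩, fun b => ?_⟩
    rw [mem_subgroupOf, mem_subgroupOf, hQ]
    change Xor ((b : G) * t ∈ (S : Subgroup G) ⊓ F) ((b : G) ∈ (S : Subgroup G) ⊓ F)
    have hb := b.2
    by_cases h : (b : G) ∈ F
    · right
      refine ⟨⟨hb, h⟩, fun h1 => htF ?_⟩
      have h2 := F.mul_mem (F.inv_mem h) h1.2
      rwa [inv_mul_cancel_left] at h2
    · left
      refine ⟨⟨mul_mem hb htS, ?_⟩, fun h1 => h h1.2⟩
      rw [htc _ hb]
      exact (hdec _ (hSC hb)).resolve_left h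
  have hQS : Q ≤ (S : Subgroup G) := by rw [hQ]; exact inf_le_left
  have hidx : Q.index = 2 * (S : Subgroup G).index := by
    rw [← relIndex_mul_index hQS, hrel]
  have hodd : Odd (S : Subgroup G).index := by
    rw [← Nat.not_even_iff_odd]
    intro he
    exact S.not_dvd_index (even_iff_two_dvd.1 he)
  obtain ⟨k, hk, hcard⟩ := fixed_odd Q hodd hidx htt hno
  -- the cosets `g S` with `g⁻¹ t g ∈ Q`
  have hQn : ∀ s ∈ (S : Subgroup G), ∀ y ∈ Q, s⁻¹ * y * s ∈ Q := by
    intro s hs y hy
    rw [hQ] at hy ⊢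
    refine ⟨(S : Subgroup G).mul_mem ((S : Subgroup G).mul_mem ((S : Subgroup G).inv_mem hs) hy.1) hs, ?_⟩
    rcases hdec s (hSC hs) with h | h
    · exact F.mul_mem (F.mul_mem (F.inv_mem h) hy.2) h
    · have h1 : s⁻¹ * y * s = (t * s)⁻¹ * y * (t * s) := by
        have h2 : t * y * t⁻¹ = y := by rw [hcomm t (mem_zpowers t) y hy.2, mul_inv_cancel_right]
        have hti : t⁻¹ = t := inv_eq_of_mul_eq_one_left htt
        calc s⁻¹ * y * s = s⁻¹ * (t * y * t⁻¹) * s := by rw [h2]
          _ = s⁻¹ * (t⁻¹ * y * t) * s := by rw [hti]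
          _ = _ := by group
      rw [h1]
      exact F.mul_mem (F.mul_mem (F.inv_mem h) hy.2) h
  have hwd : ∀ (g s : G), s ∈ (S : Subgroup G) → (g⁻¹ * t * g ∈ Q ↔ (g * s)⁻¹ * t * (g * s) ∈ Q) := by
    intro g s hs
    constructor
    · intro h
      have h1 := hQn s hs _ h
      have h2 : (g * s)⁻¹ * t * (g * s) = s⁻¹ * (g⁻¹ * t * g) * s := by group
      rwa [h2]
    · intro h
      have h1 := hQn s⁻¹ (inv_mem hs) _ h
      have h2 : s⁻¹⁻¹ * ((g * s)⁻¹ * t * (g * s)) * s⁻¹ = g⁻¹ * t * g := by group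
      rwa [h2] at h1
  let Y : Type _ := {y : G ⧸ (S : Subgroup G) // ∃ g : G, (g : G ⧸ (S : Subgroup G)) = y ∧ g⁻¹ * t * g ∈ Q}
  have hmemY : ∀ g : G, (∃ g' : G, (g' : G ⧸ (S : Subgroup G)) = (g : G ⧸ (S : Subgroup G)) ∧ g'⁻¹ * t * g' ∈ Q) ↔
      g⁻¹ * t * g ∈ Q := by
    intro g
    refine ⟨?_, fun h => ⟨g, rfl, h⟩⟩
    rintro ⟨g', hg', h⟩
    have h1 : g'⁻¹ * g ∈ (S : Subgroup G) := QuotientGroup.eq.1 hg'
    have h2 := (hwd g' _ h1).1 h
    rwa [mul_inv_cancel_left] at h2
  -- fibres
  have hfix : ∀ g : G, t • (g : G ⧸ Q) = (g : G ⧸ Q) ↔ g⁻¹ * t * g ∈ Q := by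
    intro g
    rw [MulAction.Quotient.smul_coe, smul_eq_mul, eq_comm, QuotientGroup.eq, mul_assoc]
  have hcardY : Nat.card {y : G ⧸ Q // t • y = y} = 2 * Nat.card Y := by
    -- `{g | g⁻¹ t g ∈ Q}` has `|Q| a = |S| b` elements
    have e1 : Nat.card {g : G // g⁻¹ * t * g ∈ Q} = Nat.card Q * Nat.card {y : G ⧸ Q // t • y = y} := by
      rw [mul_comm]
      have : {g : G // g⁻¹ * t * g ∈ Q} ≃ {y : G ⧸ Q // t • y = y} × Q := by
        refine ((Equiv.subtypeEquivRight fun g => (hfix g).symm).trans ?_)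
        let e := (Subgroup.groupEquivQuotientProdSubgroup (s := Q))
        refine (e.subtypeEquiv (q := fun p => t • p.1 = p.1) fun g => ?_).trans ?_
        · have : (e g).1 = (g : G ⧸ Q) := rfl
          rw [this]
        · exact {
            toFun := fun p => (⟨p.1.1, p.2⟩, p.1.2)
            invFun := fun p => ⟨(p.1.1, p.2), p.1.2⟩
            left_inv := fun _ => rfl
            right_inv := fun _ => rfl }
      rw [Nat.card_congr this, Nat.card_prod]
    have e2 : Nat.card {g : G // g⁻¹ * t * g ∈ Q} = Nat.card (S : Subgroup G) * Nat.card Y := by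
      rw [mul_comm]
      have : {g : G // g⁻¹ * t * g ∈ Q} ≃ Y × (S : Subgroup G) := by
        let e := (Subgroup.groupEquivQuotientProdSubgroup (s := (S : Subgroup G)))
        refine (e.subtypeEquiv (q := fun p => ∃ g : G, (g : G ⧸ (S : Subgroup G)) = p.1 ∧ g⁻¹ * t * g ∈ Q)
          fun g => ?_).trans ?_
        · have : (e g).1 = (g : G ⧸ (S : Subgroup G)) := rfl
          rw [this]
          exact (hmemY g).symm
        · exact {
            toFun := fun p => (⟨p.1.1, p.2⟩, p.1.2)
            invFun := fun p => ⟨(p.1.1, p.2), p.1.2⟩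
            left_inv := fun _ => rfl
            right_inv := fun _ => rfl }
      rw [Nat.card_congr this, Nat.card_prod]
    have e3 : Nat.card (S : Subgroup G) = 2 * Nat.card Q := by
      have h1 := Subgroup.card_mul_index (Q.subgroupOf (S : Subgroup G))
      have h2 : Nat.card (Q.subgroupOf (S : Subgroup G)) = Nat.card Q :=
        Nat.card_congr (Subgroup.subgroupOfEquivOfLe hQS).toEquiv
      rw [h2] at h1
      change Nat.card Q * Q.relIndex (S : Subgroup G) = _ at h1
      rw [← h1, hrel, mul_comm]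
    rw [e1, e3] at e2
    have hpos : 0 < Nat.card Q := Nat.card_pos
    have : Nat.card Q * Nat.card {y : G ⧸ Q // t • y = y} = Nat.card Q * (2 * Nat.card Y) := by
      rw [e2]; ring
    exact Nat.eq_of_mul_eq_mul_left hpos this
  have hYodd : Odd (Nat.card Y) := by
    have : Nat.card Y = k := by omega
    rwa [this]
  -- `S` acts on `Y`
  have hact : ∀ (s : G), s ∈ (S : Subgroup G) → ∀ y : G ⧸ (S : Subgroup G),
      (∃ g : G, (g : G ⧸ (S : Subgroup G)) = y ∧ g⁻¹ * t * g ∈ Q) →
      ∃ g : G, (g : G ⧸ (S : Subgroup G)) = s • y ∧ g⁻¹ * t * g ∈ Q := by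
    rintro s hs _ ⟨g, rfl, hg⟩
    refine ⟨s * g, rfl, ?_⟩
    have : (s * g)⁻¹ * t * (s * g) = g⁻¹ * t * g := by
      have h1 : s⁻¹ * t * s = t := by
        rw [mul_assoc, ← htc s hs, inv_mul_cancel_left]
      calc (s * g)⁻¹ * t * (s * g) = g⁻¹ * (s⁻¹ * t * s) * g := by group
        _ = _ := by rw [h1]
    rwa [this]
  let _ : MulAction (S : Subgroup G) Y :=
    { smul := fun s y => ⟨(s : G) • y.1, hact s s.2 y.1 y.2⟩
      one_smul := fun y => Subtype.ext (one_smul G y.1)
      mul_smul := fun a b y => Subtype.ext (mul_smul (a : G) (b : G) y.1) }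
  have hfinY : Finite Y := Subtype.finite
  obtain ⟨y, hy⟩ : (MulAction.fixedPoints (S : Subgroup G) Y).Nonempty := by
    refine S.isPGroup'.nonempty_fixed_point_of_prime_not_dvd_card Y ?_
    intro h
    exact (Nat.not_even_iff_odd.2 hYodd) (even_iff_two_dvd.2 h)
  obtain ⟨g, hg, hgQ⟩ := y.2
  have hgn : ∀ s ∈ (S : Subgroup G), g⁻¹ * s * g ∈ (S : Subgroup G) := by
    intro s hs
    have h1 := congrArg Subtype.val (hy ⟨s, hs⟩)
    change s • y.1 = y.1 at h1
    rw [← hg, MulAction.Quotient.smul_coe, smul_eq_mul, eq_comm, QuotientGroup.eq] at h1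
    rwa [mul_assoc]
  have hgN : g⁻¹ ∈ normalizer ((S : Subgroup G) : Set G) := by
    have : Finite ((S : Subgroup G) : Set G) := Subtype.finite
    refine mem_normalizer_fintype fun s hs => ?_
    rw [inv_inv]
    exact hgn s hs
  rw [hQ] at hgQ
  have := inv_mem hgN
  rw [inv_inv] at this
  exact ⟨g, this, hgQ.2, hgQ.1⟩

/-- An involution of `F` in the centre of a Sylow 2-subgroup `S ≤ C` of `G`, `F ⊴ C`, is 2-central in `F`. -/
theorem twoCentral_sub [Finite G] (S : Sylow 2 G) {C F : Subgroup G} (hSC : (S : Subgroup G) ≤ C) (hFC : F ≤ C)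
    (hn : (F.subgroupOf C).Normal) {s : G} (hs : orderOf s = 2) (hsS : s ∈ (S : Subgroup G)) (hsF : s ∈ F)
    (hc : ∀ x ∈ (S : Subgroup G), x * s = s * x) : IsTwoCentralInvolution (⟨s, hsF⟩ : F) := by
  have : Fact (Nat.Prime 2) := ⟨Nat.prime_two⟩
  have hP := Lib.SylowNormalInf.not_dvd_relIndex (S.subtype hSC) (F.subgroupOf C)
  let P := (Lib.SylowNormalInf.isPGroup_subgroupOf (S.subtype hSC) (F.subgroupOf C)).toSylow hP
  have h1 : IsTwoCentralInvolution (⟨⟨s, hFC hsF⟩, hsF⟩ : F.subgroupOf C) := by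
    refine ⟨?_, P, ?_, ?_⟩
    · rw [← orderOf_injective (F.subgroupOf C).subtype (F.subgroupOf C).subtype_injective,
        ← orderOf_injective C.subtype C.subtype_injective]
      exact hs
    · exact hsS
    · intro x hx
      refine Subtype.ext (Subtype.ext ?_)
      exact hc _ hx
  exact HoltZ.isTwoCentral_equiv (Subgroup.subgroupOfEquivOfLe hFC) h1

/-- **No subgroup of index 2 avoiding `t`**: impossible if all the 2-central involutions `s` of `F` are in `Sq s`. -/
theorem exists_index_two [Finite G] (t : G) (ht : orderOf t = 2) (S : Sylow 2 G) (htS : t ∈ (S : Subgroup G))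
    (htc : ∀ s ∈ (S : Subgroup G), s * t = t * s) (F : Subgroup G)
    (hF : IsInternalDirectProduct (zpowers t) F (centralizer ({t} : Set G))) (hDF : DF F) :
    ∃ H : Subgroup G, H.index = 2 ∧ t ∉ H := by
  rcases exists_or_exists t ht S htS htc F hF with h | ⟨g, hg, hgF, hgS⟩
  · exact h
  exfalso
  have htt : t * t = 1 := by rw [← pow_two, ← ht, pow_orderOf_eq_one]
  have ht1 : t ≠ 1 := by rintro rfl; rw [orderOf_one] at ht; omega
  have hdec := half hF htt
  obtain ⟨-, hFC, hcomm, hinf, -⟩ := hF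
  have hSC : (S : Subgroup G) ≤ centralizer ({t} : Set G) := fun s hs =>
    mem_centralizer_singleton_iff.2 (htc s hs)
  have hn : (F.subgroupOf (centralizer ({t} : Set G))).Normal := by
    refine ⟨fun y hy c => ?_⟩
    rw [mem_subgroupOf] at hy ⊢
    change (c : G) * y * (c : G)⁻¹ ∈ F
    rcases hdec c c.2 with h | h
    · exact F.mul_mem (F.mul_mem h hy) (F.inv_mem h)
    · have h1 : (c : G) * y * (c : G)⁻¹ = (t * c) * y * (t * c)⁻¹ := by
        have h2 : t * ((c : G) * y * (c : G)⁻¹) = (c : G) * y * (c : G)⁻¹ * t := by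
          have hc : (c : G) * t = t * c := mem_centralizer_singleton_iff.1 c.2
          have hc' : (c : G)⁻¹ * t = t * (c : G)⁻¹ := comm_inv hc
          have hy' : (y : G) * t = t * y := (hcomm t (mem_zpowers t) y hy).symm
          exact (comm_mul (comm_mul hc hy') hc').symm
        calc (c : G) * y * (c : G)⁻¹ = t⁻¹ * (t * ((c : G) * y * (c : G)⁻¹)) := by group
          _ = t⁻¹ * ((c : G) * y * (c : G)⁻¹ * t) := by rw [h2]
          _ = t * ((c : G) * y * (c : G)⁻¹) * t⁻¹ := by
              have hti : t⁻¹ = t := inv_eq_of_mul_eq_one_left htt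
              rw [hti]; group
          _ = _ := by group
      rw [h1]
      exact F.mul_mem (F.mul_mem h hy) (F.inv_mem h)
  have hs2 : orderOf (g⁻¹ * t * g) = 2 := by
    rw [← ht]
    have := (MulAut.conj g⁻¹).orderOf_eq t
    rw [MulAut.conj_apply, inv_inv] at this
    exact this
  have hsc : ∀ x ∈ (S : Subgroup G), x * (g⁻¹ * t * g) = g⁻¹ * t * g * x := by
    intro x hx
    have h1 : g * x * g⁻¹ ∈ (S : Subgroup G) := (mem_normalizer_iff.1 hg x).1 hx
    have h2 := htc _ h1
    calc x * (g⁻¹ * t * g) = g⁻¹ * ((g * x * g⁻¹) * t) * g := by group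
      _ = g⁻¹ * (t * (g * x * g⁻¹)) * g := by rw [h2]
      _ = _ := by group
  have h1 := hDF _ (twoCentral_sub S hSC hFC hn hs2 hgS hgF hsc)
  have h2 := map_mem F.subtype h1
  change g⁻¹ * t * g ∈ Sq (g⁻¹ * t * g) at h2
  have h3 := (conj_iff (s := g⁻¹ * t * g) g).2 h2
  have h4 : g * (g⁻¹ * t * g) * g⁻¹ = t := by group
  rw [h4] at h3
  -- squares of elements of `C(t)` are in `F`
  have h5 : Sq t ≤ F := by
    rw [Sq, closure_le]
    rintro _ ⟨x, hx, rfl⟩
    rcases hdec x (mem_centralizer_singleton_iff.2 hx) with h | h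
    · exact F.mul_mem h h
    · have h6 : x * x = (t * x) * (t * x) := by
        calc x * x = (t * t) * x * x := by rw [htt, one_mul]
          _ = t * (t * x) * x := by group
          _ = t * (x * t) * x := by rw [hx]
          _ = _ := by group
      rw [h6]
      exact F.mul_mem h h
  apply ht1
  have : t ∈ zpowers t ⊓ F := ⟨mem_zpowers t, h5 h3⟩
  rw [hinf] at this
  exact mem_bot.1 this

end Cfsg.Agent.H315.SqC
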