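import Cfsg.Agent.H315.Sq
import Cfsg.Agent.Lib.Cores
import Cfsg.Agent.Lib.SubnormalJoin
import Cfsg.Agent.Cit.Quo

/-!
# The abelian case of S3226: reduction to a simple group (helper315)
-/

set_option autoImplicit false
set_option linter.unusedSectionVars false

namespace Cfsg.Agent.H315.SqC.Ab

open Subgroup Cfsg Cfsg.Agent.H315.SqC Cfsg.Agent.Lib.Cores

variable {G : Type*} [Group G]

/-- the situation: `t` 2-central, `C(t) = ⟨t⟩ × F`, `F` simple -/
structure Sit (t : G) (F : Subgroup G) (S : Sylow 2 G) : Prop where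
  ord : orderOf t = 2
  tS : t ∈ (S : Subgroup G)
  sc : (S : Subgroup G) ≤ centralizer ({t} : Set G)
  dp : IsInternalDirectProduct (zpowers t) F (centralizer ({t} : Set G))
  simp : IsSimpleGroup F
  na : ¬ IsMulCommutative F

section

variable {t : G} {F : Subgroup G} {S : Sylow 2 G} (h : Sit t F S)
include h

theorem Sit.tt : t * t = 1 := by rw [← pow_two, ← h.ord, pow_orderOf_eq_one]

theorem Sit.t1 : t ≠ 1 := by
  rintro rfl
  have := h.ord
  rw [orderOf_one] at this
  omega

theorem Sit.FC : F ≤ centralizer ({t} : Set G) := h.dp.2.1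

theorem Sit.tF : t ∉ F := fun h1 => h.t1 (by
  have h2 : t ∈ zpowers t ⊓ F := ⟨mem_zpowers t, h1⟩
  rw [h.dp.2.2.2.1] at h2
  exact mem_bot.1 h2)

theorem Sit.half' : ∀ x ∈ centralizer ({t} : Set G), x ∈ F ∨ t * x ∈ F := half h.dp h.tt

theorem Sit.mem_zpowers {x : G} (hx : x ∈ zpowers t) : x = 1 ∨ x = t := by
  obtain ⟨k, rfl⟩ := mem_zpowers_iff.1 hx
  have h2 : t ^ (2 : ℤ) = 1 := by rw [zpow_two, h.tt]
  rcases Int.even_or_odd' k with ⟨m, rfl | rfl⟩
  · left; rw [zpow_mul, h2, one_zpow]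
  · right; rw [zpow_add, zpow_mul, h2, one_zpow, one_mul, zpow_one]

theorem Sit.nF : ∀ c ∈ centralizer ({t} : Set G), ∀ y ∈ F, c * y * c⁻¹ ∈ F := by
  intro c hc y hy
  rcases h.half' c hc with h1 | h1
  · exact F.mul_mem (F.mul_mem h1 hy) (F.inv_mem h1)
  · have h3 : c * y * c⁻¹ = (t * c) * y * (t * c)⁻¹ := by
      have hct : c * t = t * c := mem_centralizer_singleton_iff.1 hc
      have hyt : y * t = t * y := mem_centralizer_singleton_iff.1 (h.FC hy)
      have h4 : c * y * c⁻¹ * t = t * (c * y * c⁻¹) := comm_mul (comm_mul hct hyt) (comm_inv hct)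
      have h5 : (t * c) * y * (t * c)⁻¹ = t * (c * y * c⁻¹) * t⁻¹ := by group
      rw [h5, ← h4, mul_inv_cancel_right]
    rw [h3]
    exact F.mul_mem (F.mul_mem h1 hy) (F.inv_mem h1)

theorem Sit.center_F {x : G} (hx : x ∈ F) (hc : ∀ y ∈ F, x * y = y * x) : x = 1 := by
  have := h.simp
  have h1 : (⟨x, hx⟩ : F) ∈ center F := by
    rw [mem_center_iff]
    rintro ⟨y, hy⟩
    exact Subtype.ext (hc y hy).symm
  rcases (inferInstance : (center F).Normal).eq_bot_or_eq_top with h2 | h2
  · rw [h2, mem_bot] at h1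
    exact congrArg Subtype.val h1
  · exfalso
    apply h.na
    refine ⟨⟨fun a b => ?_⟩⟩
    have h3 : a ∈ center F := by rw [h2]; exact mem_top a
    exact (mem_center_iff.1 h3 b).symm

/-- subgroups normalised by `C(t)` -/
theorem Sit.nsub {M : Subgroup G} (hM : centralizer ({t} : Set G) ≤ normalizer (M : Set G)) :
    M ⊓ centralizer ({t} : Set G) = ⊥ ∨ M ⊓ centralizer ({t} : Set G) = zpowers t ∨ F ≤ M := by
  have := h.simp
  have hn : (M.subgroupOf F).Normal := by
    refine ⟨fun y hy c => ?_⟩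
    rw [mem_subgroupOf] at hy ⊢
    exact (mem_normalizer_iff.1 (hM (h.FC c.2)) _).1 hy
  rcases hn.eq_bot_or_eq_top with h1 | h1
  swap
  · right; right
    exact subgroupOf_eq_top.1 h1
  have hX : ∀ x ∈ M ⊓ centralizer ({t} : Set G), x ∈ zpowers t := by
    rintro x ⟨hx, hxC⟩
    have hxt : x * t = t * x := mem_centralizer_singleton_iff.1 hxC
    -- `[x, y] = 1` for `y ∈ F`
    have hcomm : ∀ y ∈ F, x * y = y * x := by
      intro y hy
      have h2 : x * y * x⁻¹ * y⁻¹ ∈ F := F.mul_mem (h.nF x hxC y hy) (F.inv_mem hy)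
      have h3 : x * y * x⁻¹ * y⁻¹ ∈ M := by
        have h4 : x * y * x⁻¹ * y⁻¹ = x * (y * x⁻¹ * y⁻¹) := by group
        rw [h4]
        exact M.mul_mem hx ((mem_normalizer_iff.1 (hM (h.FC hy)) _).1 (M.inv_mem hx))
      have h4 : (⟨x * y * x⁻¹ * y⁻¹, h2⟩ : F) ∈ M.subgroupOf F := mem_subgroupOf.2 h3
      rw [h1, mem_bot] at h4
      have h5 : x * y * x⁻¹ * y⁻¹ = 1 := congrArg Subtype.val h4
      have h6 : x * y * x⁻¹ = y := mul_inv_eq_one.1 h5
      exact mul_inv_eq_iff_eq_mul.1 h6
    rcases h.half' x hxC with h2 | h2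
    · rw [h.center_F h2 hcomm]; exact one_mem _
    · have h3 : t * x = 1 := h.center_F h2 fun y hy => by
        have hyt : y * t = t * y := mem_centralizer_singleton_iff.1 (h.FC hy)
        calc t * x * y = t * (x * y) := mul_assoc _ _ _
          _ = t * (y * x) := by rw [hcomm y hy]
          _ = (t * y) * x := by group
          _ = y * (t * x) := by rw [← hyt, mul_assoc]
      have h4 : x = t⁻¹ := eq_inv_of_mul_eq_one_right h3
      rw [h4]
      exact inv_mem (Subgroup.mem_zpowers t)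
  by_cases ht : t ∈ M
  · right; left
    refine le_antisymm hX ?_
    rw [zpowers_le]
    exact ⟨ht, mem_centralizer_singleton_iff.2 rfl⟩
  · left
    rw [eq_bot_iff]
    intro x hx
    rcases h.mem_zpowers (hX x hx) with rfl | rfl
    · exact one_mem _
    · exact absurd hx.1 ht

/-- **Lemma A.** -/
theorem Sit.F_le [Finite G] (hO : pPrimeCore 2 G = ⊥) {M : Subgroup G} (hM : M.Normal) (hne : M ≠ ⊥) :
    F ≤ M ∨ t ∈ center G := by
  have : Fact (Nat.Prime 2) := ⟨Nat.prime_two⟩
  have hodd := Lib.SylowNormalInf.not_dvd_relIndex S M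
  have hcard := Lib.SylowNormalInf.card_inf_mul_relIndex (S : Subgroup G) M
  rcases h.nsub (M := M) (by rw [normalizer_eq_top]; exact le_top) with h1 | h1 | h1
  · -- odd order
    exfalso
    apply hne
    rw [eq_bot_iff, ← hO]
    refine le_pPrimeCore hM ?_
    have h2 : (S : Subgroup G) ⊓ M = ⊥ := by
      rw [eq_bot_iff, ← h1]
      exact fun x hx => ⟨hx.2, h.sc hx.1⟩
    rw [h2, card_bot, one_mul] at hcard
    rw [← hcard, Nat.coprime_comm]
    exact (Nat.Prime.coprime_iff_not_dvd Nat.prime_two).2 hodd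
  · right
    have htM : t ∈ M := by
      have : t ∈ M ⊓ centralizer ({t} : Set G) := by rw [h1]; exact Subgroup.mem_zpowers t
      exact this.1
    have h2 : (S : Subgroup G) ⊓ M = zpowers t := by
      apply le_antisymm
      · rw [← h1]
        exact fun x hx => ⟨hx.2, h.sc hx.1⟩
      · rw [zpowers_le]
        exact ⟨h.tS, htM⟩
    rw [h2, Nat.card_zpowers, h.ord] at hcard
    -- the Sylow 2-subgroup of `M`
    obtain ⟨P, hP⟩ : ∃ P : Sylow 2 M, (P : Subgroup M) = (S : Subgroup G).subgroupOf M :=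
      ⟨(Lib.SylowNormalInf.isPGroup_subgroupOf S M).toSylow hodd, rfl⟩
    have hPcard : Nat.card (P : Subgroup M) = 2 := by
      rw [hP, ← inf_subgroupOf_right, h2]
      rw [Nat.card_congr (Subgroup.subgroupOfEquivOfLe (show zpowers t ≤ M by rwa [zpowers_le])).toEquiv,
        Nat.card_zpowers, h.ord]
    have hcyc : IsCyclic (P : Subgroup M) := isCyclic_of_prime_card hPcard
    have hmin : (Nat.card M).minFac = 2 := by
      rw [Nat.minFac_eq_two_iff, ← hcard]
      exact Dvd.intro _ rfl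
    have hcompl := hcyc.isComplement' hmin
    obtain ⟨K, hK⟩ : ∃ K, K = (MonoidHom.transferSylow P (hcyc.normalizer_le_centralizer hmin)).ker := ⟨_, rfl⟩
    rw [← hK] at hcompl
    have hKn : K.Normal := by rw [hK]; infer_instance
    have hKcard := hcompl.card_mul_card
    rw [hPcard] at hKcard
    have hKodd : (Nat.card K).Coprime 2 := by
      rw [Nat.coprime_comm]
      refine (Nat.Prime.coprime_iff_not_dvd Nat.prime_two).2 fun h3 => hodd ?_
      have h4 : Nat.card K = (S : Subgroup G).relIndex M := by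
        have : Nat.card K * 2 = 2 * (S : Subgroup G).relIndex M := by rw [hKcard, hcard]
        omega
      rwa [h4] at h3
    have hKb : K = ⊥ := by
      rw [eq_bot_iff]
      have h3 : K ≤ pPrimeCore 2 M := le_pPrimeCore hKn hKodd
      have h4 := map_subtype_pPrimeCore 2 hM
      rw [hO, inf_bot_eq, Subgroup.map_eq_bot_iff_of_injective _ M.subtype_injective] at h4
      rw [← h4]
      exact h3
    rw [hKb, card_bot, one_mul] at hKcard
    have hMt : M = zpowers t := by
      symm
      apply Subgroup.eq_of_le_of_card_ge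
      · rwa [zpowers_le]
      · rw [Nat.card_zpowers, h.ord, ← hKcard]
    rw [mem_center_iff]
    intro g
    have h5 : g * t * g⁻¹ ∈ zpowers t := by
      rw [← hMt]
      exact hM.conj_mem t htM g
    rcases h.mem_zpowers h5 with h6 | h6
    · exfalso
      apply h.t1
      have : t = g⁻¹ * (g * t * g⁻¹) * g := by group
      rw [this, h6]; group
    · exact mul_inv_eq_iff_eq_mul.1 h6
  · exact Or.inl h1

/-- restriction to a subgroup containing `C(t)` -/
theorem Sit.restrict {N : Subgroup G} (hN : centralizer ({t} : Set G) ≤ N) :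
    ∃ P : Sylow 2 N, Sit (⟨t, hN (mem_centralizer_singleton_iff.2 rfl)⟩ : N) (F.subgroupOf N) P := by
  have htC : t ∈ centralizer ({t} : Set G) := mem_centralizer_singleton_iff.2 rfl
  refine ⟨S.subtype (h.sc.trans hN), ?_⟩
  have hmem : ∀ x : N, x ∈ centralizer ({(⟨t, hN htC⟩ : N)} : Set N) ↔ (x : G) ∈ centralizer ({t} : Set G) := by
    intro x
    rw [mem_centralizer_singleton_iff, mem_centralizer_singleton_iff]
    exact Subtype.ext_iff
  refine ⟨?_, ?_, ?_, ⟨?_, ?_, ?_, ?_, ?_⟩, ?_, ?_⟩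
  · rw [← h.ord, ← orderOf_injective N.subtype N.subtype_injective]; rfl
  · exact h.tS
  · intro x hx
    exact (hmem x).2 (h.sc hx)
  · rw [zpowers_le]
    exact (hmem _).2 htC
  · intro x hx
    exact (hmem x).2 (h.FC hx)
  · rintro ⟨a, ha⟩ ha' ⟨b, hb⟩ hb'
    apply Subtype.ext
    refine h.dp.2.2.1 a ?_ b hb'
    obtain ⟨k, hk⟩ := mem_zpowers_iff.1 ha'
    exact mem_zpowers_iff.2 ⟨k, congrArg Subtype.val hk⟩
  · rw [eq_bot_iff]
    rintro ⟨a, ha⟩ ⟨ha1, ha2⟩
    rw [mem_bot]
    apply Subtype.ext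
    have h1 : a ∈ zpowers t ⊓ F := by
      obtain ⟨k, hk⟩ := mem_zpowers_iff.1 ha1
      exact ⟨mem_zpowers_iff.2 ⟨k, congrArg Subtype.val hk⟩, ha2⟩
    rw [h.dp.2.2.2.1] at h1
    exact mem_bot.1 h1
  · apply le_antisymm
    · rw [sup_le_iff, zpowers_le]
      exact ⟨(hmem _).2 htC, fun x hx => (hmem x).2 (h.FC hx)⟩
    · intro x hx
      rcases h.half' _ ((hmem x).1 hx) with h1 | h1
      · exact mem_sup_right h1
      · have h2 : x = (⟨t, hN htC⟩ : N)⁻¹ * (⟨t, hN htC⟩ * x) := by group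
        rw [h2]
        exact mul_mem (inv_mem (mem_sup_left (Subgroup.mem_zpowers _))) (mem_sup_right h1)
  · have := h.simp
    exact MulEquiv.isSimpleGroup (Subgroup.subgroupOfEquivOfLe (h.FC.trans hN))
  · intro h1
    apply h.na
    refine ⟨⟨fun a b => ?_⟩⟩
    have h2 := h1.1.1 ((Subgroup.subgroupOfEquivOfLe (h.FC.trans hN)).symm a)
      ((Subgroup.subgroupOfEquivOfLe (h.FC.trans hN)).symm b)
    rw [← map_mul, ← map_mul] at h2
    exact (Subgroup.subgroupOfEquivOfLe (h.FC.trans hN)).symm.injective h2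

/-- **Lemma B.** -/
theorem Sit.exists_simple [Finite G] (hO : pPrimeCore 2 G = ⊥) (hno : ¬ ∃ H : Subgroup G, H.index = 2 ∧ t ∉ H)
    (hfus : ∃ g : G, g⁻¹ * t * g ∈ F) :
    ∃ N : Subgroup G, IsSimpleGroup N ∧ centralizer ({t} : Set G) ≤ N := by
  -- `t` is not central
  have hnc : t ∉ center G := by
    intro hc
    apply hno
    have hC : centralizer ({t} : Set G) = ⊤ := by
      rw [eq_top_iff]
      intro x _
      exact mem_centralizer_singleton_iff.2 (mem_center_iff.1 hc x)
    refine ⟨F, ?_, h.tF⟩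
    rw [index_eq_two_iff]
    refine ⟨t, fun b => ?_⟩
    have hb : b ∈ centralizer ({t} : Set G) := by rw [hC]; exact mem_top b
    have hbt : b * t = t * b := mem_centralizer_singleton_iff.1 hb
    rcases h.half' b hb with h1 | h1
    · right
      refine ⟨h1, fun h2 => h.tF ?_⟩
      have h3 : t = b⁻¹ * (b * t) := by group
      rw [h3]
      exact F.mul_mem (F.inv_mem h1) h2
    · left
      refine ⟨by rw [hbt]; exact h1, fun h2 => h.tF ?_⟩
      have h3 : t = (t * b) * b⁻¹ := by group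
      rw [h3]
      exact F.mul_mem h1 (F.inv_mem h2)
  have hnt : Nontrivial G := ⟨t, 1, h.t1⟩
  obtain ⟨N, hN, hNe, hmin⟩ := Lib.SubnormalJoin.exists_minimal_normal G
  have hFN : F ≤ N := (h.F_le hO hN hNe).resolve_right hnc
  have htN : t ∈ N := by
    obtain ⟨g, hg⟩ := hfus
    have h1 := hN.conj_mem _ (hFN hg) g
    have h2 : g * (g⁻¹ * t * g) * g⁻¹ = t := by group
    rwa [h2] at h1
  have hCN : centralizer ({t} : Set G) ≤ N := by
    intro x hx
    rcases h.half' x hx with h1 | h1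
    · exact hFN h1
    · have h2 : x = t⁻¹ * (t * x) := by group
      rw [h2]
      exact N.mul_mem (N.inv_mem htN) (hFN h1)
  refine ⟨N, ?_, hCN⟩
  obtain ⟨P, h'⟩ := h.restrict hCN
  have hON : pPrimeCore 2 N = ⊥ := by
    have h4 := map_subtype_pPrimeCore 2 hN
    rwa [hO, inf_bot_eq, Subgroup.map_eq_bot_iff_of_injective _ N.subtype_injective] at h4
  have hntN : Nontrivial N := (Subgroup.nontrivial_iff_ne_bot N).2 hNe
  -- `F` is not commutative
  have hFne : F ≠ ⊥ := by
    rintro rfl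
    apply h.na
    refine ⟨⟨fun a b => Subsingleton.elim _ _⟩⟩
  have hkey : ∀ M : Subgroup N, M.Normal → M ≠ ⊥ → F ≤ M.map N.subtype := by
    intro M hM hMe
    rcases h'.F_le hON hM hMe with h1 | h1
    · intro x hx
      exact ⟨⟨x, hFN hx⟩, h1 (mem_subgroupOf.2 hx), rfl⟩
    · exfalso
      -- the centre of `N`
      have h2 : ((center N).map N.subtype).Normal := by infer_instance
      have h3 : (center N).map N.subtype ≠ ⊥ := by
        rw [Ne, Subgroup.map_eq_bot_iff_of_injective _ N.subtype_injective]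
        intro h4
        rw [h4, mem_bot] at h1
        exact h.t1 (congrArg Subtype.val h1)
      have h4 : (center N).map N.subtype = N := by
        rcases hmin _ h2 (map_subtype_le _) with h5 | h5
        · exact absurd h5 h3
        · exact h5
      apply h.na
      refine ⟨⟨fun a b => ?_⟩⟩
      have h5 : (a : G) ∈ (center N).map N.subtype := by rw [h4]; exact hFN a.2
      obtain ⟨c, hc, hca⟩ := h5
      have h6 := mem_center_iff.1 hc ⟨b, hFN b.2⟩
      apply Subtype.ext
      have h7 : (b : G) * c = c * b := congrArg Subtype.val h6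
      change (a : G) * b = b * a
      rw [← hca]
      exact h7.symm
  refine IsSimpleGroup.mk fun M hM => ?_
  by_cases hMe : M = ⊥
  · exact Or.inl hMe
  right
  -- the core of `M` in `G`
  have hMG : F ≤ (M.map N.subtype).normalCore := by
    intro f hf g
    -- `M ^ g`
    obtain ⟨M', hM'⟩ : ∃ M' : Subgroup N, M' = M.map (MulAut.conjNormal (H := N) g⁻¹).toMonoidHom := ⟨_, rfl⟩
    have hn' : M'.Normal := by
      rw [hM']
      exact hM.map _ (MulEquiv.surjective _)
    have hne' : M' ≠ ⊥ := by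
      rw [hM', Ne, Subgroup.map_eq_bot_iff_of_injective _ (MulEquiv.injective _)]
      exact hMe
    obtain ⟨m', hm', hmf⟩ := hkey M' hn' hne' hf
    rw [hM'] at hm'
    obtain ⟨m, hm, rfl⟩ := hm'
    have h1 : ((MulAut.conjNormal (H := N) g⁻¹ m : N) : G) = f := hmf
    rw [MulAut.conjNormal_apply, inv_inv] at h1
    refine ⟨m, hm, ?_⟩
    change (m : G) = g * f * g⁻¹
    rw [← h1]; group
  have h1 : (M.map N.subtype).normalCore = N := by
    rcases hmin _ (normalCore_normal _) ((normalCore_le _).trans (map_subtype_le _)) with h5 | h5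
    · exact absurd (eq_bot_iff.2 (hMG.trans h5.le)) hFne
    · exact h5
  rw [eq_top_iff]
  rintro ⟨x, hx⟩ _
  have h2 : x ∈ M.map N.subtype := normalCore_le _ (by rw [h1]; exact hx)
  obtain ⟨m, hm, hmx⟩ := h2
  have h3 : m = ⟨x, hx⟩ := Subtype.ext hmx
  rwa [← h3]

end

end Cfsg.Agent.H315.SqC.Ab
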