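import Cfsg.Agent.H315.SqAb

/-!
# The abelian case of S3226: reduction to a simple group, general `O(G)` (helper315)
-/

set_option autoImplicit false
set_option linter.unusedSectionVars false

namespace Cfsg.Agent.H315.SqC.Ab

open Subgroup Cfsg Cfsg.Agent.H315.SqC Cfsg.Agent.Lib.Cores

universe u

variable {G : Type u} [Group G] {t : G} {F : Subgroup G} {S : Sylow 2 G}

/-- `C(t) ∩ O = 1` for a normal subgroup `O` of odd order -/
theorem Sit.inf_odd [Finite G] (h : Sit t F S) (hfus : ∃ g : G, g⁻¹ * t * g ∈ F) {O : Subgroup G} (hO : O.Normal)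
    (hodd : ¬ 2 ∣ Nat.card O) : O ⊓ centralizer ({t} : Set G) = ⊥ := by
  have htO : t ∉ O := by
    intro ht
    apply hodd
    have h1 := Subgroup.orderOf_dvd_natCard O ht
    rwa [h.ord] at h1
  rcases h.nsub (M := O) (by rw [normalizer_eq_top]; exact le_top) with h1 | h1 | h1
  · exact h1
  · exfalso
    apply htO
    have : t ∈ O ⊓ centralizer ({t} : Set G) := by rw [h1]; exact Subgroup.mem_zpowers t
    exact this.1
  · exfalso
    apply htO
    obtain ⟨g, hg⟩ := hfus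
    have h2 := hO.conj_mem _ (h1 hg) g
    have h3 : g * (g⁻¹ * t * g) * g⁻¹ = t := by group
    rwa [h3] at h2

/-- the quotient by a normal subgroup of odd order -/
theorem Sit.quot [Finite G] (h : Sit t F S) (hfus : ∃ g : G, g⁻¹ * t * g ∈ F) {Q : Type*} [Group Q] (π : G →* Q)
    (hπ : Function.Surjective π) (hodd : ¬ 2 ∣ Nat.card π.ker) :
    Sit (π t) (F.map π) (S.mapSurjective hπ) ∧ Nonempty (F ≃* F.map π) := by
  have hinf := h.inf_odd hfus (O := π.ker) inferInstance hodd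
  have hinj : ∀ x ∈ centralizer ({t} : Set G), ∀ y ∈ centralizer ({t} : Set G), π x = π y → x = y := by
    intro x hx y hy hxy
    have h1 : x * y⁻¹ ∈ π.ker ⊓ centralizer ({t} : Set G) := by
      refine Subgroup.mem_inf.2 ⟨?_, (centralizer ({t} : Set G)).mul_mem hx ((centralizer ({t} : Set G)).inv_mem hy)⟩
      rw [MonoidHom.mem_ker, map_mul, map_inv, hxy, mul_inv_cancel]
    rw [hinf, mem_bot] at h1
    exact mul_inv_eq_one.1 h1
  have htC : t ∈ centralizer ({t} : Set G) := mem_centralizer_singleton_iff.2 rfl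
  have hcm := Cit.centralizer_map hπ hodd h.tt
  have e : F ≃* F.map π := by
    refine MulEquiv.ofBijective (π.subgroupMap F) ⟨?_, π.subgroupMap_surjective F⟩
    intro x y hxy
    exact Subtype.ext (hinj _ (h.FC x.2) _ (h.FC y.2) (congrArg Subtype.val hxy))
  refine ⟨⟨?_, ?_, ?_, ⟨?_, ?_, ?_, ?_, ?_⟩, ?_, ?_⟩, ⟨e⟩⟩
  · refine orderOf_eq_prime ?_ ?_
    · rw [← map_pow, pow_two, h.tt, map_one]
    · intro h1
      rw [← map_one π] at h1
      exact h.t1 (hinj t htC 1 (one_mem _) h1)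
  · exact ⟨t, h.tS, rfl⟩
  · rw [← hcm]
    exact Subgroup.map_mono h.sc
  · rw [zpowers_le]
    exact mem_centralizer_singleton_iff.2 rfl
  · rw [← hcm]
    exact Subgroup.map_mono h.FC
  · rintro a ha _ ⟨b, hb, rfl⟩
    rw [← MonoidHom.map_zpowers] at ha
    obtain ⟨a', ha', rfl⟩ := ha
    rw [← map_mul, ← map_mul, h.dp.2.2.1 a' ha' b hb]
  · rw [eq_bot_iff]
    rintro x ⟨ha, ⟨b, hb, rfl⟩⟩
    rw [← MonoidHom.map_zpowers] at ha
    obtain ⟨a', ha', hab⟩ := ha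
    have h1 : a' = b := hinj _ (h.dp.1 ha') _ (h.FC hb) hab
    have h2 : b ∈ zpowers t ⊓ F := ⟨h1 ▸ ha', hb⟩
    rw [h.dp.2.2.2.1, mem_bot] at h2
    rw [mem_bot, h2, map_one]
  · rw [← MonoidHom.map_zpowers, ← Subgroup.map_sup, h.dp.2.2.2.2, hcm]
  · have := h.simp
    exact MulEquiv.isSimpleGroup e.symm
  · intro h1
    apply h.na
    refine ⟨⟨fun a b => ?_⟩⟩
    have h2 := h1.1.1 (e a) (e b)
    rw [← map_mul, ← map_mul] at h2
    exact e.injective h2

/-- **The reduction to a simple group.** -/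
theorem Sit.exists_simple' [Finite G] (h : Sit t F S) (hno : ¬ ∃ H : Subgroup G, H.index = 2 ∧ t ∉ H)
    (hfus : ∃ g : G, g⁻¹ * t * g ∈ F) (hab : ∀ a ∈ (S : Subgroup G), ∀ b ∈ (S : Subgroup G), a * b = b * a) :
    ∃ (K : Type u) (_ : Group K) (_ : Finite K) (t' : K) (F' : Subgroup K) (P : Sylow 2 K), IsSimpleGroup K ∧
      Sit t' F' P ∧ Nonempty (F ≃* F') ∧ (∀ a ∈ (P : Subgroup K), ∀ b ∈ (P : Subgroup K), a * b = b * a) := by
  have hn : (pPrimeCore 2 G).Normal := pPrimeCore_normal 2 G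
  obtain ⟨π, hπdef⟩ : ∃ π : G →* G ⧸ pPrimeCore 2 G, π = QuotientGroup.mk' (pPrimeCore 2 G) := ⟨_, rfl⟩
  have hπ : Function.Surjective π := by rw [hπdef]; exact QuotientGroup.mk'_surjective _
  have hker : π.ker = pPrimeCore 2 G := by rw [hπdef]; exact QuotientGroup.ker_mk' _
  have hodd : ¬ 2 ∣ Nat.card π.ker := by
    rw [hker]
    have := pPrimeCore_coprime (G := G) 2
    rw [Nat.coprime_comm] at this
    exact (Nat.Prime.coprime_iff_not_dvd Nat.prime_two).1 this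
  obtain ⟨hq, ⟨e⟩⟩ := h.quot hfus π hπ hodd
  have hno' : ¬ ∃ H : Subgroup (G ⧸ pPrimeCore 2 G), H.index = 2 ∧ π t ∉ H := by
    rintro ⟨H, hH, htH⟩
    exact hno ⟨H.comap π, by rw [index_comap_of_surjective H hπ, hH], htH⟩
  have hfus' : ∃ g : G ⧸ pPrimeCore 2 G, g⁻¹ * π t * g ∈ F.map π := by
    obtain ⟨g, hg⟩ := hfus
    exact ⟨π g, ⟨_, hg, by rw [map_mul, map_mul, map_inv]⟩⟩
  obtain ⟨N, hN, hCN⟩ := hq.exists_simple (pPrimeCore_quotient_pPrimeCore 2) hno' hfus'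
  have htC : π t ∈ centralizer ({π t} : Set (G ⧸ pPrimeCore 2 G)) := mem_centralizer_singleton_iff.2 rfl
  obtain ⟨P, hP⟩ := hq.restrict hCN
  refine ⟨N, inferInstance, inferInstance, _, _, P, hN, hP,
    ⟨e.trans (Subgroup.subgroupOfEquivOfLe (hq.FC.trans hCN)).symm⟩, ?_⟩
  -- `P` is abelian
  have hS' : ∀ a ∈ ((S.mapSurjective hπ : Sylow 2 (G ⧸ pPrimeCore 2 G)) : Subgroup (G ⧸ pPrimeCore 2 G)),
      ∀ b ∈ ((S.mapSurjective hπ : Sylow 2 (G ⧸ pPrimeCore 2 G)) : Subgroup (G ⧸ pPrimeCore 2 G)), a * b = b * a := by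
    rintro _ ⟨a, ha, rfl⟩ _ ⟨b, hb, rfl⟩
    rw [← map_mul, ← map_mul, hab a ha b hb]
  have hPp : IsPGroup 2 ((P : Subgroup N).map N.subtype) := P.isPGroup'.map _
  obtain ⟨R, hR⟩ := hPp.exists_le_sylow
  obtain ⟨g, hg⟩ := MulAction.exists_smul_eq (G ⧸ pPrimeCore 2 G) R (S.mapSurjective hπ)
  intro a ha b hb
  have key : ∀ a ∈ (P : Subgroup N), g * (a : G ⧸ pPrimeCore 2 G) * g⁻¹ ∈
      ((S.mapSurjective hπ : Sylow 2 (G ⧸ pPrimeCore 2 G)) : Subgroup (G ⧸ pPrimeCore 2 G)) := by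
    intro a ha
    rw [← hg]
    exact Subgroup.smul_mem_pointwise_smul _ (MulAut.conj g) _ (hR ⟨a, ha, rfl⟩)
  have h1 := hS' _ (key a ha) _ (key b hb)
  apply Subtype.ext
  change (a : G ⧸ pPrimeCore 2 G) * b = b * a
  have h2 : g * ((a : G ⧸ pPrimeCore 2 G) * b) * g⁻¹ = g * ((b : G ⧸ pPrimeCore 2 G) * a) * g⁻¹ := by
    calc g * ((a : G ⧸ pPrimeCore 2 G) * b) * g⁻¹ = (g * a * g⁻¹) * (g * b * g⁻¹) := by group
      _ = (g * b * g⁻¹) * (g * a * g⁻¹) := h1
      _ = _ := by group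
  exact mul_left_cancel (mul_right_cancel h2)

/-- `C(t) ≅ Z₂ × F` -/
theorem Sit.iso (h : Sit t F S) : Nonempty (centralizer ({t} : Set G) ≃* Multiplicative (ZMod 2) × F) := by
  -- the map `Z₂ × F → C(t)`
  have e2 : Multiplicative (ZMod 2) ≃* zpowers t := by
    have h1 : Nat.card (zpowers t) = 2 := by rw [Nat.card_zpowers, h.ord]
    exact (mulEquivOfCyclicCardEq (by rw [h1, Nat.card_eq_fintype_card]; rfl))
  have hcm : ∀ (a : zpowers t) (b : F), Commute ((Subgroup.inclusion h.dp.1) a) ((Subgroup.inclusion h.FC) b) := by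
    intro a b
    exact Subtype.ext (h.dp.2.2.1 a a.2 b b.2)
  let f : zpowers t × F →* centralizer ({t} : Set G) :=
    MonoidHom.noncommCoprod (Subgroup.inclusion h.dp.1) (Subgroup.inclusion h.FC) hcm
  have hf : Function.Bijective f := by
    constructor
    · rw [injective_iff_map_eq_one]
      rintro ⟨a, b⟩ hab
      have h1 : (a : G) * b = 1 := congrArg Subtype.val hab
      have h2 : (a : G) = (b : G)⁻¹ := eq_inv_of_mul_eq_one_left h1
      have h3 : (a : G) ∈ zpowers t ⊓ F := ⟨a.2, by rw [h2]; exact F.inv_mem b.2⟩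
      rw [h.dp.2.2.2.1, mem_bot] at h3
      rw [h3, one_mul] at h1
      exact Prod.ext (Subtype.ext h3) (Subtype.ext h1)
    · rintro ⟨x, hx⟩
      rcases h.half' x hx with h1 | h1
      · refine ⟨(1, ⟨x, h1⟩), Subtype.ext ?_⟩
        change (1 : G) * x = x
        exact one_mul x
      · refine ⟨(⟨t⁻¹, inv_mem (Subgroup.mem_zpowers t)⟩, ⟨t * x, h1⟩), Subtype.ext ?_⟩
        change t⁻¹ * (t * x) = x
        group
  exact ⟨(MulEquiv.ofBijective f hf).symm.trans (MulEquiv.prodCongr e2.symm (MulEquiv.refl _))⟩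

end Cfsg.Agent.H315.SqC.Ab
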