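import Cfsg.Agent.H315.Sq

/-!
# Alternating groups: `DF (alternatingGroup (Fin n))`, `n ≥ 6` (helper315, for S3226)
-/

set_option autoImplicit false
set_option linter.unusedSimpArgs false

namespace Cfsg.Agent.H315.SqC.Alt

open Equiv Equiv.Perm Subgroup Cfsg Cfsg.Agent.H315.SqC

variable {α : Type*} [Fintype α] [DecidableEq α]

omit [Fintype α] in
theorem cj (σ : Perm α) (u v : α) : σ * swap u v = swap (σ u) (σ v) * σ := by
  have h6 : σ * swap u v * σ⁻¹ = swap (σ u) (σ v) := by rw [Equiv.swap_apply_apply]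
  rw [← h6]; group

/-- two transpositions of an involution -/
theorem pair_mem (h6 : 6 ≤ Fintype.card α) (s : alternatingGroup α) (hs : ∀ x, (s : Perm α) ((s : Perm α) x) = x)
    {a b : α} (ha : (s : Perm α) a ≠ a) (hb : (s : Perm α) b ≠ b) (hab : b ≠ a) (hab' : b ≠ (s : Perm α) a) :
    swap a ((s : Perm α) a) * swap b ((s : Perm α) b) ∈ (Sq s).map (alternatingGroup α).subtype := by
  obtain ⟨σ, hσ⟩ : ∃ σ : Perm α, σ = s := ⟨_, rfl⟩
  rw [← hσ] at ha hb hab' hs ⊢
  obtain ⟨a', ha'⟩ : ∃ a', a' = σ a := ⟨_, rfl⟩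
  obtain ⟨b', hb'⟩ : ∃ b', b' = σ b := ⟨_, rfl⟩
  have hsa' : σ a' = a := by rw [ha', hs]
  have hsb' : σ b' = b := by rw [hb', hs]
  rw [← ha'] at ha hab' ⊢
  rw [← hb'] at hb ⊢
  have h1 : a' ≠ b' := by
    intro h
    apply hab
    rw [← hsb', ← hsa', h]
  have h2 : a ≠ b' := by
    intro h
    apply hab'
    rw [← hsb', ha', ← h]
  -- the disjoint transposition
  obtain ⟨c, d, hcd, hca, hca', hcb, hcb', hda, hda', hdb, hdb', hcom⟩ : ∃ c d : α, c ≠ d ∧ c ≠ a ∧ c ≠ a' ∧ c ≠ b ∧
      c ≠ b' ∧ d ≠ a ∧ d ≠ a' ∧ d ≠ b ∧ d ≠ b' ∧ swap c d * σ = σ * swap c d := by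
    have hcard : 1 < (({a, a', b, b'} : Finset α)ᶜ).card := by
      rw [Finset.card_compl]
      have : ({a, a', b, b'} : Finset α).card ≤ 4 := Finset.card_le_four
      omega
    obtain ⟨c, hc, d, hd, hcd⟩ := Finset.one_lt_card.1 hcard
    simp only [Finset.mem_compl, Finset.mem_insert, Finset.mem_singleton, not_or] at hc hd
    have hmv : ∀ c : α, c ≠ a → c ≠ a' → c ≠ b → c ≠ b' → σ c ≠ c →
        ∃ c d : α, c ≠ d ∧ c ≠ a ∧ c ≠ a' ∧ c ≠ b ∧
          c ≠ b' ∧ d ≠ a ∧ d ≠ a' ∧ d ≠ b ∧ d ≠ b' ∧ swap c d * σ = σ * swap c d := by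
      intro c h1 h2 h3 h4 h5
      refine ⟨c, σ c, h5.symm, h1, h2, h3, h4, ?_, ?_, ?_, ?_, ?_⟩
      · intro h; apply h2; rw [← hs c, h, ha']
      · intro h; apply h1; rw [← hs c, h, hsa']
      · intro h; apply h4; rw [← hs c, h, hb']
      · intro h; apply h3; rw [← hs c, h, hsb']
      · rw [cj, hs, swap_comm (σ c) c]
    by_cases hc5 : σ c = c
    · by_cases hd5 : σ d = d
      · refine ⟨c, d, hcd, hc.1, hc.2.1, hc.2.2.1, hc.2.2.2, hd.1, hd.2.1, hd.2.2.1, hd.2.2.2, ?_⟩
        rw [cj, hc5, hd5]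
      · exact hmv d hd.1 hd.2.1 hd.2.2.1 hd.2.2.2 hd5
    · exact hmv c hc.1 hc.2.1 hc.2.2.1 hc.2.2.2 hc5
  -- the four-cycle
  obtain ⟨x, hx⟩ : ∃ x : Perm α, x = swap a b * swap a' b' * swap b b' := ⟨_, rfl⟩
  have hxx : x * x = swap a a' * swap b b' := by
    rw [hx]
    ext y
    simp only [Perm.mul_apply]
    by_cases e1 : y = a
    · subst e1
      simp [swap_apply_of_ne_of_ne, h1, h1.symm, h2, h2.symm, ha, ha.symm, hb, hb.symm, hab, hab.symm, hab', hab'.symm]
    by_cases e2 : y = a'
    · subst e2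
      simp [swap_apply_of_ne_of_ne, h1, h1.symm, h2, h2.symm, ha, ha.symm, hb, hb.symm, hab, hab.symm, hab', hab'.symm]
    by_cases e3 : y = b
    · subst e3
      simp [swap_apply_of_ne_of_ne, h1, h1.symm, h2, h2.symm, ha, ha.symm, hb, hb.symm, hab, hab.symm, hab', hab'.symm]
    by_cases e4 : y = b'
    · subst e4
      simp [swap_apply_of_ne_of_ne, h1, h1.symm, h2, h2.symm, ha, ha.symm, hb, hb.symm, hab, hab.symm, hab', hab'.symm]
    simp [swap_apply_of_ne_of_ne, e1, e2, e3, e4]
  have hxc : x * σ = σ * x := by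
    rw [hx]
    have e1 : σ * (swap a b * swap a' b' * swap b b') = swap a' b' * swap a b * swap b' b * σ := by
      calc σ * (swap a b * swap a' b' * swap b b') = σ * swap a b * swap a' b' * swap b b' := by group
        _ = swap a' b' * (σ * swap a' b') * swap b b' := by rw [cj σ a b, ← ha', ← hb', mul_assoc (swap a' b')]
        _ = swap a' b' * swap a b * (σ * swap b b') := by rw [cj σ a' b', hsa', hsb']; group
        _ = _ := by rw [cj σ b b', ← hb', hsb']; group
    rw [e1, swap_comm b' b]
    have e2 : swap a' b' * swap a b = swap a b * swap a' b' := by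
      rw [cj (swap a' b') a b, swap_apply_of_ne_of_ne ha.symm h2, swap_apply_of_ne_of_ne hab' hb.symm]
    rw [e2]
  have hxcd : x * swap c d = swap c d * x := by
    have e1 : x c = c := by
      rw [hx]
      simp [swap_apply_of_ne_of_ne, hca, hca', hcb, hcb']
    have e2 : x d = d := by
      rw [hx]
      simp [swap_apply_of_ne_of_ne, hda, hda', hdb, hdb']
    rw [cj x c d, e1, e2]
  obtain ⟨y, hy⟩ : ∃ y : Perm α, y = x * swap c d := ⟨_, rfl⟩
  have hyc : y * σ = σ * y := by
    rw [hy, mul_assoc, hcom, ← mul_assoc, hxc, mul_assoc]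
  have hyy : y * y = swap a a' * swap b b' := by
    rw [hy, ← hxx]
    calc x * swap c d * (x * swap c d) = x * (swap c d * x) * swap c d := by group
      _ = x * x * (swap c d * swap c d) := by rw [← hxcd]; group
      _ = x * x := by rw [swap_mul_self, mul_one]
  have hyA : y ∈ alternatingGroup α := by
    rw [mem_alternatingGroup, hy, hx]
    simp only [map_mul]
    rw [sign_swap hab.symm, sign_swap h1, sign_swap hb.symm, sign_swap hcd]
    decide
  refine ⟨⟨y, hyA⟩ * ⟨y, hyA⟩, sq_mem (Subtype.ext ?_), ?_⟩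
  · change y * (s : Perm α) = s * y
    rw [← hσ]; exact hyc
  · exact hyy

/-- the even products of transpositions of an involution -/
theorem mem_of_sub (h6 : 6 ≤ Fintype.card α) (s : alternatingGroup α) (hs : ∀ x, (s : Perm α) ((s : Perm α) x) = x) :
    ∀ (n : ℕ) (ρ : Perm α), ρ.support.card ≤ n → (∀ x, ρ x = x ∨ ρ x = (s : Perm α) x) → sign ρ = 1 →
      ρ ∈ (Sq s).map (alternatingGroup α).subtype := by
  intro n
  induction n with
  | zero =>
    intro ρ h _ _
    have : ρ = 1 := by
      rw [← support_eq_empty_iff, ← Finset.card_eq_zero]; omega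
    rw [this]; exact one_mem _
  | succ n ih =>
    intro ρ h hρ hsg
    by_cases h1 : ρ = 1
    · rw [h1]; exact one_mem _
    obtain ⟨a, ha⟩ : ∃ a, ρ a ≠ a := by
      by_contra hcon
      push Not at hcon
      exact h1 (Equiv.ext hcon)
    have ha' : ρ a = (s : Perm α) a := (hρ a).resolve_left ha
    have hsa : (s : Perm α) a ≠ a := by rw [← ha']; exact ha
    -- `ρ` is an involution
    have hinv : ∀ x, ρ x ≠ x → ρ ((s : Perm α) x) = x := by
      intro x hx
      have h2 : ρ x = (s : Perm α) x := (hρ x).resolve_left hx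
      rcases hρ ((s : Perm α) x) with h3 | h3
      · exfalso
        apply hx
        rw [← h2] at h3
        exact ρ.injective h3
      · rw [h3, hs]
    obtain ⟨b, hb, hba, hba'⟩ : ∃ b, ρ b ≠ b ∧ b ≠ a ∧ b ≠ (s : Perm α) a := by
      by_contra hcon
      push Not at hcon
      have : ρ = swap a ((s : Perm α) a) := by
        ext x
        by_cases e1 : x = a
        · subst e1; rw [ha', swap_apply_left]
        by_cases e2 : x = (s : Perm α) a
        · subst e2; rw [hinv a ha, swap_apply_right]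
        rw [swap_apply_of_ne_of_ne e1 e2]
        by_contra h3
        exact e2 (hcon x h3 e1)
      rw [this, sign_swap hsa.symm] at hsg
      exact absurd hsg (by decide)
    have hb' : ρ b = (s : Perm α) b := (hρ b).resolve_left hb
    have hsb : (s : Perm α) b ≠ b := by rw [← hb']; exact hb
    have hm := pair_mem h6 s hs hsa hsb hba hba'
    obtain ⟨a', ea'⟩ : ∃ a', a' = (s : Perm α) a := ⟨_, rfl⟩
    obtain ⟨b', eb'⟩ : ∃ b', b' = (s : Perm α) b := ⟨_, rfl⟩
    have hia := hinv a ha
    have hib := hinv b hb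
    rw [← ea'] at ha' hsa hba' hia hm
    rw [← eb'] at hb' hsb hib hm
    have h3 : a' ≠ b' := by
      intro e
      apply hba
      rw [← hib, ← hia, e]
    have h4 : a ≠ b' := by
      intro e
      apply hba'
      rw [← hib, ← ha', e]
    obtain ⟨ρ', hρ'⟩ : ∃ ρ' : Perm α, ρ' = swap b b' * swap a a' * ρ := ⟨_, rfl⟩
    have hval : ∀ x, ρ' x = if x = a ∨ x = a' ∨ x = b ∨ x = b' then x else ρ x := by
      intro x
      rw [hρ']
      simp only [Perm.mul_apply]
      by_cases e1 : x = a
      · subst e1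
        simp [ha', swap_apply_of_ne_of_ne, hba.symm, h4]
      by_cases e2 : x = a'
      · subst e2
        simp [hia, swap_apply_of_ne_of_ne, hba'.symm, h3]
      by_cases e3 : x = b
      · subst e3
        simp [hb', swap_apply_of_ne_of_ne, h3.symm, h4.symm]
      by_cases e4 : x = b'
      · subst e4
        simp [hib, swap_apply_of_ne_of_ne, hba, hba']
      rw [if_neg (by tauto)]
      have f1 : ρ x ≠ a := fun e => e2 (ρ.injective (e.trans hia.symm))
      have f2 : ρ x ≠ a' := fun e => e1 (ρ.injective (e.trans ha'.symm))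
      have f3 : ρ x ≠ b := fun e => e4 (ρ.injective (e.trans hib.symm))
      have f4 : ρ x ≠ b' := fun e => e3 (ρ.injective (e.trans hb'.symm))
      rw [swap_apply_of_ne_of_ne f1 f2, swap_apply_of_ne_of_ne f3 f4]
    have hρm : ρ' ∈ (Sq s).map (alternatingGroup α).subtype := by
      refine ih ρ' ?_ ?_ ?_
      · have h5 : ρ'.support ⊂ ρ.support := by
          rw [Finset.ssubset_iff_of_subset]
          · refine ⟨a, mem_support.2 ha, ?_⟩
            rw [mem_support, not_not, hval, if_pos (Or.inl rfl)]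
          · intro x hx
            rw [mem_support, hval] at hx
            rw [mem_support]
            split_ifs at hx with h7
            · exact absurd rfl hx
            · exact hx
        have := Finset.card_lt_card h5
        omega
      · intro x
        rw [hval]
        split_ifs
        · exact Or.inl rfl
        · exact hρ x
      · rw [hρ', map_mul, map_mul, hsg, sign_swap hsa.symm, sign_swap hsb.symm]
        decide
    have h5 : ρ = swap a a' * swap b b' * ρ' := by
      rw [hρ']
      calc ρ = swap a a' * (swap b b' * swap b b') * swap a a' * ρ := by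
            rw [swap_mul_self, mul_one, swap_mul_self, one_mul]
        _ = _ := by group
    rw [h5]
    exact mul_mem hm hρm

/-- **`DF` for the alternating groups.** -/
theorem df (h6 : 6 ≤ Fintype.card α) : DF (alternatingGroup α) := by
  intro s hs
  have hss : s * s = 1 := by rw [← pow_two, ← hs.1, pow_orderOf_eq_one]
  have h1 : ∀ x, (s : Perm α) ((s : Perm α) x) = x := by
    intro x
    have := congrArg (fun g : alternatingGroup α => (g : Perm α) x) hss
    exact this
  obtain ⟨y, hy, hys⟩ := mem_of_sub h6 s h1 _ (s : Perm α) le_rfl (fun x => Or.inr rfl) s.2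
  have : y = s := Subtype.ext hys
  exact this ▸ hy

end Cfsg.Agent.H315.SqC.Alt
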