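import Cfsg.Agent.H315.SqRgd

/-!
# `DF` for the exceptional groups of Lie type of odd characteristic (helper315, for S3226)

`G₂, F₄, E₆, E₇, E₈, ³D₄, ²E₆`.
-/

set_option autoImplicit false
set_option linter.unusedSectionVars false
set_option maxRecDepth 10000

namespace Cfsg.Agent.H315.SqC.Exc

open CoxeterSystem Cfsg.Agent.ChevalleyStructure.CoxeterGeom Cfsg.Agent.Tits.Roots Cfsg.Agent.Tits.Core
  Cfsg.Agent.Nodes Cfsg.Agent.Nodes.Reps Cfsg.Agent.Nodes.BNOf Cfsg.Agent.Nodes.Coroot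
  Cfsg.Agent.Nodes.RGDChev Cfsg.Agent.KFacts.RgdChevCoord Cfsg.Agent.Nodes.RGDFold Cfsg.Agent.Nodes.RGDTwGen
  Cfsg.Agent.Nodes.Reindex
  Cfsg.Agent.Omega.Lie.CenSL Cfsg.Agent.Omega.Lie.CenRGD Cfsg.Agent.Omega.Lie.CenChev
  Cfsg.Agent.Omega.Lie.CenFold Cfsg.Agent.Omega.Lie.CenTab Cfsg.Agent.Omega.Lie.CenTwist
  Cfsg.Agent.Omega.Lie.CenExp
open Cfsg.Lie Cfsg.Agent.ChevalleyStructure Cfsg.Agent.ChevalleyStructure.Elts
  Cfsg.Agent.ChevalleyStructure.NPerm Cfsg.Agent.ChevalleyStructure.TwistedU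
  Cfsg.Agent.ChevalleyStructure.TwistedFix Cfsg.Agent.ChevalleyStructure.RootCombGood
  Cfsg.Agent.ChevalleyStructure.RootCombBase Cfsg.Agent.ChevalleyStructure.RootCombTab
  Cfsg.Agent.ChevalleyStructure.RootCombBridge Cfsg.Agent.ChevalleyStructure.CoxeterGeomTypes
open Cfsg Cfsg.Agent.H315.SqC

universe u

/-- the sum mod 2 -/
def xorL (f : ℕ → Bool) (l : List ℕ) : Bool := List.rec (motive := fun _ => Bool) false (fun a _ ih => xor (f a) ih) l

theorem xorL_eq (f : ℕ → Bool) (l : List ℕ) : (l.map fun r => toZ (f r)).sum = toZ (xorL f l) := by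
  induction l with
  | nil => rfl
  | cons a l ih =>
    rw [List.map_cons, List.sum_cons, ih]
    have : xorL f (a :: l) = xor (f a) (xorL f l) := rfl
    rw [this]
    cases f a <;> cases xorL f l <;> decide

/-- the check of the sign vector -/
def sdChk (T : Tab) (D : ChevalleyDatum) (P : Inp) (xs : List ℕ) : Bool :=
  and (allL (fun r => and (Nat.ble (Nat.succ r) T.n) (and (P.lgB r)
    (not (evB (fun k => pz (RootVec.rt D r k)) (bit P.f₀) T.l)))) xs)
    (allLt (fun s => not (xor (evB (fun k => pz (RootVec.rt D s k)) (bit P.f₀) T.l)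
      (xorL (fun r => pz (Inp.carT T r s)) xs))) T.n)

theorem spn_of_chk {T : Tab} {D : ChevalleyDatum} {P : Inp} (B : Bridged D T) {l : ℕ} {M : CoxeterMatrix (Fin l)}
    (hp : IsType D l M) {W : Type*} [Group W] (cs : CoxeterSystem M W) (h : P.chk T D = true) (hω : ∀ i ∈ P.ω, i < l)
    {xs : List ℕ} (hx : sdChk T D P xs = true) :
    Spn cs hp.isCartan (LR D l P.lgB) (zet cs hp) (cs.wordProd (wd l P.ω hω))
      (fun j : {r : ℕ // r ∈ P.β} => vec D l j.1) := by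
  have C := cd_of_chk B hp h hω
  have hl : T.l = l := by rw [← B.rank]; exact hp.rank_eq
  have hn := B.nroots
  have hx' : allL (fun r => and (Nat.ble (Nat.succ r) T.n) (and (P.lgB r)
    (not (evB (fun k => pz (RootVec.rt D r k)) (bit P.f₀) T.l)))) xs = true ∧
    allLt (fun s => not (xor (evB (fun k => pz (RootVec.rt D s k)) (bit P.f₀) T.l)
      (xorL (fun r => pz (Inp.carT T r s)) xs))) T.n = true := by
    rw [← Bool.and_eq_true]; exact hx
  obtain ⟨hx1, hx2⟩ := hx'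
  have m1 : ∀ r ∈ xs, r < T.n ∧ P.lgB r = true ∧ evB (fun k => pz (RootVec.rt D r k)) (bit P.f₀) T.l = false := by
    intro r hr
    have := allL_spec hx1 r hr
    rw [Bool.and_eq_true, Bool.and_eq_true, Bool.not_eq_true'] at this
    exact ⟨Nat.le_of_ble_eq_true this.1, this.2⟩
  intro ε h1 h2 h3
  have h4 := C.one (fun i => ε (sr i)) (fun r hr => by
    rw [← hom_eq]
    exact h1 ⟨r, hr⟩) (fun i => by
    have hi := simple_lt hp.inList (lt_rank hp i)
    rw [← hom_eq, ← rep_word hp cs (wd l P.ω hω) hi, vec_simple hp i]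
    exact h2 _ (isRoot_sr cs hp.isCartan i))
  rcases h4 with h4 | h4
  · exfalso
    apply h3
    intro y _
    rw [hom_eq]
    refine Finset.sum_eq_zero fun i _ => ?_
    rw [show ε (sr i) = 0 from congrFun h4 i, mul_zero]
  have hsum : ∀ r, ε (vec D l r) = toZ (evB (fun k => pz (RootVec.rt D r k)) (bit P.f₀) T.l) := by
    intro r
    rw [hom_eq, hl, ← evB_eq, ← Fin.sum_univ_eq_sum_range (fun k => toZ (pz (RootVec.rt D r k)) * toZ (bit P.f₀ k))]
    refine Finset.sum_congr rfl fun i _ => ?_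
    rw [vec_apply, toZ_pz, show ε (sr i) = toZ (bit P.f₀ i) from congrFun h4 i]
  refine ⟨xs.map (vec D l), fun x hx => ?_, fun y hy => ?_⟩
  · obtain ⟨r, hr, rfl⟩ := List.mem_map.1 hx
    obtain ⟨e1, e2, e3⟩ := m1 r hr
    refine ⟨⟨r, by rw [hn]; exact e1, e2, rfl⟩, ?_⟩
    rw [hsum, e3]; rfl
  · obtain ⟨t, ht, rfl⟩ := (isRoot_iff hp cs y).1 hy
    have ht' : t < T.n := by rw [← hn]; exact ht
    have e1 := allLt_spec hx2 t ht'
    have e2 : evB (fun k => pz (RootVec.rt D t k)) (bit P.f₀) T.l = xorL (fun r => pz (Inp.carT T r t)) xs := by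
      revert e1
      cases evB (fun k => pz (RootVec.rt D t k)) (bit P.f₀) T.l <;> cases xorL (fun r => pz (Inp.carT T r t)) xs <;>
        simp
    rw [hsum, e2, ← xorL_eq, List.map_map]
    congr 1
    refine List.map_congr_left fun r hr => ?_
    change _ = zet cs hp (vec D l r) (vec D l t)
    obtain ⟨e3, -, -⟩ := m1 r hr
    rw [zet_vec hp cs (by rw [hn]; exact e3) ht, ← carT_eq B e3 ht', toZ_pz]

/-- The Chevalley groups. -/
theorem df_of_cd {D : ChevalleyDatum} {l : ℕ} {M : CoxeterMatrix (Fin l)} (hp : IsType D l M) (K : Type u)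
    [Field K] [Finite K] (h2 : (2 : K) ≠ 0) {lg : ℕ → Bool} {ω : List (Fin l)} {β bs : List ℕ} {b₀ : ℕ}
    {f₀ : Fin l → ZMod 2} {s : ℕ} (C : CD D l lg ω β bs b₀ f₀ s) (hβ : β ≠ []) (hc : cc D β = true)
    (hsp : Spn M.toCoxeterSystem hp.isCartan (LR D l lg) (zet M.toCoxeterSystem hp) (M.toCoxeterSystem.wordProd ω)
      (fun j : {r : ℕ // r ∈ β} => vec D l j.1)) :
    DF ↥(D.group K) := by
  obtain ⟨p, hchar⟩ := CharP.exists K
  have hpp : Fact p.Prime := ⟨CharP.char_is_prime K p⟩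
  have hp2 : p ≠ 2 := by
    rintro rfl
    exact h2 (by exact_mod_cast CharP.cast_eq_zero K 2)
  let cs := M.toCoxeterSystem
  have hW : Finite M.Group := finite_W hp cs
  have hne : Nonempty {r : ℕ // r ∈ β} := by
    obtain ⟨r, hr⟩ := List.exists_mem_of_ne_nil β hβ
    exact ⟨⟨r, hr⟩⟩
  have L := long hp (K := K) cs C.inv C.neg C.odd' h2
  have hG : Nodes.Bruhat.GG cs hp.isCartan (TT D K) (XX D l K) = ⊤ := by
    rw [eq_top_iff, ← G1_eq_top hp (K := K) cs]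
    exact le_sup_right
  exact df_of_rgd (rgd (K := K) hp cs p) L (comb hp cs C) hp2 h2 hG (by
    rintro ⟨s, hs⟩ ⟨r, hr⟩ hne N N'
    have h1 := allL_spec (allL_spec hc r hr) s hs
    simp only [Bool.or_eq_true, Bool.and_eq_true, Bool.not_eq_true', List.isEmpty_iff] at h1
    have hsr : s ≠ r := fun h => hne (Subtype.ext h)
    rcases h1 with h1 | ⟨h1, h2, h3, h4, h5⟩
    · exact absurd (Nat.eq_of_beq_eq_true h1) hsr
    · have h1' : s ≠ D.neg r := by
        rintro h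
        rw [← h, Nat.beq_refl] at h1
        exact Bool.noConfusion h1
      exact phi_comm hp (C.mem r hr).1 (C.mem s hs).1 hsr h1' h2 h3 h4 h5 N N') hsp

theorem sdG2 : sdChk tabG2 chevG2 inpG2 [11] = true := by decide +kernel
theorem sdF4 : sdChk tabF4 chevF4 inpF4 [32, 43] = true := by decide +kernel
theorem sdE6 : sdChk tabE6 chevE6 inpE6 [55, 67] = true := by decide +kernel
theorem sdE7 : sdChk tabE7 chevE7 inpE7 [125] = true := by decide +kernel
theorem sdE8 : sdChk tabE8 chevE8 inpE8 [193, 220] = true := by decide +kernel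

/-- `G₂(q)`, `q` odd -/
theorem df_G2 {K : Type u} [Field K] [Finite K] (h2 : (2 : K) ≠ 0) : DF ↥(chevG2.group K) :=
  df_of_cd isTypeG2 K h2 (cd_of_chk bridgeG2 isTypeG2 chkG2 (by decide)) (by decide) ccG2
    (spn_of_chk bridgeG2 isTypeG2 _ chkG2 _ sdG2)

/-- `F₄(q)`, `q` odd -/
theorem df_F4 {K : Type u} [Field K] [Finite K] (h2 : (2 : K) ≠ 0) : DF ↥(chevF4.group K) :=
  df_of_cd isTypeF4 K h2 (cd_of_chk bridgeF4 isTypeF4 chkF4 (by decide)) (by decide) ccF4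
    (spn_of_chk bridgeF4 isTypeF4 _ chkF4 _ sdF4)

/-- `E₆(q)`, `q` odd -/
theorem df_E6 {K : Type u} [Field K] [Finite K] (h2 : (2 : K) ≠ 0) : DF ↥(chevE6.group K) :=
  df_of_cd isTypeE6 K h2 (cd_of_chk bridgeE6 isTypeE6 chkE6 (by decide)) (by decide) ccE6
    (spn_of_chk bridgeE6 isTypeE6 _ chkE6 _ sdE6)

/-- `E₇(q)`, `q` odd -/
theorem df_E7 {K : Type u} [Field K] [Finite K] (h2 : (2 : K) ≠ 0) : DF ↥(chevE7.group K) :=
  df_of_cd isTypeE7 K h2 (cd_of_chk bridgeE7 isTypeE7 chkE7 (by decide)) (by decide) ccE7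
    (spn_of_chk bridgeE7 isTypeE7 _ chkE7 _ sdE7)

/-- `E₈(q)`, `q` odd -/
theorem df_E8 {K : Type u} [Field K] [Finite K] (h2 : (2 : K) ≠ 0) : DF ↥(chevE8.group K) :=
  df_of_cd isTypeE8 K h2 (cd_of_chk bridgeE8 isTypeE8 chkE8 (by decide)) (by decide) ccE8
    (spn_of_chk bridgeE8 isTypeE8 _ chkE8 _ sdE8)

section Reindex

variable {I J W ι : Type*} [Fintype I] [DecidableEq I] [Fintype J] [DecidableEq J] [Group W]
  {M : CoxeterMatrix I} {M' : CoxeterMatrix J} {cs : CoxeterSystem M W} {cs' : CoxeterSystem M' W}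
  {A : I → I → ℤ} {A' : J → J → ℤ} {h : IsCartan M A} {h' : IsCartan M' A'} {e : I ≃ J}

theorem Spn.reindex {LR : Set (I → ℤ)} {ζ : (I → ℤ) → (I → ℤ) → ZMod 2} {w₀ : W} {β : ι → (I → ℤ)}
    (C : Spn cs h LR ζ w₀ β) (hA : ∀ i j, A i j = A' (e i) (e j)) (hs : ∀ i, cs'.simple (e i) = cs.simple i) :
    Spn cs' h' {x | x ∘ e ∈ LR} (fun x y => ζ (x ∘ e) (y ∘ e)) w₀ (fun j => β j ∘ e.symm) := by
  intro ε h1 h2 h3
  obtain ⟨xs, h4, h5⟩ := C (ε.comp (compHom' e)) h1 (fun y hy => by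
      show ε (rep cs h w₀ y ∘ e.symm) = ε (y ∘ e.symm)
      rw [← rep_reindex (cs := cs) (cs' := cs') (h := h) (h' := h') hA hs]
      exact h2 _ ((isRoot_reindex (cs := cs) (cs' := cs') (h := h) (h' := h') hA hs).2 hy)) (fun h6 => h3 fun y hy => by
      have h4 := h6 (y ∘ e) ((isRoot_comp (cs := cs) (h := h) hA hs).2 hy)
      have h5 : ε ((y ∘ e) ∘ e.symm) = 0 := h4
      rwa [comp_symm] at h5)
  refine ⟨xs.map fun x => x ∘ e.symm, fun x hx => ?_, fun y hy => ?_⟩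
  · obtain ⟨z, hz, rfl⟩ := List.mem_map.1 hx
    obtain ⟨h6, h7⟩ := h4 z hz
    refine ⟨?_, h7⟩
    show (z ∘ e.symm) ∘ e ∈ LR
    rw [comp_symm']
    exact h6
  · have h6 := h5 (y ∘ e) ((isRoot_comp (cs := cs) (h := h) hA hs).2 hy)
    have h7 : ε ((y ∘ e) ∘ e.symm) = (xs.map fun x => ζ x (y ∘ e)).sum := h6
    rw [comp_symm] at h7
    rw [h7, List.map_map]
    congr 1
    refine List.map_congr_left fun z _ => ?_
    show _ = ζ ((z ∘ e.symm) ∘ e) (y ∘ e)
    rw [comp_symm']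

end Reindex

section Fold

variable {D : ChevalleyDatum} {l : ℕ} {M' : CoxeterMatrix (Fin l)} (hp : IsType D l M')
  {D₀ : ChevalleyDatum} {m : ℕ} {M₀ : CoxeterMatrix (Fin m)} (hp₀ : IsType D₀ m M₀)
  {K : Type u} [Field K] {M : CoxeterMatrix (Fin m)} {W : Type*} [Group W] (cs : CoxeterSystem M W)
  {A : Fin m → Fin m → ℤ} (h : IsCartan M A)
  {J : Fin m → List (Fin l)} {L : List (List ℕ)} {σ : GL D.Idx K →* GL D.Idx K} {ρ ρ' : ℕ → ℕ}
  {f : ℕ → K → K} {G : Subgroup (GL D.Idx K)} {φ : K →+* K} {ε : ℕ → ℤ}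
  {e : Fin m ≃ Fin m} {lg lg₀ : ℕ → Bool} {κ : ℕ → ℕ}

include h in
/-- The twisted groups. -/
theorem df_fold (F : FT D l D₀ m J e ρ ε lg lg₀ κ) (FD : FoldData D M A J L)
    (FG : FoldGrp hp K J L σ ρ ρ' f G)
    (hsig : ∀ r < D.nroots, ∀ t : K, σ (xG hp.inList r t) = xG hp.inList (ρ r) (((ε r : ℤ) : K) * φ t))
    [Finite K] (cs₀ : CoxeterSystem M₀ W) (h2 : (2 : K) ≠ 0)
    (hcs : ∀ i, cs.simple (e i) = cs₀.simple i) (hA : ∀ i j, cartanOf D₀ m i j = A (e i) (e j))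
    {ι : Type*} [Nonempty ι] {w₀ : W} {β : ι → ℕ} (hβ : ∀ j, β j < D₀.nroots)
    (C : Comb cs₀ hp₀.isCartan (LR D₀ m lg₀) (zet cs₀ hp₀) w₀ (fun j => vec D₀ m (β j)))
    (hsp : Spn cs₀ hp₀.isCartan (LR D₀ m lg₀) (zet cs₀ hp₀) w₀ (fun j => vec D₀ m (β j)))
    (hc : ∀ j k, j ≠ k → ∀ r < D.nroots, ∀ s < D.nroots, lg r = true → lg s = true → κ r = β j → κ s = β k →
      r ≠ s ∧ r ≠ D.neg s ∧ D.commTerms s r = [] ∧ D.commTerms s (D.neg r) = [] ∧ D.commTerms (D.neg s) r = [] ∧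
        D.commTerms (D.neg s) (D.neg r) = []) : DF ↥G := by
  obtain ⟨p, hchar⟩ := CharP.exists K
  have hpp : Fact p.Prime := ⟨CharP.char_is_prime K p⟩
  have hp2 : p ≠ 2 := by
    rintro rfl
    exact h2 (by exact_mod_cast CharP.cast_eq_zero K 2)
  have hW : Finite W := RGDFold.finite_W (hp := hp) cs h FD
  have R := RGDFold.rgd cs h FD FG p
  have L' := long_fold hp hp₀ cs h F FD FG hsig cs₀ h2
  have C' := C.reindex (h' := h) hA hcs
  have hsp' := hsp.reindex (h' := h) hA hcs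
  have hG : Bruhat.GG cs h ((D.diagonalSubgroup K ⊓ G).subgroupOf G) (fun z => (RGDFold.R D hp K J σ z).subgroupOf G) = ⊤ := by
    rw [eq_top_iff, ← RGDFold.G1_eq_top cs h FD FG p]
    exact le_sup_right
  have h2' : (2 : ↥(FF φ)) ≠ 0 := by
    intro h0
    apply h2
    have := congrArg (Subtype.val : ↥(FF φ) → K) h0
    exact this
  refine df_of_rgd R L' C' hp2 h2' hG ?_ hsp'
  intro j k hjk N N'
  obtain ⟨r, hr, hlr, hrj⟩ := (mem_LRf (e := e) hp₀ F _).1 (C'.mem j)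
  obtain ⟨s, hs, hls, hsk⟩ := (mem_LRf (e := e) hp₀ F _).1 (C'.mem k)
  have e1 : ∀ (t : ℕ) (ht : t < D.nroots) (i : ι), V D J t = vec D₀ m (β i) ∘ e.symm → κ t = β i := by
    intro t ht i hti
    apply vec_inj hp₀ (F.kap t ht).1 (hβ i)
    funext x
    rw [(F.kap t ht).2, hti, Function.comp_apply, e.symm_apply_apply]
  obtain ⟨h3, h4, h5, h6, h7, h8⟩ := hc j k hjk r hr s hs hlr hls (e1 r hr j hrj) (e1 s hs k hsk)
  apply Subtype.ext
  rw [← hrj, ← hsk, Subgroup.coe_mul, Subgroup.coe_mul, coe_pp hp hp₀ cs h F FD FG hsig hr hlr,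
    coe_pp hp hp₀ cs h F FD FG hsig hs hls, psi_eq, psi_eq]
  have h9 := phi_comm hp (K := K) hs hr h3 h4 h5 h6 h7 h8 (Matrix.SpecialLinearGroup.map (FF φ).subtype N)
    (Matrix.SpecialLinearGroup.map (FF φ).subtype N')
  exact congrArg (Subtype.val : ↥(D.group K) → GL D.Idx K) h9

end Fold

/-- `³D₄(q)`, `q` odd -/
theorem df_twD4 {K : Type u} [Field K] [Fintype K] {q : ℕ} (h2 : (2 : K) ≠ 0) (hK : Fintype.card K = q ^ 3) :
    DF ↥(twistedD4 K q) := by
  have hq : IsPrimePow q := by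
    have h1 := FiniteField.isPrimePow_card K
    rw [hK] at h1
    exact (isPrimePow_pow_iff (by norm_num)).1 h1
  obtain ⟨φ, hφ⟩ := D4Fixed.exists_frob hq hK
  let cs₀ := CoxeterMatrix.G₂.toCoxeterSystem
  obtain ⟨cs, hcs⟩ := Reindex.exists_reindex cs₀ Fin.revPerm hMD
  have C := cd_of_chk bridgeG2 isTypeG2 chkG2 (by decide)
  have hne : Nonempty {r : ℕ // r ∈ inpG2.β} := ⟨⟨11, by decide⟩⟩
  exact df_fold RGDTwD4.hp isTypeG2 cs RGDTwD4.isCartan ftD RGDTwD4.foldData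
    (RGDTwD4.foldGrp hφ (D4Fixed.twisted_le_fix hK hφ)) (hsigD φ) cs₀ h2 hcs hAD
    (β := fun j : {r : ℕ // r ∈ inpG2.β} => j.1) (fun j => (C.mem j.1 j.2).1) (comb isTypeG2 cs₀ C)
    (spn_of_chk bridgeG2 isTypeG2 cs₀ chkG2 _ sdG2) (by
      rintro ⟨j, hj⟩ ⟨k, hk⟩ hjk
      exfalso
      apply hjk
      have h1 : j = 11 := by simpa [inpG2] using hj
      have h2 : k = 11 := by simpa [inpG2] using hk
      exact Subtype.ext (h1.trans h2.symm))

/-- `²E₆(q)`, `q` odd -/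
theorem df_twE6 {K : Type u} [Field K] [Fintype K] {q : ℕ} (h2 : (2 : K) ≠ 0) (hK : Fintype.card K = q ^ 2) :
    DF ↥(twistedE6 K q) := by
  have hq : IsPrimePow q := by
    have h1 := FiniteField.isPrimePow_card K
    rw [hK] at h1
    exact (isPrimePow_pow_iff (by norm_num)).1 h1
  obtain ⟨φ, hφ, hqq⟩ := TwE6Basic.exists_frob hq hK
  let cs₀ := CoxeterMatrix.F₄.toCoxeterSystem
  obtain ⟨cs, hcs⟩ := Reindex.exists_reindex cs₀ Fin.revPerm hME
  have C := cd_of_chk bridgeF4 isTypeF4 chkF4 (by decide)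
  have hne : Nonempty {r : ℕ // r ∈ inpF4.β} := ⟨⟨47, by decide⟩⟩
  exact df_fold RGDTwE6.hp isTypeF4 cs RGDTwE6.isCartan ftE RGDTwE6.foldData
    (RGDTwE6.foldGrp hφ hqq) (hsigE φ) cs₀ h2 hcs hAE
    (β := fun j : {r : ℕ // r ∈ inpF4.β} => j.1) (fun j => (C.mem j.1 j.2).1) (comb isTypeF4 cs₀ C)
    (spn_of_chk bridgeF4 isTypeF4 cs₀ chkF4 _ sdF4) (by
      rintro ⟨j, hj⟩ ⟨k, hk⟩ hjk r hr s hs hlr hls hrj hsk
      have hrj' : kapE r = j := hrj
      have hsk' : kapE s = k := hsk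
      have h1 := hcE r hr (by
        show and (lgE r) _ = true
        rw [hlr, hrj', Bool.true_and]
        exact decide_eq_true hj) s hs (by
        show and (lgE s) _ = true
        rw [hls, hsk', Bool.true_and]
        exact decide_eq_true hk)
      rcases of_decide_eq_true h1 with h3 | h3
      · exfalso
        apply hjk
        rw [hrj', hsk'] at h3
        exact Subtype.ext h3
      · exact h3)

end Cfsg.Agent.H315.SqC.Exc
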