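import Cfsg.Agent.H315.Sq
import Cfsg.Agent.HoltZ.Psl4

/-!
# Linear and unitary groups, general part (helper315, for S3226)

`H ≤ SL_n(F)` contains the diagonal matrices of order two and the signed transpositions, its centre is scalar, and (for
`n = 4`) two quaternion groups: `DF (H ⧸ Z(H))`.
-/

set_option autoImplicit false
set_option linter.unusedSectionVars false
set_option linter.unusedSimpArgs false
set_option linter.unnecessarySeqFocus false

namespace Cfsg.Agent.H315.SqC.Lin

open Matrix Subgroup Cfsg Cfsg.Agent.LieClassical.SLGen Cfsg.Agent.HoltZ.Psl Cfsg.Agent.H315.SqC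

variable {ι F : Type*} [Field F] [DecidableEq ι] [Fintype ι]

theorem sw_sq {a b : ι} (h : a ≠ b) : (sw h : SpecialLinearGroup ι F) * sw h = dd h := by
  apply smul_ext
  intro v
  ext k
  rw [mul_smul, HoltZ.Psl.diag_smul (coe_dd h)]
  simp only [sw_smul]
  unfold sgn
  by_cases hk : k = a
  · subst hk; simp [h.symm]
  · by_cases hk' : k = b
    · subst hk'; simp [hk]
    · simp [hk, hk']

theorem comm_sw {z : SpecialLinearGroup ι F} {c : ι → F} (hc : (z : Matrix ι ι F) = diagonal c)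
    {a b : ι} (h : a ≠ b) (hab : c a = c b) : sw h * z = z * sw h := by
  apply smul_ext
  intro v
  ext k
  simp only [mul_smul, sw_smul, HoltZ.Psl.diag_smul hc]
  by_cases hk : k = a
  · subst hk; simp [hab]
  · by_cases hk' : k = b
    · subst hk'; simp [hk, hab]
    · simp [hk, hk']

/-- the sign vector of a set -/
def sgK (F : Type*) [Field F] (K : Finset ι) (k : ι) : F := if k ∈ K then -1 else 1

variable {H : Subgroup (SpecialLinearGroup ι F)}

/-- the diagonal sign matrices of the sets on which `c` is constant -/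
theorem exists_dK (hsw : ∀ {a b : ι} (h : a ≠ b), (sw h : SpecialLinearGroup ι F) ∈ H) {t : H} {c : ι → F}
    (hc : ((t : SpecialLinearGroup ι F) : Matrix ι ι F) = diagonal c) :
    ∀ (m : ℕ) (K : Finset ι), K.card = 2 * m → (∀ i ∈ K, ∀ j ∈ K, c i = c j) →
      ∃ d : H, d ∈ Sq t ∧ ((d : SpecialLinearGroup ι F) : Matrix ι ι F) = diagonal (sgK F K) := by
  intro m
  induction m with
  | zero =>
    intro K hK _
    rw [Nat.mul_zero, Finset.card_eq_zero] at hK
    subst hK
    refine ⟨1, one_mem _, ?_⟩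
    have : sgK F (∅ : Finset ι) = fun _ => 1 := by
      funext k; unfold sgK; simp
    rw [this, diagonal_one]; rfl
  | succ m ih =>
    intro K hK hcK
    obtain ⟨i, hi, j, hj, hij⟩ := Finset.one_lt_card.1 (show 1 < K.card by omega)
    obtain ⟨d, hd, hd'⟩ := ih ((K.erase i).erase j) (by
      rw [Finset.card_erase_of_mem (Finset.mem_erase.2 ⟨hij.symm, hj⟩), Finset.card_erase_of_mem hi]; omega)
      (fun a ha b hb => hcK a (Finset.mem_of_mem_erase (Finset.mem_of_mem_erase ha)) b
        (Finset.mem_of_mem_erase (Finset.mem_of_mem_erase hb)))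
    obtain ⟨x, hx⟩ : ∃ x : H, x = ⟨sw hij, hsw hij⟩ := ⟨_, rfl⟩
    refine ⟨x * x * d, mul_mem (sq_mem ?_) hd, ?_⟩
    · rw [hx]
      exact Subtype.ext (comm_sw hc hij (hcK i hi j hj))
    · have h1 : ((x * x * d : H) : SpecialLinearGroup ι F) = dd hij * (d : SpecialLinearGroup ι F) := by
        rw [← sw_sq hij, hx]; rfl
      rw [h1, Matrix.SpecialLinearGroup.coe_mul, coe_dd, hd', diagonal_mul_diagonal]
      congr 1
      funext k
      unfold sgn sgK
      by_cases h1 : k = i
      · subst h1; simp [hij, hi]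
      · by_cases h2 : k = j
        · subst h2; simp [hj]
        · simp [h1, h2]

/-- **the diagonal case** -/
theorem mem_of_diag (hsw : ∀ {a b : ι} (h : a ≠ b), (sw h : SpecialLinearGroup ι F) ∈ H) {t : H} {c : ι → F}
    (hc : ((t : SpecialLinearGroup ι F) : Matrix ι ι F) = diagonal c) {c₀ : F} (hc₀ : ∀ i, c i = c₀ ∨ c i = -c₀)
    (hev : ∃ (K : Finset ι) (m : ℕ), (∀ i, i ∈ K ↔ c i ≠ c₀) ∧ K.card = 2 * m) :
    (QuotientGroup.mk' (center H)) t ∈ Sq ((QuotientGroup.mk' (center H)) t) := by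
  obtain ⟨K, m, hKc, hm⟩ := hev
  have hK : ∀ i ∈ K, c i = -c₀ := fun i hi => (hc₀ i).resolve_left ((hKc i).1 hi)
  obtain ⟨d, hd, hd'⟩ := exists_dK hsw hc m _ hm (fun i hi j hj => by rw [hK i hi, hK j hj])
  -- `t d` is scalar
  have h1 : (((t * d : H) : SpecialLinearGroup ι F) : Matrix ι ι F) = diagonal fun _ => c₀ := by
    have : ((t * d : H) : SpecialLinearGroup ι F) = (t : SpecialLinearGroup ι F) * (d : SpecialLinearGroup ι F) := rfl
    rw [this, Matrix.SpecialLinearGroup.coe_mul, hc, hd', diagonal_mul_diagonal]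
    congr 1
    funext k
    unfold sgK
    by_cases hk : c k = c₀
    · rw [if_neg (fun h => (hKc k).1 h hk), mul_one, hk]
    · rw [if_pos ((hKc k).2 hk), (hc₀ k).resolve_left hk]; ring
  have h2 : t * d ∈ center H := by
    rw [mem_center_iff]
    intro g
    apply Subtype.ext
    apply Subtype.ext
    change ((g : SpecialLinearGroup ι F) : Matrix ι ι F) * (((t * d : H) : SpecialLinearGroup ι F) : Matrix ι ι F) =
      (((t * d : H) : SpecialLinearGroup ι F) : Matrix ι ι F) * ((g : SpecialLinearGroup ι F) : Matrix ι ι F)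
    rw [h1]
    ext i j
    rw [mul_diagonal, diagonal_mul, mul_comm]
  have h3 : t * (t * d)⁻¹ = t * d⁻¹ * t⁻¹ := by group
  refine mem_of_lift (QuotientGroup.mk' (center H)) (t := t) (k := (t * d)⁻¹) ?_ ?_
  · rw [h3]
    -- conjugation by `t`
    have h4 := map_mem (MulAut.conj t).toMonoidHom (inv_mem hd)
    have h5 : (MulAut.conj t).toMonoidHom t = t := by
      change t * t * t⁻¹ = t
      group
    rwa [h5] at h4
  · rw [map_inv, inv_eq_one]
    exact (QuotientGroup.eq_one_iff _).2 h2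

/-- commuting modulo the centre -/
theorem exists_scalar' (hcen : ∀ z ∈ center H, ∃ r : F, ((z : SpecialLinearGroup ι F) : Matrix ι ι F) = diagonal fun _ => r)
    {z A : H} (h : (QuotientGroup.mk' (center H)) A * (QuotientGroup.mk' _) z =
      (QuotientGroup.mk' _) z * (QuotientGroup.mk' _) A) :
    ∃ r : F, ((z : SpecialLinearGroup ι F) : Matrix ι ι F) * ((A : SpecialLinearGroup ι F) : Matrix ι ι F) =
      r • (((A : SpecialLinearGroup ι F) : Matrix ι ι F) * ((z : SpecialLinearGroup ι F) : Matrix ι ι F)) := by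
  rw [← map_mul, ← map_mul] at h
  have h1 : (A * z)⁻¹ * (z * A) ∈ center H := QuotientGroup.eq.1 h
  obtain ⟨r, hr⟩ := hcen _ h1
  refine ⟨r, ?_⟩
  have h2 : (((z * A : H) : SpecialLinearGroup ι F) : Matrix ι ι F) =
      (((A * z : H) : SpecialLinearGroup ι F) : Matrix ι ι F) *
      ((((A * z)⁻¹ * (z * A) : H) : SpecialLinearGroup ι F) : Matrix ι ι F) := by
    rw [← Matrix.SpecialLinearGroup.coe_mul]
    change _ = (((A * z * ((A * z)⁻¹ * (z * A)) : H) : SpecialLinearGroup ι F) : Matrix ι ι F)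
    rw [mul_inv_cancel_left]
  have h3 : (((z * A : H) : SpecialLinearGroup ι F) : Matrix ι ι F) =
      ((z : SpecialLinearGroup ι F) : Matrix ι ι F) * ((A : SpecialLinearGroup ι F) : Matrix ι ι F) :=
    Matrix.SpecialLinearGroup.coe_mul _ _
  have h4 : (((A * z : H) : SpecialLinearGroup ι F) : Matrix ι ι F) =
      ((A : SpecialLinearGroup ι F) : Matrix ι ι F) * ((z : SpecialLinearGroup ι F) : Matrix ι ι F) :=
    Matrix.SpecialLinearGroup.coe_mul _ _
  rw [h3, h4, hr] at h2
  rw [h2, ← smul_one_eq_diagonal, mul_smul_comm, mul_one]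

theorem sq_scalar' (hcen : ∀ z ∈ center H, ∃ r : F, ((z : SpecialLinearGroup ι F) : Matrix ι ι F) = diagonal fun _ => r)
    {z : H} (h : (QuotientGroup.mk' (center H)) z ^ 2 = 1) :
    ∃ r : F, ((z : SpecialLinearGroup ι F) : Matrix ι ι F) * ((z : SpecialLinearGroup ι F) : Matrix ι ι F) =
      diagonal fun _ => r := by
  rw [← map_pow] at h
  obtain ⟨r, hr⟩ := hcen _ ((QuotientGroup.eq_one_iff _).1 h)
  refine ⟨r, ?_⟩
  rw [← hr, ← Matrix.SpecialLinearGroup.coe_mul, pow_two]
  rfl

section Pos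

/-- commuting elements which normalise a 2-group -/
theorem isPGroup_sup_closure {G : Type*} [Group G] {A : Subgroup G} (hA : IsPGroup 2 A) (s : List G)
    (h4 : ∀ x ∈ s, x ^ 4 = 1) (hn : ∀ x ∈ s, ∀ a ∈ A, x * a * x⁻¹ ∈ A) (hc : ∀ x ∈ s, ∀ y ∈ s, x * y = y * x) :
    ∃ B : Subgroup G, IsPGroup 2 B ∧ A ≤ B ∧ (∀ x ∈ s, x ∈ B) ∧
      ∀ y : G, (∀ x ∈ s, y * x = x * y) → (∀ a ∈ A, y * a * y⁻¹ ∈ A) → ∀ b ∈ B, y * b * y⁻¹ ∈ B := by
  induction s with
  | nil =>
    exact ⟨A, hA, le_rfl, fun x hx => absurd hx (List.not_mem_nil), fun y _ h2 => h2⟩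
  | cons x s ih =>
    obtain ⟨B, hB, hAB, hsB, hBn⟩ := ih (fun y hy => h4 y (List.mem_cons_of_mem _ hy))
      (fun y hy => hn y (List.mem_cons_of_mem _ hy))
      (fun y hy z hz => hc y (List.mem_cons_of_mem _ hy) z (List.mem_cons_of_mem _ hz))
    have hxs : x ∈ x :: s := List.mem_cons_self
    have hxB : ∀ b ∈ B, x * b * x⁻¹ ∈ B :=
      hBn x (fun y hy => hc x hxs y (List.mem_cons_of_mem _ hy)) (hn x hxs)
    have hx4 : x ^ 4 = 1 := h4 x hxs
    have hxB' : ∀ b ∈ B, x⁻¹ * b * x ∈ B := by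
      intro b hb
      have h1 : x⁻¹ = x ^ 3 := by
        rw [inv_eq_iff_mul_eq_one, ← pow_succ']; exact hx4
      have h2 : x⁻¹ * b * x = x * (x * (x * b * x⁻¹) * x⁻¹) * x⁻¹ := by
        have h3 : x = (x ^ 3)⁻¹ := by rw [← h1, inv_inv]
        calc x⁻¹ * b * x = x ^ 3 * b * (x ^ 3)⁻¹ := by rw [← h1, inv_inv]
          _ = _ := by rw [pow_succ, pow_two]; group
      rw [h2]
      exact hxB _ (hxB _ (hxB _ hb))
    have hnorm : zpowers x ≤ normalizer (B : Set G) := by
      rw [zpowers_le, mem_normalizer_iff]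
      intro b
      refine ⟨hxB b, fun h => ?_⟩
      have h1 := hxB' _ h
      have h2 : x⁻¹ * (x * b * x⁻¹) * x = b := by group
      rwa [h2] at h1
    have hxp : IsPGroup 2 (zpowers x) := by
      rintro ⟨y, k, rfl⟩
      refine ⟨2, Subtype.ext ?_⟩
      change (x ^ k) ^ (2 ^ 2) = 1
      rw [show (2 : ℕ) ^ 2 = 4 by norm_num, ← zpow_natCast, ← _root_.zpow_mul, mul_comm, _root_.zpow_mul, zpow_natCast, hx4, _root_.one_zpow]
    refine ⟨B ⊔ zpowers x, IsPGroup.to_sup_of_normal_left' hB hxp hnorm, hAB.trans le_sup_left, ?_, ?_⟩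
    · intro y hy
      rcases List.mem_cons.1 hy with rfl | hy
      · exact mem_sup_right (mem_zpowers _)
      · exact mem_sup_left (hsB y hy)
    · intro y hy1 hy2 b hb
      have h1 : (B ⊔ zpowers x).map (MulAut.conj y).toMonoidHom ≤ B ⊔ zpowers x := by
        rw [Subgroup.map_sup, sup_le_iff]
        constructor
        · rintro _ ⟨b, hb, rfl⟩
          exact mem_sup_left (hBn y (fun z hz => hy1 z (List.mem_cons_of_mem _ hz)) hy2 b hb)
        · rintro _ ⟨_, ⟨k, rfl⟩, rfl⟩
          apply mem_sup_right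
          change y * x ^ k * y⁻¹ ∈ zpowers x
          have h3 : y * x * y⁻¹ = x := by rw [hy1 x hxs, mul_inv_cancel_right]
          rw [← conj_zpow, h3]
          exact ⟨k, rfl⟩
      exact h1 (mem_map_of_mem (MulAut.conj y).toMonoidHom hb)

variable {F : Type*} [Field F] {n : ℕ} {H : Subgroup (SpecialLinearGroup (Fin n) F)}

theorem sw_pow_four {a b : Fin n} (h : a ≠ b) : (sw h : SpecialLinearGroup (Fin n) F) ^ 4 = 1 := by
  have h1 : (sw h : SpecialLinearGroup (Fin n) F) ^ 4 = (sw h * sw h) * (sw h * sw h) := by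
    rw [← pow_two, ← pow_two, ← pow_mul]
  rw [h1, sw_sq]
  apply Subtype.ext
  change ((dd h * dd h : SpecialLinearGroup (Fin n) F) : Matrix (Fin n) (Fin n) F) = 1
  rw [Matrix.SpecialLinearGroup.coe_mul, coe_dd, diagonal_mul_diagonal, ← diagonal_one]
  congr 1
  funext k
  exact sgn_mul_self _ _ _

theorem sw_conj_dTwo {a b : Fin n} (h : a ≠ b) {A : SpecialLinearGroup (Fin n) F} (hA : A ∈ dTwo (Fin n) F) :
    sw h * A * (sw h)⁻¹ ∈ dTwo (Fin n) F := by
  obtain ⟨d, hd, hd2⟩ := hA
  refine ⟨fun k => if k = a then d b else if k = b then d a else d k, ?_, fun k => ?_⟩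
  · refine Matrix.mulVec_injective (funext fun v => ?_)
    ext k
    rw [mulVec_diagonal]
    exact sw_conj_diag_smul hd h v k
  · dsimp only
    split_ifs
    · exact hd2 _
    · exact hd2 _
    · exact hd2 _

theorem sw_comm {a b c d : Fin n} (h : a ≠ b) (h' : c ≠ d) (hac : a ≠ c) (had : a ≠ d) (hbc : b ≠ c) (hbd : b ≠ d) :
    (sw h : SpecialLinearGroup (Fin n) F) * sw h' = sw h' * sw h := by
  apply smul_ext
  intro v
  ext k
  simp only [mul_smul, sw_smul]
  by_cases h1 : k = a
  · subst h1; simp [h, h.symm, hac, had, hbc, hbd]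
  by_cases h2 : k = b
  · subst h2; simp [h, h.symm, hac, had, hbc, hbd]
  by_cases h3 : k = c
  · subst h3; simp [h', h'.symm, hac.symm, had.symm, hbc.symm, hbd.symm]
  by_cases h4 : k = d
  · subst h4; simp [h', h'.symm, hac.symm, had.symm, hbc.symm, hbd.symm]
  simp [h1, h2, h3, h4]

theorem even_card {n m : ℕ} (hm : n = 2 * m) {α : Type*} [DecidableEq α] (c : Fin n → α) (c₀ : α)
    (hpair : ∀ k : Fin m, c ⟨2 * k, by omega⟩ = c ⟨2 * k + 1, by omega⟩) :
    ∃ l, (Finset.univ.filter fun i => c i ≠ c₀).card = 2 * l := by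
  subst hm
  refine ⟨∑ k : Fin m, if c ⟨2 * k, by omega⟩ ≠ c₀ then 1 else 0, ?_⟩
  rw [Finset.card_filter, ← (finCongr (mul_comm m 2)).sum_comp, ← finProdFinEquiv.sum_comp, Fintype.sum_prod_type,
    Finset.mul_sum]
  refine Finset.sum_congr rfl fun k _ => ?_
  have e0 : (finCongr (mul_comm m 2)) (finProdFinEquiv (k, (0 : Fin 2))) = ⟨2 * k, by omega⟩ := by
    apply Fin.ext
    simp [finProdFinEquiv]
  have e1 : (finCongr (mul_comm m 2)) (finProdFinEquiv (k, (1 : Fin 2))) = ⟨2 * k + 1, by omega⟩ := by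
    apply Fin.ext
    simp [finProdFinEquiv, add_comm]
  rw [Fin.sum_univ_two, e0, e1, ← hpair k]
  exact (two_mul _).symm

/-- **the position of `t`**, `n ≠ 4` : diagonal, and with equal entries at `2 k`, `2 k + 1` -/
theorem df_ne_four [Finite F] (h2 : (2 : F) ≠ 0) (h3 : 3 ≤ n) (h4 : n ≠ 4) (hdT : dTwo (Fin n) F ≤ H)
    (hsw : ∀ {a b : Fin n} (h : a ≠ b), (sw h : SpecialLinearGroup (Fin n) F) ∈ H)
    (hcen : ∀ z ∈ center H, ∃ r : F, ((z : SpecialLinearGroup (Fin n) F) : Matrix (Fin n) (Fin n) F) = diagonal fun _ => r) :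
    DF (H ⧸ center H) := by
  classical
  -- the list of the signed transpositions
  let p : Fin (n / 2) → SpecialLinearGroup (Fin n) F := fun k =>
    sw (a := (⟨2 * k, by omega⟩ : Fin n)) (b := ⟨2 * k + 1, by omega⟩) (by intro h; have := congrArg Fin.val h; simp at this)
  have hpc : ∀ k l, p k * p l = p l * p k := by
    intro k l
    by_cases hkl : k = l
    · rw [hkl]
    have hv : (k : ℕ) ≠ l := fun h => hkl (Fin.ext h)
    refine sw_comm _ _ ?_ ?_ ?_ ?_ <;>
    · intro h
      have := congrArg Fin.val h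
      simp only at this
      omega
  obtain ⟨B, hB, hAB, hpB, -⟩ := isPGroup_sup_closure (dTwo_isPGroup (ι := Fin n) (F := F)) (List.ofFn p)
    (fun x hx => by
      obtain ⟨k, rfl⟩ := (List.mem_ofFn' _ _).1 hx
      exact sw_pow_four _)
    (fun x hx a ha => by
      obtain ⟨k, rfl⟩ := (List.mem_ofFn' _ _).1 hx
      exact sw_conj_dTwo _ ha)
    (fun x hx y hy => by
      obtain ⟨k, rfl⟩ := (List.mem_ofFn' _ _).1 hx
      obtain ⟨l, rfl⟩ := (List.mem_ofFn' _ _).1 hy
      exact hpc k l)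
  have hBH : IsPGroup 2 ↥(B.subgroupOf H) := hB.comap_of_injective _ H.subtype_injective
  refine of_position ((B.subgroupOf H).map (QuotientGroup.mk' (center H))) (hBH.map _) ?_
  intro s hs hc
  obtain ⟨t, rfl⟩ := QuotientGroup.mk'_surjective (center H) s
  have hcB : ∀ A (hA : A ∈ H), A ∈ B → ∃ r : F, ((t : SpecialLinearGroup (Fin n) F) : Matrix (Fin n) (Fin n) F) *
      (A : Matrix (Fin n) (Fin n) F) = r • ((A : Matrix (Fin n) (Fin n) F) *
        ((t : SpecialLinearGroup (Fin n) F) : Matrix (Fin n) (Fin n) F)) := fun A hA hAB =>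
    exists_scalar' hcen (z := t) (A := ⟨A, hA⟩) (hc _ (mem_map_of_mem _ (mem_subgroupOf.2 hAB)))
  obtain ⟨c, hcd⟩ := diagonal_of_comm (z := (t : SpecialLinearGroup (Fin n) F)) h2 (by rwa [Fintype.card_fin])
    (by rwa [Fintype.card_fin]) (fun {i j} hij => hcB _ (hdT (dd_mem hij)) (hAB (dd_mem hij)))
  obtain ⟨r, hr⟩ := sq_scalar' hcen (z := t) (by rw [← hs.1]; exact pow_orderOf_eq_one _)
  rw [hcd, diagonal_mul_diagonal] at hr
  have hr' : ∀ i, c i * c i = r := fun i => by
    have := congrFun (congrFun hr i) i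
    simpa using this
  have hdet : ∏ i, c i = 1 := by
    have := (t : SpecialLinearGroup (Fin n) F).2
    rw [hcd, det_diagonal] at this
    exact this
  have hc0 : ∀ i, c i ≠ 0 := by
    intro i h0
    rw [Finset.prod_eq_zero (Finset.mem_univ i) h0] at hdet
    exact zero_ne_one hdet
  have key : ∀ i j, c i = c j ∨ c i = - c j := by
    intro i j
    have h1 : (c i - c j) * (c i + c j) = 0 := by linear_combination hr' i - hr' j
    rcases mul_eq_zero.1 h1 with h | h
    · exact Or.inl (sub_eq_zero.1 h)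
    · exact Or.inr (eq_neg_of_add_eq_zero_left h)
  let i0 : Fin n := ⟨0, by omega⟩
  rcases Nat.even_or_odd' n with ⟨m, hm | hm⟩
  · -- `n` even
    have hpair : ∀ k : Fin (n / 2), c ⟨2 * k, by omega⟩ = c ⟨2 * k + 1, by omega⟩ := by
      intro k
      obtain ⟨r', hr1⟩ := hcB (p k) (hsw _) (hpB _ ((List.mem_ofFn' _ _).2 ⟨k, rfl⟩))
      rw [hcd] at hr1
      have e := fun v : Fin n → F => congrArg (fun M : Matrix (Fin n) (Fin n) F => M *ᵥ v) hr1
      simp only [smul_mulVec, ← mulVec_mulVec] at e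
      have hp : ∀ v : Fin n → F, ∀ l, ((p k : SpecialLinearGroup (Fin n) F) : Matrix (Fin n) (Fin n) F).mulVec v l =
          if l = ⟨2 * k, by omega⟩ then v ⟨2 * k + 1, by omega⟩ else if l = ⟨2 * k + 1, by omega⟩ then
            - v ⟨2 * k, by omega⟩ else v l := fun v l => sw_smul _ v l
      obtain ⟨l, hl1, hl2⟩ : ∃ l : Fin n, l ≠ ⟨2 * k, by omega⟩ ∧ l ≠ ⟨2 * k + 1, by omega⟩ := by
        by_cases hk : (k : ℕ) = 0
        · refine ⟨⟨2, by omega⟩, ?_, ?_⟩ <;>
          · intro h
            have := congrArg Fin.val h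
            simp only at this
            omega
        · refine ⟨⟨0, by omega⟩, ?_, ?_⟩ <;>
          · intro h
            have := congrArg Fin.val h
            simp only at this
            omega
      have e1 := congrFun (e (Pi.single l 1)) l
      rw [mulVec_diagonal, hp, if_neg hl1, if_neg hl2, Pi.smul_apply, hp, if_neg hl1, if_neg hl2, mulVec_diagonal,
        Pi.single_eq_same, smul_eq_mul, mul_one] at e1
      have hr'1 : r' = 1 := by
        have : (r' - 1) * c l = 0 := by linear_combination -e1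
        exact sub_eq_zero.1 ((mul_eq_zero.1 this).resolve_right (hc0 l))
      have e2 := congrFun (e (Pi.single ⟨2 * k + 1, by omega⟩ 1)) ⟨2 * k, by omega⟩
      rw [mulVec_diagonal, hp, if_pos rfl, Pi.smul_apply, hp, if_pos rfl, mulVec_diagonal, Pi.single_eq_same,
        hr'1, one_smul, mul_one, mul_one] at e2
      exact e2
    obtain ⟨l, hl⟩ := even_card (m := m) hm c (c i0) (fun k => hpair ⟨k, by omega⟩)
    exact mem_of_diag hsw hcd (key · i0) ⟨Finset.univ.filter fun i => c i ≠ c i0, l, fun i => by simp, hl⟩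
  · -- `n` odd
    have h0 : c i0 ≠ - c i0 := by
      intro h
      have h5 : (2 : F) * c i0 = 0 := by linear_combination h
      rcases mul_eq_zero.1 h5 with h6 | h6
      · exact h2 h6
      · exact hc0 _ h6
    rcases Nat.even_or_odd' (Finset.univ.filter fun i => c i ≠ c i0).card with ⟨l, hl | hl⟩
    · exact mem_of_diag hsw hcd (key · i0) ⟨Finset.univ.filter fun i => c i ≠ c i0, l, fun i => by simp, hl⟩
    · have h5 := Finset.card_filter_add_card_filter_not (s := (Finset.univ : Finset (Fin n))) (fun i => c i ≠ c i0)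
      rw [Finset.card_univ, Fintype.card_fin, hl] at h5
      refine mem_of_diag hsw hcd (c₀ := - c i0) (fun i => ?_)
        ⟨Finset.univ.filter fun i => ¬ c i ≠ c i0, m - l, fun i => ?_, by omega⟩
      · rw [neg_neg]
        exact (key i i0).symm
      · simp only [Finset.mem_filter, Finset.mem_univ, true_and, not_not]
        constructor
        · intro h; rw [h]; exact h0
        · intro h; exact (key i i0).resolve_right h

section Four

variable {H : Subgroup (SpecialLinearGroup (Fin 4) F)}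

theorem df_four (h2 : (2 : F) ≠ 0) [Finite F] {x y : F} (hxy : x ^ 2 + y ^ 2 = -1)
    (hsw : ∀ {a b : Fin 4} (h : a ≠ b), (sw h : SpecialLinearGroup (Fin 4) F) ∈ H)
    (hA1 : (up 0 1 (-1) 0 (by ring) : SpecialLinearGroup (Fin 4) F) ∈ H)
    (hB1 : (up x y y (-x) (by linear_combination -hxy) : SpecialLinearGroup (Fin 4) F) ∈ H)
    (hA2 : (lo 0 1 (-1) 0 (by ring) : SpecialLinearGroup (Fin 4) F) ∈ H)
    (hB2 : (lo x y y (-x) (by linear_combination -hxy) : SpecialLinearGroup (Fin 4) F) ∈ H)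
    (hcen : ∀ z ∈ center H, ∃ r : F, ((z : SpecialLinearGroup (Fin 4) F) : Matrix (Fin 4) (Fin 4) F) = diagonal fun _ => r) :
    DF (H ⧸ center H) := by
  classical
  have hD : IsPGroup 2 ↥(closure ({up 0 1 (-1) 0 (by ring), up x y y (-x) (by linear_combination -hxy)} :
        Set (SpecialLinearGroup (Fin 4) F)) ⊔
      closure ({lo 0 1 (-1) 0 (by ring), lo x y y (-x) (by linear_combination -hxy)} :
        Set (SpecialLinearGroup (Fin 4) F))) := by
    refine HoltZ.isPGroup_sup (isPGroup_up hxy) (isPGroup_lo hxy) (HoltZ.commute_closure ?_)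
    rintro a (rfl | rfl) b (rfl | rfl) <;> exact up_mul_lo _ _ _ _ _ _ _ _ _ _
  obtain ⟨B, hBdef⟩ : ∃ B : Subgroup (SpecialLinearGroup (Fin 4) F), B =
      closure ({up 0 1 (-1) 0 (by ring), up x y y (-x) (by linear_combination -hxy)} :
        Set (SpecialLinearGroup (Fin 4) F)) ⊔
      closure ({lo 0 1 (-1) 0 (by ring), lo x y y (-x) (by linear_combination -hxy)} :
        Set (SpecialLinearGroup (Fin 4) F)) := ⟨_, rfl⟩
  rw [← hBdef] at hD
  have hBH : IsPGroup 2 ↥(B.subgroupOf H) := hD.comap_of_injective _ H.subtype_injective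
  refine of_position ((B.subgroupOf H).map (QuotientGroup.mk' (center H))) (hBH.map _) ?_
  intro s hs hc
  obtain ⟨t, rfl⟩ := QuotientGroup.mk'_surjective (center H) s
  have hcB : ∀ A (hA : A ∈ H), A ∈ B → ∃ r : F, ((t : SpecialLinearGroup (Fin 4) F) : Matrix (Fin 4) (Fin 4) F) *
      (A : Matrix (Fin 4) (Fin 4) F) = r • ((A : Matrix (Fin 4) (Fin 4) F) *
        ((t : SpecialLinearGroup (Fin 4) F) : Matrix (Fin 4) (Fin 4) F)) := fun A hA hAB =>
    exists_scalar' hcen (z := t) (A := ⟨A, hA⟩) (hc _ (mem_map_of_mem _ (mem_subgroupOf.2 hAB)))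
  obtain ⟨r1, e1⟩ := hcB _ hA1 (hBdef ▸ mem_sup_left (subset_closure (by simp)))
  obtain ⟨r2, e2⟩ := hcB _ hB1 (hBdef ▸ mem_sup_left (subset_closure (by simp)))
  obtain ⟨r3, e3⟩ := hcB _ hA2 (hBdef ▸ mem_sup_right (subset_closure (by simp)))
  obtain ⟨r4, e4⟩ := hcB _ hB2 (hBdef ▸ mem_sup_right (subset_closure (by simp)))
  obtain ⟨c, hcd, hc2⟩ := diag_of_comm_four h2 hxy (t : SpecialLinearGroup (Fin 4) F).2 (r1 := r1) (r2 := r2)
    (r3 := r3) (r4 := r4) e1 e2 e3 e4
  obtain ⟨r, hr⟩ := sq_scalar' hcen (z := t) (by rw [← hs.1]; exact pow_orderOf_eq_one _)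
  rw [hcd, diagonal_mul_diagonal] at hr
  have hr' : ∀ i, c i * c i = r := fun i => by
    have := congrFun (congrFun hr i) i
    simpa using this
  have hdet : ∏ i, c i = 1 := by
    have := (t : SpecialLinearGroup (Fin 4) F).2
    rw [hcd, det_diagonal] at this
    exact this
  have hc0 : ∀ i, c i ≠ 0 := by
    intro i h0
    rw [Finset.prod_eq_zero (Finset.mem_univ i) h0] at hdet
    exact zero_ne_one hdet
  have key : ∀ i j, c i = c j ∨ c i = - c j := by
    intro i j
    have h1 : (c i - c j) * (c i + c j) = 0 := by linear_combination hr' i - hr' j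
    rcases mul_eq_zero.1 h1 with h | h
    · exact Or.inl (sub_eq_zero.1 h)
    · exact Or.inr (eq_neg_of_add_eq_zero_left h)
  have hc3 : c 2 = c 3 := by
    rw [hcd, coe_lo] at e3
    have f1 := congrFun (congrFun e3 0) 0
    have f2 := congrFun (congrFun e3 2) 3
    simp only [Matrix.smul_apply, Matrix.mul_apply, Fin.sum_univ_four, diagonal_apply, Fin.isValue, of_apply,
      cons_val', cons_val_fin_one, smul_eq_mul] at f1 f2
    simp at f1 f2
    have h5 : r3 = 1 := by
      have : (r3 - 1) * c 0 = 0 := by linear_combination -f1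
      exact sub_eq_zero.1 ((mul_eq_zero.1 this).resolve_right (hc0 0))
    rw [f2, h5, one_mul]
  by_cases h02 : c 2 = c 0
  · refine mem_of_diag hsw hcd (key · 0) ⟨∅, 0, fun i => ?_, by simp⟩
    fin_cases i <;> simp [hc2, h02, ← hc3]
  · refine mem_of_diag hsw hcd (key · 0) ⟨{2, 3}, 1, fun i => ?_, by simp⟩
    have h12 : c 2 ≠ c 1 := by rw [← hc2]; exact h02
    fin_cases i <;> simp [hc2, h12, ← hc3]

end Four

end Pos

end Cfsg.Agent.H315.SqC.Lin
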