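import Cfsg.Agent.H315.SqLin
import Cfsg.Agent.ClassicalGeometry.UnitAutBasic
import Cfsg.Agent.LieClassical.HermCount

/-!
# `DF` for `PSL_n(F)` and `PSU_n(q)`, `n ≥ 3`, odd characteristic (helper315, for S3226)
-/

set_option autoImplicit false
set_option linter.unusedSectionVars false

namespace Cfsg.Agent.H315.SqC.Psl

open Matrix Subgroup Cfsg Cfsg.Agent.LieClassical.SLGen Cfsg.Agent.HoltZ.Psl Cfsg.Agent.H315.SqC

/-- transport of `DF` from `⊤ ⧸ Z(⊤)` to `G ⧸ Z(G)` -/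
theorem df_top {G : Type*} [Group G] [Finite G] (h : DF (↥(⊤ : Subgroup G) ⧸ center ↥(⊤ : Subgroup G))) :
    DF (G ⧸ center G) := by
  have e : (G ⧸ center G) ≃* (↥(⊤ : Subgroup G) ⧸ center ↥(⊤ : Subgroup G)) :=
    QuotientGroup.congr (center G) (center ↥(⊤ : Subgroup G)) Subgroup.topEquiv.symm (by
      ext x
      rw [mem_map, mem_center_iff]
      constructor
      · rintro ⟨y, hy, rfl⟩ g
        rw [mem_center_iff] at hy
        have := hy (g : G)
        exact Subtype.ext this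
      · intro h
        refine ⟨(x : G), ?_, rfl⟩
        rw [mem_center_iff]
        intro g
        exact congrArg Subtype.val (h ⟨g, mem_top _⟩))
  exact DF.congr e h

/-- **The row `PSL_n(F)`, `n ≥ 3`, `|F|` odd.** -/
theorem df {F : Type*} [Field F] [Finite F] (h2 : (2 : F) ≠ 0) {n : ℕ} (h3 : 3 ≤ n) :
    DF (Matrix.ProjectiveSpecialLinearGroup (Fin n) F) := by
  have hcen : ∀ {n : ℕ}, ∀ z ∈ center (⊤ : Subgroup (SpecialLinearGroup (Fin n) F)), ∃ r : F,
      ((z : SpecialLinearGroup (Fin n) F) : Matrix (Fin n) (Fin n) F) = diagonal fun _ => r := by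
    intro n z hz
    have h1 : (z : SpecialLinearGroup (Fin n) F) ∈ center (SpecialLinearGroup (Fin n) F) := by
      rw [mem_center_iff] at hz ⊢
      intro g
      exact congrArg Subtype.val (hz ⟨g, mem_top _⟩)
    obtain ⟨r, -, hr⟩ := Matrix.SpecialLinearGroup.mem_center_iff.1 h1
    exact ⟨r, hr.symm⟩
  refine df_top ?_
  by_cases h4 : n = 4
  · subst h4
    have := Fintype.ofFinite F
    obtain ⟨x, y, hxy⟩ := HoltZ.exists_sq_add_sq h2 (-1)
    exact Lin.df_four h2 hxy (fun _ => mem_top _) (mem_top _) (mem_top _) (mem_top _) (mem_top _) hcen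
  · exact Lin.df_ne_four h2 h3 h4 le_top (fun _ => mem_top _) hcen

end Cfsg.Agent.H315.SqC.Psl

namespace Cfsg.Agent.H315.SqC.Psu

open Matrix Subgroup Cfsg Cfsg.Agent.LieClassical.SLGen Cfsg.Agent.HoltZ Cfsg.Agent.HoltZ.Psl Cfsg.Agent.H315.SqC
open Cfsg.Agent.LieClassical.HermBasic

variable {F : Type*} [Field F] [Fintype F] {n q : ℕ} (hF : Fintype.card F = q ^ 2)

/-- The fixed field. -/
def Kf (hF : Fintype.card F = q ^ 2) : Subfield F where
  carrier := {x | x ^ q = x}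
  mul_mem' {a b} ha hb := by
    change (a * b) ^ q = a * b
    rw [mul_pow, show a ^ q = a from ha, show b ^ q = b from hb]
  one_mem' := one_pow q
  add_mem' {a b} ha hb := by
    change (a + b) ^ q = a + b
    rw [add_pow_q hF, show a ^ q = a from ha, show b ^ q = b from hb]
  zero_mem' := zero_pow_q hF
  neg_mem' {a} ha := by
    change (-a) ^ q = -a
    rw [neg_pow_q hF, show a ^ q = a from ha]
  inv_mem' a ha := by
    change (a⁻¹) ^ q = a⁻¹
    rw [inv_pow, show a ^ q = a from ha]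

theorem mem_Kf (hF : Fintype.card F = q ^ 2) {x : F} : x ∈ Kf hF ↔ x ^ q = x := Iff.rfl

include hF in
theorem exists_xy (h2 : (2 : F) ≠ 0) : ∃ x y : F, x ^ q = -x ∧ y ^ q = -y ∧ x ^ 2 + y ^ 2 = -1 := by
  classical
  obtain ⟨θ, hθ0, hθ⟩ := exists_trace_zero_ne hF
  have hθq : θ ^ q = -θ := by linear_combination hθ
  have hK : (-(θ ^ 2)⁻¹) ∈ Kf hF := by
    rw [mem_Kf, neg_pow_q hF, inv_pow, ← pow_mul, mul_comm, pow_mul, hθq, neg_sq]
  have h2K : (2 : Kf hF) ≠ 0 := by
    intro h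
    apply h2
    have := congrArg (Kf hF).subtype h
    rwa [map_ofNat, map_zero] at this
  have : Fintype (Kf hF) := Fintype.ofFinite _
  obtain ⟨t, s, hts⟩ := exists_sq_add_sq h2K ⟨_, hK⟩
  have hts' : (t : F) ^ 2 + (s : F) ^ 2 = -(θ ^ 2)⁻¹ := by
    have := congrArg (Kf hF).subtype hts
    rwa [map_add, map_pow, map_pow] at this
  have ht := (mem_Kf hF).1 t.2
  have hs := (mem_Kf hF).1 s.2
  refine ⟨t * θ, s * θ, ?_, ?_, ?_⟩
  · rw [mul_pow, ht, hθq]; ring
  · rw [mul_pow, hs, hθq]; ring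
  · have : θ ^ 2 ≠ 0 := pow_ne_zero _ hθ0
    linear_combination θ ^ 2 * hts' - mul_inv_cancel₀ this

theorem up_mulVec (x y z w : F) (h : x * w - y * z = 1) (u : Fin 4 → F) :
    (Psl.up x y z w h : Matrix (Fin 4) (Fin 4) F) *ᵥ u = ![x * u 0 + y * u 1, z * u 0 + w * u 1, u 2, u 3] := by
  rw [Psl.coe_up]
  ext k
  fin_cases k <;> simp [Matrix.mulVec, dotProduct, Fin.sum_univ_four]

theorem lo_mulVec (x y z w : F) (h : x * w - y * z = 1) (u : Fin 4 → F) :
    (Psl.lo x y z w h : Matrix (Fin 4) (Fin 4) F) *ᵥ u = ![u 0, u 1, x * u 2 + y * u 3, z * u 2 + w * u 3] := by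
  rw [Psl.coe_lo]
  ext k
  fin_cases k <;> simp [Matrix.mulVec, dotProduct, Fin.sum_univ_four]

include hF in
theorem up_mem {x y z w : F} (h : x * w - y * z = 1) (h1 : x * x ^ q + z * z ^ q = 1) (h2 : y * y ^ q + w * w ^ q = 1)
    (h3 : x * y ^ q + z * w ^ q = 0) (h4 : y * x ^ q + w * z ^ q = 0) : Psl.up x y z w h ∈ SU 4 F q := by
  intro u v
  change hermForm 4 F q ((Psl.up x y z w h : Matrix (Fin 4) (Fin 4) F) *ᵥ u)
    ((Psl.up x y z w h : Matrix (Fin 4) (Fin 4) F) *ᵥ v) = _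
  rw [up_mulVec, up_mulVec, herm_def, herm_def, Fin.sum_univ_four, Fin.sum_univ_four]
  simp only [Fin.isValue, cons_val_zero, cons_val_one, cons_val, add_pow_q hF, mul_pow]
  linear_combination (u 0 * v 0 ^ q) * h1 + (u 1 * v 1 ^ q) * h2 + (u 0 * v 1 ^ q) * h3 + (u 1 * v 0 ^ q) * h4

include hF in
theorem lo_mem {x y z w : F} (h : x * w - y * z = 1) (h1 : x * x ^ q + z * z ^ q = 1) (h2 : y * y ^ q + w * w ^ q = 1)
    (h3 : x * y ^ q + z * w ^ q = 0) (h4 : y * x ^ q + w * z ^ q = 0) : Psl.lo x y z w h ∈ SU 4 F q := by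
  intro u v
  change hermForm 4 F q ((Psl.lo x y z w h : Matrix (Fin 4) (Fin 4) F) *ᵥ u)
    ((Psl.lo x y z w h : Matrix (Fin 4) (Fin 4) F) *ᵥ v) = _
  rw [lo_mulVec, lo_mulVec, herm_def, herm_def, Fin.sum_univ_four, Fin.sum_univ_four]
  simp only [Fin.isValue, cons_val_zero, cons_val_one, cons_val, add_pow_q hF, mul_pow]
  linear_combination (u 2 * v 2 ^ q) * h1 + (u 3 * v 3 ^ q) * h2 + (u 2 * v 3 ^ q) * h3 + (u 3 * v 2 ^ q) * h4

include hF in
theorem mem_SU_of_dTwo {A : SpecialLinearGroup (Fin n) F} (hA : A ∈ Psl.dTwo (Fin n) F) : A ∈ SU n F q := by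
  obtain ⟨d, hd, hd2⟩ := hA
  intro u v
  have hA' : ∀ u : Fin n → F, ((slToMat n F) A) *ᵥ u = fun k => d k * u k := by
    intro u
    have : (slToMat n F) A = (A : Matrix (Fin n) (Fin n) F) := rfl
    rw [this, hd]
    ext k
    rw [mulVec_diagonal]
  rw [hA', hA', herm_def, herm_def]
  refine Finset.sum_congr rfl fun k _ => ?_
  have h1 : d k ^ q = d k := by
    have h2 : (d k - 1) * (d k + 1) = 0 := by linear_combination hd2 k
    rcases mul_eq_zero.1 h2 with h | h
    · rw [sub_eq_zero.1 h, one_pow]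
    · rw [eq_neg_of_add_eq_zero_left h, neg_pow_q hF, one_pow]
  rw [mul_pow, h1]
  linear_combination (u k * v k ^ q) * hd2 k

include hF in
theorem sw_mem {a b : Fin n} (h : a ≠ b) : (sw h : SpecialLinearGroup (Fin n) F) ∈ SU n F q := by
  intro u v
  have hA' : ∀ u : Fin n → F, ((slToMat n F) (sw h)) *ᵥ u = fun k => if k = a then u b else if k = b then - u a else u k := by
    intro u
    funext k
    exact sw_smul h u k
  rw [hA', hA', herm_def, herm_def, ← Equiv.sum_comp (Equiv.swap a b) fun k => u k * v k ^ q]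
  refine Finset.sum_congr rfl fun k _ => ?_
  by_cases hk : k = a
  · subst hk
    simp
  · by_cases hk' : k = b
    · subst hk'
      simp [hk, neg_pow_q hF]
    · simp [hk, hk', Equiv.swap_apply_of_ne_of_ne]

include hF in
/-- **The row `PSU_n(q)`, `n ≥ 3`, `q` odd.** -/
theorem df (h2 : (2 : F) ≠ 0) (h3 : 3 ≤ n) : DF (PSU n F q) := by
  have hcen : ∀ z ∈ center (SU n F q), ∃ r : F, ((z : SpecialLinearGroup (Fin n) F) : Matrix (Fin n) (Fin n) F) =
      diagonal fun _ => r := by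
    intro z hz
    obtain ⟨c, -, hc⟩ := Cfsg.Agent.ClassicalGeometry.UnitAutBasic.exists_scalar_of_mem_center hF h3 hz
    refine ⟨c, Matrix.mulVec_injective (funext fun v => ?_)⟩
    have h5 : (diagonal fun _ : Fin n => c) *ᵥ v = c • v := by
      ext k
      rw [mulVec_diagonal]; rfl
    rw [h5]
    exact hc v
  by_cases h4 : n = 4
  · subst h4
    obtain ⟨x, y, hx, hy, hxy⟩ := exists_xy hF h2
    have hxy' : x * x ^ q + y * y ^ q = 1 := by rw [hx, hy]; linear_combination -hxy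
    have h0q := zero_pow_q hF
    refine Lin.df_four h2 hxy (fun h => sw_mem hF h) ?_ ?_ ?_ ?_ hcen
    · exact up_mem hF _ (by rw [neg_pow_q hF, one_pow, h0q]; ring) (by rw [one_pow, h0q]; ring)
        (by rw [one_pow, h0q]; ring) (by rw [neg_pow_q hF, one_pow, h0q]; ring)
    · exact up_mem hF _ hxy' (by rw [neg_pow_q hF, hx, hy]; linear_combination -hxy)
        (by rw [neg_pow_q hF, hx, hy]; ring) (by rw [hx, hy]; ring)
    · exact lo_mem hF _ (by rw [neg_pow_q hF, one_pow, h0q]; ring) (by rw [one_pow, h0q]; ring)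
        (by rw [one_pow, h0q]; ring) (by rw [neg_pow_q hF, one_pow, h0q]; ring)
    · exact lo_mem hF _ hxy' (by rw [neg_pow_q hF, hx, hy]; linear_combination -hxy)
        (by rw [neg_pow_q hF, hx, hy]; ring) (by rw [hx, hy]; ring)
  · exact Lin.df_ne_four h2 h3 h4 (fun A hA => mem_SU_of_dTwo hF hA) (fun h => sw_mem hF h) hcen

end Cfsg.Agent.H315.SqC.Psu
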