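import Cfsg.Agent.H315.Sq
import Cfsg.Agent.HoltZ.Orth
import Cfsg.Agent.OddHalf.NI3.Bad.Sim
import Cfsg.Agent.ClassicalGeometry.OmegaIndex

/-!
# `DF` for the orthogonal groups of dimension at least 7, odd characteristic (helper315, for S3226)
-/

set_option autoImplicit false
set_option linter.unusedSectionVars false

namespace Cfsg.Agent.H315.SqC.Orth

open scoped commutatorElement Matrix
open QuadraticMap Subgroup Cfsg Cfsg.Agent.LieClassical.OrthCore Cfsg.Agent.LieClassical.OrthTrans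
open Cfsg.Agent.LieClassical.OrthSimple Cfsg.Agent.LieClassical Cfsg.Agent.HoltZ.Orth
open Cfsg.Agent.OddHalf.NI3.Bad.Sim Cfsg.Agent.OddHalf.NI3.Bad.Emb
open Cfsg.Agent.ClassicalGeometry.OddInvolutions Cfsg.Agent.ClassicalGeometry.OmegaIndex
open Cfsg.Agent.H315.SqC

section Signs

variable {F V : Type*} [Field F] [AddCommGroup V] [Module F V] {Q : QuadraticForm F V}

/-- the reflection product -/
theorem pair_apply' {a b : V} (ha : Q a = 1) (hb : Q b = 1) (hab : polar Q a b = 0) (ha0 : Q a ≠ 0) (hb0 : Q b ≠ 0)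
    (x : V) : (refl Q a ha0 * refl Q b hb0) x = x - polar Q a x • a - polar Q b x • b := by
  change refl Q a ha0 (refl Q b hb0 x) = _
  rw [refl_apply, refl_apply, ha, hb, polar_sub_right, polar_smul_right, hab]
  simp only [inv_one, one_mul, smul_eq_mul, mul_zero, sub_zero]
  abel

theorem in_plane' (h2 : (2 : F) ≠ 0) {a b : V} (ha : Q a = 1) (hb : Q b = 1) (hab : polar Q a b = 0) (ha0 : Q a ≠ 0)
    (hb0 : Q b ≠ 0) {x : V} (hx : (refl Q a ha0 * refl Q b hb0) x = -x) :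
    x = (polar Q a x / 2) • a + (polar Q b x / 2) • b := by
  rw [pair_apply' ha hb hab] at hx
  have h3 : (2 : F) • x = polar Q a x • a + polar Q b x • b := by
    have h4 : (2 : F) • x = x + x := two_smul F x
    rw [h4]
    have h5 : x + x = (x - polar Q a x • a - polar Q b x • b) + x + polar Q a x • a + polar Q b x • b := by abel
    rw [h5, hx]
    module
  have h6 : x = (2 : F)⁻¹ • ((2 : F) • x) := by rw [smul_smul, inv_mul_cancel₀ h2, one_smul]
  conv_lhs => rw [h6, h3]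
  module

variable {ι : Type} [DecidableEq ι] {a : ι → V} {J : Finset ι}

/-- **the position of `t`** -/
theorem signs (h2 : (2 : F) ≠ 0) (hJ : 5 ≤ J.card) (ha : ∀ i ∈ J, Q (a i) = 1)
    (hab : ∀ i j, i ≠ j → polar Q (a i) (a j) = 0) (ha0 : ∀ i, Q (a i) ≠ 0) {t : V ≃ₗ[F] V} (ht : t ∈ O Q)
    (hc : ∀ i ∈ J, ∀ j ∈ J, i ≠ j → ∃ c : F, ∀ x, t ((refl Q (a i) (ha0 i) * refl Q (a j) (ha0 j)) x) =
      c • (refl Q (a i) (ha0 i) * refl Q (a j) (ha0 j)) (t x)) :
    ∀ i ∈ J, t (a i) = a i ∨ t (a i) = - a i := by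
  have hne : ∀ i, a i ≠ 0 := by
    intro i h
    apply ha0 i
    rw [h, QuadraticMap.map_zero]
  -- step one: the scalars are 1
  have h1 : ∀ i ∈ J, ∀ j ∈ J, i ≠ j → ∀ x, t ((refl Q (a i) (ha0 i) * refl Q (a j) (ha0 j)) x) =
      (refl Q (a i) (ha0 i) * refl Q (a j) (ha0 j)) (t x) := by
    intro i hi j hj hij
    obtain ⟨c, hcc⟩ := hc i hi j hj hij
    obtain ⟨A, hA⟩ : ∃ A, A = refl Q (a i) (ha0 i) * refl Q (a j) (ha0 j) := ⟨_, rfl⟩
    rw [← hA] at hcc ⊢
    have hAA : ∀ x, A (A x) = x := by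
      intro x
      have h3 : A * A = 1 := by
        rw [hA]
        have h4 := refl_comm (ha0 i) (ha0 j) (hab i j hij)
        calc refl Q (a i) (ha0 i) * refl Q (a j) (ha0 j) * (refl Q (a i) (ha0 i) * refl Q (a j) (ha0 j))
            = refl Q (a i) (ha0 i) * (refl Q (a j) (ha0 j) * refl Q (a i) (ha0 i)) * refl Q (a j) (ha0 j) := by group
          _ = (refl Q (a i) (ha0 i) * refl Q (a i) (ha0 i)) * (refl Q (a j) (ha0 j) * refl Q (a j) (ha0 j)) := by
              rw [← h4]; group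
          _ = 1 := by rw [refl_mul_self, refl_mul_self, mul_one]
      exact LinearEquiv.congr_fun h3 x
    have hc2 : c * c = 1 := by
      have h3 : t (a i) = (c * c) • t (a i) := by
        conv_lhs => rw [← hAA (a i), hcc, hcc, map_smul, hAA, smul_smul]
      have h4 : (1 - c * c) • t (a i) = 0 := by rw [sub_smul, one_smul, ← h3, sub_self]
      rcases smul_eq_zero.1 h4 with h5 | h5
      · exact (sub_eq_zero.1 h5).symm
      · exact absurd ((LinearEquiv.map_eq_zero_iff t).1 h5) (hne i)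
    have hc1 : c = 1 ∨ c = -1 := by
      have h3 : (c - 1) * (c + 1) = 0 := by linear_combination hc2
      rcases mul_eq_zero.1 h3 with h4 | h4
      · exact Or.inl (sub_eq_zero.1 h4)
      · exact Or.inr (eq_neg_of_add_eq_zero_left h4)
    rcases hc1 with rfl | rfl
    · intro x; rw [hcc, one_smul]
    exfalso
    -- three vectors in a plane
    have hcard : 3 ≤ ((J.erase i).erase j).card := by
      rw [Finset.card_erase_of_mem (Finset.mem_erase.2 ⟨hij.symm, hj⟩), Finset.card_erase_of_mem hi]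
      omega
    obtain ⟨s, hs, hsc⟩ := Finset.exists_subset_card_eq hcard
    have e := s.equivFinOfCardEq hsc
    have hk : ∀ k : Fin 3, ((e.symm k : ι) ≠ i) ∧ ((e.symm k : ι) ≠ j) ∧ (e.symm k : ι) ∈ J := by
      intro k
      have := hs (e.symm k).2
      rw [Finset.mem_erase, Finset.mem_erase] at this
      exact ⟨this.2.1, this.1, this.2.2⟩
    have hw : ∀ k : Fin 3, t (a (e.symm k)) = (polar Q (a i) (t (a (e.symm k))) / 2) • a i +
        (polar Q (a j) (t (a (e.symm k))) / 2) • a j := by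
      intro k
      refine in_plane' h2 (ha i hi) (ha j hj) (hab i j hij) (ha0 i) (ha0 j) ?_
      rw [← hA]
      have h3 : A (a (e.symm k)) = a (e.symm k) := by
        rw [hA, pair_apply' (ha i hi) (ha j hj) (hab i j hij), hab i _ (hk k).1.symm, hab j _ (hk k).2.1.symm]
        simp
      have h4 := hcc (a (e.symm k))
      rw [h3] at h4
      have h5 : A (t (a (e.symm k))) = -((-1 : F) • A (t (a (e.symm k)))) := by simp
      rw [h5, ← h4]
    have hpl : ∀ p q p' q' : F, polar Q (p • a i + q • a j) (p' • a i + q' • a j) = 2 * (p * p' + q * q') := by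
      intro p q p' q'
      rw [polar_add_left, polar_add_right, polar_add_right]
      simp only [polar_smul_left, polar_smul_right, smul_eq_mul]
      rw [polar_self', polar_self', ha i hi, ha j hj, hab i j hij, hab j i hij.symm]
      ring
    refine no_three (α := fun k => polar Q (a i) (t (a (e.symm k))) / 2)
      (β := fun k => polar Q (a j) (t (a (e.symm k))) / 2) (fun k => ?_) (fun k l hkl => ?_)
    · have h3 := polar_map ht (a (e.symm k)) (a (e.symm k))
      rw [hw k, hpl, polar_self', ha _ (hk k).2.2] at h3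
      exact mul_left_cancel₀ h2 h3
    · have hne' : (e.symm k : ι) ≠ (e.symm l : ι) := by
        intro h
        exact hkl (e.symm.injective (Subtype.ext h))
      have h3 := polar_map ht (a (e.symm k)) (a (e.symm l))
      rw [hab _ _ hne'] at h3
      rw [hw k, hw l, hpl] at h3
      exact (mul_eq_zero.1 h3).resolve_left h2
  -- step two
  have hpl : ∀ i ∈ J, ∀ j ∈ J, i ≠ j → t (a i) = (polar Q (a i) (t (a i)) / 2) • a i +
      (polar Q (a j) (t (a i)) / 2) • a j := by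
    intro i hi j hj hij
    refine in_plane' h2 (ha i hi) (ha j hj) (hab i j hij) (ha0 i) (ha0 j) ?_
    rw [← h1 i hi j hj hij, pair_apply' (ha i hi) (ha j hj) (hab i j hij), polar_self', ha i hi, hab j i hij.symm,
      zero_smul, sub_zero]
    have : a i - (2 * 1 : F) • a i = - a i := by module
    rw [this, map_neg]
  intro i hi
  obtain ⟨j, hj, hji⟩ : ∃ j ∈ J, j ≠ i := by
    obtain ⟨j, hj⟩ := Finset.card_pos.1 (show 0 < (J.erase i).card by rw [Finset.card_erase_of_mem hi]; omega)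
    rw [Finset.mem_erase] at hj
    exact ⟨j, hj.2, hj.1⟩
  obtain ⟨k, hk, hki, hkj⟩ : ∃ k ∈ J, k ≠ i ∧ k ≠ j := by
    obtain ⟨k, hk⟩ := Finset.card_pos.1 (show 0 < ((J.erase i).erase j).card by
      rw [Finset.card_erase_of_mem (Finset.mem_erase.2 ⟨hji, hj⟩), Finset.card_erase_of_mem hi]; omega)
    rw [Finset.mem_erase, Finset.mem_erase] at hk
    exact ⟨k, hk.2.2, hk.2.1, hk.1⟩
  have h3 := hpl i hi k hk hki.symm
  have h4 : polar Q (a j) (t (a i)) = 0 := by
    rw [h3, polar_add_right, polar_smul_right, polar_smul_right, hab j i hji, hab j k hkj.symm]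
    simp
  have h5 := hpl i hi j hj hji.symm
  rw [h4, zero_div, zero_smul, add_zero] at h5
  obtain ⟨c, hcd⟩ : ∃ c, c = polar Q (a i) (t (a i)) / 2 := ⟨_, rfl⟩
  rw [← hcd] at h5
  have h6 := mem_O.1 ht (a i)
  rw [h5, QuadraticMap.map_smul, ha i hi, smul_eq_mul, mul_one] at h6
  have h7 : (c - 1) * (c + 1) = 0 := by linear_combination h6
  rcases mul_eq_zero.1 h7 with h8 | h8
  · left; rw [h5, sub_eq_zero.1 h8, one_smul]
  · right; rw [h5, eq_neg_of_add_eq_zero_left h8, neg_smul, one_smul]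

/-! ### the sign changes as products of squares -/

variable (hG : Good Q)

/-- an orthogonal map with `g v = ± v` commutes with the reflection -/
theorem comm_refl {g : V ≃ₗ[F] V} (hg : g ∈ O Q) {v : V} (hv : Q v ≠ 0) (h : g v = v ∨ g v = -v) :
    refl Q v hv * g = g * refl Q v hv := by
  have hv' : Q (g v) ≠ 0 := by rw [mem_O.1 hg]; exact hv
  have h1 := refl_conj hg hv hv'
  have h2 : refl Q (g v) hv' = refl Q v hv := by
    rcases h with h | h
    · congr 1
    · have h3 : Q ((-1 : F) • v) ≠ 0 := by rw [neg_smul, one_smul, QuadraticMap.map_neg]; exact hv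
      rw [← refl_smul hv (a := -1) (neg_ne_zero.2 one_ne_zero) h3]
      congr 1
      rw [h, neg_smul, one_smul]
  rw [h2, mul_inv_eq_iff_eq_mul] at h1
  exact h1.symm

include hG in
/-- `r_i r_j ∈ Sq t` -/
theorem pair_mem (h2 : (2 : F) ≠ 0) (ha : ∀ i ∈ J, Q (a i) = 1) (hab : ∀ i j, i ≠ j → polar Q (a i) (a j) = 0)
    (ha0 : ∀ i, Q (a i) ≠ 0) (hJ : 5 ≤ J.card) {t : E Q} (hs : ∀ i ∈ J, (t : V ≃ₗ[F] V) (a i) = a i ∨
      (t : V ≃ₗ[F] V) (a i) = - a i) {i j : ι} (hi : i ∈ J) (hj : j ∈ J) (hij : i ≠ j)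
    (ht : ((t : V ≃ₗ[F] V) (a i) = a i ∧ (t : V ≃ₗ[F] V) (a j) = a j) ∨
      ((t : V ≃ₗ[F] V) (a i) = - a i ∧ (t : V ≃ₗ[F] V) (a j) = - a j)) :
    ∃ d : E Q, d ∈ Sq t ∧ (d : V ≃ₗ[F] V) = refl Q (a i) (ha0 i) * refl Q (a j) (ha0 j) := by
  classical
  have htO : (t : V ≃ₗ[F] V) ∈ O Q := E_le_O t.2
  -- three other indices, two of them in the same class
  obtain ⟨k, l, m, hk, hl, hm, hkl, hki, hkj, hli, hlj, hmi, hmj, hmk, hml, hkt⟩ : ∃ k l m, k ∈ J ∧ l ∈ J ∧ m ∈ J ∧ k ≠ l ∧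
      k ≠ i ∧ k ≠ j ∧ l ≠ i ∧ l ≠ j ∧ m ≠ i ∧ m ≠ j ∧ m ≠ k ∧ m ≠ l ∧
      (((t : V ≃ₗ[F] V) (a k) = a k ∧ (t : V ≃ₗ[F] V) (a l) = a l) ∨
      ((t : V ≃ₗ[F] V) (a k) = - a k ∧ (t : V ≃ₗ[F] V) (a l) = - a l)) := by
    have hcard : 2 < ((J.erase i).erase j).card := by
      rw [Finset.card_erase_of_mem (Finset.mem_erase.2 ⟨hij.symm, hj⟩), Finset.card_erase_of_mem hi]
      omega
    obtain ⟨x, y, z, hx, hy, hz, hxy, hxz, hyz⟩ := Finset.two_lt_card_iff.1 hcard
    simp only [Finset.mem_erase] at hx hy hz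
    rcases hs x hx.2.2 with h1 | h1 <;> rcases hs y hy.2.2 with h3 | h3 <;> rcases hs z hz.2.2 with h4 | h4
    · exact ⟨x, y, z, hx.2.2, hy.2.2, hz.2.2, hxy, hx.2.1, hx.1, hy.2.1, hy.1, hz.2.1, hz.1, hxz.symm, hyz.symm,
        Or.inl ⟨h1, h3⟩⟩
    · exact ⟨x, y, z, hx.2.2, hy.2.2, hz.2.2, hxy, hx.2.1, hx.1, hy.2.1, hy.1, hz.2.1, hz.1, hxz.symm, hyz.symm,
        Or.inl ⟨h1, h3⟩⟩
    · exact ⟨x, z, y, hx.2.2, hz.2.2, hy.2.2, hxz, hx.2.1, hx.1, hz.2.1, hz.1, hy.2.1, hy.1, hxy.symm, hyz,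
        Or.inl ⟨h1, h4⟩⟩
    · exact ⟨y, z, x, hy.2.2, hz.2.2, hx.2.2, hyz, hy.2.1, hy.1, hz.2.1, hz.1, hx.2.1, hx.1, hxy, hxz,
        Or.inr ⟨h3, h4⟩⟩
    · exact ⟨y, z, x, hy.2.2, hz.2.2, hx.2.2, hyz, hy.2.1, hy.1, hz.2.1, hz.1, hx.2.1, hx.1, hxy, hxz,
        Or.inl ⟨h3, h4⟩⟩
    · exact ⟨x, z, y, hx.2.2, hz.2.2, hy.2.2, hxz, hx.2.1, hx.1, hz.2.1, hz.1, hy.2.1, hy.1, hxy.symm, hyz,
        Or.inr ⟨h1, h4⟩⟩
    · exact ⟨x, y, z, hx.2.2, hy.2.2, hz.2.2, hxy, hx.2.1, hx.1, hy.2.1, hy.1, hz.2.1, hz.1, hxz.symm, hyz.symm,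
        Or.inr ⟨h1, h3⟩⟩
    · exact ⟨x, y, z, hx.2.2, hy.2.2, hz.2.2, hxy, hx.2.1, hx.1, hy.2.1, hy.1, hz.2.1, hz.1, hxz.symm, hyz.symm,
        Or.inr ⟨h1, h3⟩⟩
  -- the norms of the differences
  have hQd : ∀ {p q : ι}, p ∈ J → q ∈ J → p ≠ q → Q (a p - a q) = 2 := by
    intro p q hp hq hpq
    rw [sub_eq_add_neg, Q_add, QuadraticMap.map_neg, polar_neg_right, ha p hp, ha q hq, hab p q hpq]
    ring
  have hd1 : Q (a i - a j) ≠ 0 := by rw [hQd hi hj hij]; exact h2
  have hd2 : Q (a k - a l) ≠ 0 := by rw [hQd hk hl hkl]; exact h2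
  have hσE : refl Q (a i - a j) hd1 * refl Q (a k - a l) hd2 ∈ E Q :=
    hG.refl_mul_refl_mem hd2 hd1 (by rw [hQd hi hj hij, hQd hk hl hkl])
  have hτE : refl Q (a m) (ha0 m) * refl Q (a i) (ha0 i) ∈ E Q :=
    hG.refl_mul_refl_mem (ha0 i) (ha0 m) (by rw [ha i hi, ha m hm])
  obtain ⟨σ, hσ⟩ : ∃ σ : E Q, (σ : V ≃ₗ[F] V) = refl Q (a i - a j) hd1 * refl Q (a k - a l) hd2 := ⟨⟨_, hσE⟩, rfl⟩
  obtain ⟨τ, hτ⟩ : ∃ τ : E Q, (τ : V ≃ₗ[F] V) = refl Q (a m) (ha0 m) * refl Q (a i) (ha0 i) := ⟨⟨_, hτE⟩, rfl⟩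
  have hct : ∀ {v w : V} (hv : Q v ≠ 0) (hw : Q w ≠ 0) (g : E Q), (g : V ≃ₗ[F] V) = refl Q v hv * refl Q w hw →
      ((t : V ≃ₗ[F] V) v = v ∨ (t : V ≃ₗ[F] V) v = -v) → ((t : V ≃ₗ[F] V) w = w ∨ (t : V ≃ₗ[F] V) w = -w) →
      g * t = t * g := by
    intro v w hv hw g hg h1 h3
    apply Subtype.ext
    change (g : V ≃ₗ[F] V) * t = t * g
    rw [hg, mul_assoc, comm_refl htO hw h3, ← mul_assoc, comm_refl htO hv h1, mul_assoc]
  have hdiff : ∀ {p q : ι}, (((t : V ≃ₗ[F] V) (a p) = a p ∧ (t : V ≃ₗ[F] V) (a q) = a q) ∨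
      ((t : V ≃ₗ[F] V) (a p) = - a p ∧ (t : V ≃ₗ[F] V) (a q) = - a q)) →
      ((t : V ≃ₗ[F] V) (a p - a q) = a p - a q ∨ (t : V ≃ₗ[F] V) (a p - a q) = -(a p - a q)) := by
    rintro p q (⟨h1, h3⟩ | ⟨h1, h3⟩)
    · left; rw [map_sub, h1, h3]
    · right; rw [map_sub, h1, h3]; abel
  have hσt : σ * t = t * σ := hct hd1 hd2 σ hσ (hdiff ht) (hdiff hkt)
  have hτt : τ * t = t * τ := hct (ha0 m) (ha0 i) τ hτ (hs m hm) (hs i hi)
  have hmem := comm_mem hσt hτt
  refine ⟨σ * τ * σ⁻¹ * τ⁻¹, hmem, ?_⟩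
  -- the commutator
  have hfix : ∀ {p q r : ι} (hd : Q (a p - a q) ≠ 0), r ≠ p → r ≠ q → refl Q (a p - a q) hd (a r) = a r := by
    intro p q r hd hrp hrq
    rw [refl_apply, polar_sub_left, hab p r hrp.symm, hab q r hrq.symm]
    simp
  have hσO : (σ : V ≃ₗ[F] V) ∈ O Q := E_le_O σ.2
  have h1 : (σ : V ≃ₗ[F] V) (a i) = a j := by
    rw [hσ]
    change refl Q (a i - a j) hd1 (refl Q (a k - a l) hd2 (a i)) = a j
    rw [hfix hd2 hki.symm hli.symm, refl_apply, polar_sub_left, hab j i hij.symm, polar_self', ha i hi, hQd hi hj hij]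
    rw [mul_one, sub_zero, inv_mul_cancel₀ h2]
    module
  have h3 : (σ : V ≃ₗ[F] V) (a m) = a m := by
    rw [hσ]
    change refl Q (a i - a j) hd1 (refl Q (a k - a l) hd2 (a m)) = a m
    rw [hfix hd2 hmk hml, hfix hd1 hmi hmj]
  have h4 : (σ : V ≃ₗ[F] V) * refl Q (a i) (ha0 i) * (σ : V ≃ₗ[F] V)⁻¹ = refl Q (a j) (ha0 j) := by
    rw [refl_conj hσO (ha0 i) (by rw [h1]; exact ha0 j)]
    congr 1
  have h5 : (σ : V ≃ₗ[F] V) * refl Q (a m) (ha0 m) * (σ : V ≃ₗ[F] V)⁻¹ = refl Q (a m) (ha0 m) := by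
    rw [refl_conj hσO (ha0 m) (by rw [h3]; exact ha0 m)]
    congr 1
  change (σ : V ≃ₗ[F] V) * τ * (σ : V ≃ₗ[F] V)⁻¹ * (τ : V ≃ₗ[F] V)⁻¹ = _
  rw [hτ, mul_inv_rev, refl_inv, refl_inv]
  calc (σ : V ≃ₗ[F] V) * (refl Q (a m) (ha0 m) * refl Q (a i) (ha0 i)) * (σ : V ≃ₗ[F] V)⁻¹ *
        (refl Q (a i) (ha0 i) * refl Q (a m) (ha0 m))
      = ((σ : V ≃ₗ[F] V) * refl Q (a m) (ha0 m) * (σ : V ≃ₗ[F] V)⁻¹) *
        ((σ : V ≃ₗ[F] V) * refl Q (a i) (ha0 i) * (σ : V ≃ₗ[F] V)⁻¹) *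
        (refl Q (a i) (ha0 i) * refl Q (a m) (ha0 m)) := by group
    _ = refl Q (a m) (ha0 m) * (refl Q (a j) (ha0 j) * refl Q (a i) (ha0 i)) * refl Q (a m) (ha0 m) := by
        rw [h4, h5]; group
    _ = refl Q (a m) (ha0 m) * refl Q (a m) (ha0 m) * (refl Q (a j) (ha0 j) * refl Q (a i) (ha0 i)) := by
        rw [mul_assoc, mul_assoc, ← refl_comm (ha0 m) (ha0 i) (hab m i hmi), ← mul_assoc (refl Q (a j) (ha0 j)),
          ← refl_comm (ha0 m) (ha0 j) (hab m j hmj)]
        group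
    _ = _ := by rw [refl_mul_self, one_mul, refl_comm (ha0 i) (ha0 j) (hab i j hij)]

include hG in
/-- the sign change of an even set inside the `-1`-eigenspace -/
theorem exists_sgn (h2 : (2 : F) ≠ 0) (ha : ∀ i ∈ J, Q (a i) = 1) (hab : ∀ i j, i ≠ j → polar Q (a i) (a j) = 0)
    (ha0 : ∀ i, Q (a i) ≠ 0) (hJ : 5 ≤ J.card) {t : E Q} (hs : ∀ i ∈ J, (t : V ≃ₗ[F] V) (a i) = a i ∨
      (t : V ≃ₗ[F] V) (a i) = - a i) :
    ∀ (m : ℕ) (S : Finset ι), S.card = 2 * m → S ⊆ J → (∀ i ∈ S, (t : V ≃ₗ[F] V) (a i) = - a i) →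
      ∃ d : E Q, d ∈ Sq t ∧ ∀ i, (d : V ≃ₗ[F] V) (a i) = if i ∈ S then - a i else a i := by
  intro m
  induction m with
  | zero =>
    intro S hS _ _
    rw [Nat.mul_zero, Finset.card_eq_zero] at hS
    subst hS
    exact ⟨1, one_mem _, fun i => by simp⟩
  | succ m ih =>
    intro S hS hSJ hSt
    obtain ⟨i, hi, j, hj, hij⟩ := Finset.one_lt_card.1 (show 1 < S.card by omega)
    obtain ⟨d, hd, hd'⟩ := ih ((S.erase i).erase j) (by
      rw [Finset.card_erase_of_mem (Finset.mem_erase.2 ⟨hij.symm, hj⟩), Finset.card_erase_of_mem hi]; omega)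
      (fun k hk => hSJ (Finset.mem_of_mem_erase (Finset.mem_of_mem_erase hk)))
      (fun k hk => hSt k (Finset.mem_of_mem_erase (Finset.mem_of_mem_erase hk)))
    obtain ⟨d', hd1, hd2⟩ := pair_mem hG h2 ha hab ha0 hJ hs (hSJ hi) (hSJ hj) hij (Or.inr ⟨hSt i hi, hSt j hj⟩)
    refine ⟨d' * d, mul_mem hd1 hd, fun k => ?_⟩
    change (d' : V ≃ₗ[F] V) ((d : V ≃ₗ[F] V) (a k)) = _
    have h3 : ∀ k, (d' : V ≃ₗ[F] V) (a k) = if k = i ∨ k = j then - a k else a k := by
      intro k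
      rw [hd2, pair_apply' (ha i (hSJ hi)) (ha j (hSJ hj)) (hab i j hij)]
      by_cases hki : k = i
      · subst hki
        rw [polar_self', ha k (hSJ hi), hab j k hij.symm, if_pos (Or.inl rfl)]
        module
      · by_cases hkj : k = j
        · subst hkj
          rw [polar_self', ha k (hSJ hj), hab i k hij, if_pos (Or.inr rfl)]
          module
        · rw [hab i k (Ne.symm hki), hab j k (Ne.symm hkj), if_neg (by tauto)]
          simp
    rw [hd']
    by_cases hk : k ∈ (S.erase i).erase j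
    · rw [if_pos hk, map_neg, h3]
      simp only [Finset.mem_erase] at hk
      rw [if_neg (by tauto), if_pos hk.2.2]
    · rw [if_neg hk, h3]
      simp only [Finset.mem_erase] at hk
      by_cases hki : k = i
      · subst hki; simp [hi]
      · by_cases hkj : k = j
        · subst hkj; simp [hj]
        · rw [if_neg (by tauto), if_neg (by tauto)]

end Signs

section diag

open Module Cfsg.Agent.ClassicalGeometry.Reflection Cfsg.Agent.ClassicalGeometry.SpinorSign

variable {F : Type*} [Field F] [Fintype F] {ι : Type} [Fintype ι] [DecidableEq ι] {d : ι → F}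

theorem DQ_single (d : ι → F) (i : ι) : DQ d (Pi.single i 1) = d i := by
  rw [DQ_apply, Finset.sum_eq_single i]
  · rw [Pi.single_eq_same]; ring
  · intro j _ hj; rw [Pi.single_eq_of_ne hj]; ring
  · intro h; exact absurd (Finset.mem_univ i) h

theorem ds_single (hd : ∀ i, d i ≠ 0) (h2 : (2 : F) ≠ 0) (i : ι) :
    ds d {i} = reflIso (DQ d) (Pi.single i 1) (by rw [DQ_single]; exact hd i) := by
  apply isometryGroup_ext
  intro x
  rw [coe_reflIso, reflectionMatrix_mulVec, DQ_single]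
  funext j
  rw [ds_mulVec, Pi.sub_apply, Pi.smul_apply, polar_DQ, Finset.sum_eq_single i]
  · by_cases hj : j = i
    · subst hj
      rw [Pi.single_eq_same, sg, if_pos (Finset.mem_singleton_self _), smul_eq_mul]
      have := hd j
      field_simp
      ring
    · rw [Pi.single_eq_of_ne hj, sg, if_neg (by simpa using hj)]
      simp
  · intro k _ hk; rw [Pi.single_eq_of_ne hk]; ring
  · intro h; exact absurd (Finset.mem_univ i) h

open Classical in
/-- determinant and spinor sign of a sign change -/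
theorem detSpinor_ds (hd : ∀ i, d i ≠ 0) (h2 : (2 : F) ≠ 0) (S : Finset ι) :
    detSpinor (⇑(DQ d)) 1 (ds d S) = ∏ i ∈ S, ((-1, if IsSquare (1 * d i) then -1 else 1) : Fˣ × ℤˣ) := by
  induction S using Finset.induction_on with
  | empty => rw [ds_empty, map_one, Finset.prod_empty]
  | insert i S hi ih =>
    rw [Finset.prod_insert hi, ← ih, Finset.insert_eq, ds_mul_of_disjoint _ (by simpa using hi), map_mul,
      ds_single hd h2, detSpinor_reflIso h2 (DQ d) one_ne_zero]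
    congr 2
    rw [DQ_single]

end diag

section Main

open Module Cfsg.Agent.ClassicalGeometry.Reflection Cfsg.Agent.ClassicalGeometry.SpinorSign

variable {F V : Type*} [Field F] [Fintype F] [AddCommGroup V] [Module F V] [FiniteDimensional F V]
  {Q : QuadraticForm F V}

/-- coordinates with respect to a full orthogonal family -/
theorem exists_E {ι : Type} [Fintype ι] [DecidableEq ι] {d : ι → F} {f : ι → V} (h2 : (2 : F) ≠ 0) (hf : OF Q d f)
    (hι : Fintype.card ι = finrank F V) :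
    ∃ e : (ι → F) ≃ₗ[F] V, (∀ x, e x = ∑ i, x i • f i) ∧ ∀ v, Q (e v) = 1 * DQ d v := by
  have h1 : Function.Injective (hf.ad h2).L := (hf.ad h2).L_injective
  have h3 : Function.Surjective (hf.ad h2).L :=
    (LinearMap.injective_iff_surjective_of_finrank_eq_finrank (by rw [finrank_fintype_fun_eq_card, hι])).1 h1
  refine ⟨LinearEquiv.ofBijective (hf.ad h2).L ⟨h1, h3⟩, fun x => ?_, fun v => ?_⟩
  · rw [← hf.L_apply h2]
    rfl
  · rw [one_mul]
    exact (hf.ad h2).nm v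

/-- a sign change in `Ω(V)` -/
theorem sgn_mem {ι : Type} [Fintype ι] [DecidableEq ι] {d : ι → F} {f : ι → V} (h2 : (2 : F) ≠ 0) (hf : OF Q d f)
    (hι : Fintype.card ι = finrank F V) (hn : 2 ≤ Fintype.card ι) {w : V ≃ₗ[F] V} (S : Finset ι)
    (hw : ∀ i, w (f i) = sg F S i • f i) :
    w ∈ Om Q ↔ detSpinor (⇑(DQ d)) 1 (ds d S) = 1 := by
  obtain ⟨e, he, heQ⟩ := exists_E h2 hf hι
  have hnd : (polarBilin (DQ d)).Nondegenerate := nondegenerate (hf.nondeg h2)
  have hcj : cje e (LieClassical.OrthFinite.isometryHom (DQ d) (ds d S)) = w := by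
    apply LinearEquiv.ext
    intro v
    rw [cje_apply]
    obtain ⟨x, rfl⟩ := e.surjective v
    rw [e.symm_apply_apply, he, he, map_sum]
    refine Finset.sum_congr rfl fun i _ => ?_
    rw [LieClassical.OrthFinite.isometryHom_apply, ds_mulVec, map_smul, hw, smul_smul, mul_comm]
  have h1 : w ∈ Om Q ↔ ds d S ∈ Cfsg.Omega F (⇑(DQ d)) := by
    rw [← map_Om one_ne_zero heQ, ← hcj]
    unfold Om
    rw [← LieClassical.OrthFinite.map_Omega]
    constructor
    · rintro ⟨u, ⟨g, hg, rfl⟩, hu⟩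
      have h3 : LieClassical.OrthFinite.isometryHom (DQ d) g = LieClassical.OrthFinite.isometryHom (DQ d) (ds d S) :=
        (cje e).injective hu
      rw [← LieClassical.OrthFinite.isometryHom_injective _ h3]
      exact hg
    · intro h
      exact ⟨_, ⟨_, h, rfl⟩, rfl⟩
  rw [h1, mem_Omega_iff h2 (DQ d) hnd hn one_ne_zero, detSpinor_eq_one_iff]

/-- the general position -/
theorem df_frame (h2 : (2 : F) ≠ 0) [Finite V] (hG : Good Q) {ι : Type} [Fintype ι] [DecidableEq ι] {d : ι → F} {f : ι → V}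
    (hf : OF Q d f) (hι : Fintype.card ι = finrank F V) {J : Finset ι} (hd : ∀ i ∈ J, d i = 1) (hJ : 5 ≤ J.card)
    (hns : ∀ i, i ∉ J → ¬ IsSquare (d i)) (hone : ∀ i j, i ∉ J → j ∉ J → i = j) : DF (↥(E Q) ⧸ center ↥(E Q)) := by
  classical
  have ha0 : ∀ i, Q (f i) ≠ 0 := fun i => by rw [hf.nm]; exact hf.ne i
  have ha : ∀ i ∈ J, Q (f i) = 1 := fun i hi => by rw [hf.nm, hd i hi]
  have hne : ∀ i, f i ≠ 0 := by
    intro i h
    apply ha0 i
    rw [h, QuadraticMap.map_zero]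
  have hfin : Finite (V ≃ₗ[F] V) := Finite.of_injective (fun g : V ≃ₗ[F] V => (g : V → V)) DFunLike.coe_injective
  obtain ⟨D, hD⟩ : ∃ D : Subgroup (V ≃ₗ[F] V), D = closure (Set.range fun i => refl Q (f i) (ha0 i)) := ⟨_, rfl⟩
  have hDc : ∀ x ∈ D, ∀ y ∈ D, x * y = y * x := by
    rw [hD]
    refine HoltZ.commute_closure ?_
    rintro _ ⟨i, rfl⟩ _ ⟨j, rfl⟩
    by_cases hij : i = j
    · subst hij; rfl
    · exact refl_comm (ha0 i) (ha0 j) (hf.orth i j hij)
  have hD2 : ∀ x ∈ D, x * x = 1 := by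
    intro x hx
    rw [hD] at hx
    induction hx using closure_induction with
    | mem x hx => obtain ⟨i, rfl⟩ := hx; exact refl_mul_self _
    | one => exact mul_one _
    | mul x y hx hy h3 h4 =>
      rw [← hD] at hx hy
      calc x * y * (x * y) = x * (y * x) * y := by group
        _ = (x * x) * (y * y) := by rw [hDc y hy x hx]; group
        _ = 1 := by rw [h3, h4, mul_one]
    | inv x hx h3 => rw [← mul_inv_rev, h3, inv_one]
  have hP : IsPGroup 2 ↥(D.subgroupOf (E Q)) := by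
    rintro ⟨g, hg⟩
    refine ⟨1, Subtype.ext (Subtype.ext ?_)⟩
    have := hD2 _ (mem_subgroupOf.1 hg)
    rw [pow_one, pow_two]
    exact this
  refine of_position ((D.subgroupOf (E Q)).map (QuotientGroup.mk' (center ↥(E Q)))) (hP.map _) ?_
  intro s hs hc
  obtain ⟨t, rfl⟩ := QuotientGroup.mk'_surjective (center ↥(E Q)) s
  have htO : (t : V ≃ₗ[F] V) ∈ O Q := E_le_O t.2
  -- signs
  have hsg := signs h2 hJ ha hf.orth ha0 htO (fun i hi j hj hij => by
    have hE := hG.refl_mul_refl_mem (ha0 j) (ha0 i) (by rw [ha i hi, ha j hj])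
    have hmem : (⟨_, hE⟩ : ↥(E Q)) ∈ D.subgroupOf (E Q) := by
      rw [mem_subgroupOf, hD]
      exact mul_mem (subset_closure ⟨i, rfl⟩) (subset_closure ⟨j, rfl⟩)
    have h3 := hc _ (mem_map_of_mem _ hmem)
    rw [← map_mul, ← map_mul] at h3
    obtain ⟨c, hcc⟩ := Cfsg.Agent.ClassicalGeometry.OrthAut1.center_scalar hG (QuotientGroup.eq.1 h3)
    refine ⟨c, fun x => ?_⟩
    have h4 := hcc x
    have h5 : (((⟨_, hE⟩ : ↥(E Q)) * t : ↥(E Q)) : V ≃ₗ[F] V)
        (((((⟨_, hE⟩ : ↥(E Q)) * t)⁻¹ * (t * ⟨_, hE⟩) : ↥(E Q)) : V ≃ₗ[F] V) x) =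
        ((t * ⟨_, hE⟩ : ↥(E Q)) : V ≃ₗ[F] V) x := by
      have h6 : ((⟨_, hE⟩ : ↥(E Q)) * t) * (((⟨_, hE⟩ : ↥(E Q)) * t)⁻¹ * (t * ⟨_, hE⟩)) = t * ⟨_, hE⟩ :=
        mul_inv_cancel_left _ _
      have h7 := congrArg (fun k : ↥(E Q) => (k : V ≃ₗ[F] V) x) h6
      exact h7
    rw [h4, map_smul] at h5
    exact h5.symm)
  -- the remaining vector
  have hall : ∀ i, (t : V ≃ₗ[F] V) (f i) = f i ∨ (t : V ≃ₗ[F] V) (f i) = - f i := by
    intro i
    by_cases hi : i ∈ J
    · exact hsg i hi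
    obtain ⟨c, hcd⟩ : ∃ c : F, c = polar Q (f i) ((t : V ≃ₗ[F] V) (f i)) / (2 * d i) := ⟨_, rfl⟩
    have h2d : (2 * d i : F) ≠ 0 := mul_ne_zero h2 (hf.ne i)
    have h3 : (t : V ≃ₗ[F] V) (f i) - c • f i = 0 := by
      refine hf.eq_zero h2 hι fun j => ?_
      rw [polar_sub_right, polar_smul_right]
      by_cases hji : j = i
      · subst hji
        rw [OrthCore.polar_self', hf.nm, hcd, smul_eq_mul, div_mul_cancel₀ _ h2d, sub_self]
      · rw [hf.orth j i hji, smul_zero, sub_zero]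
        have hjJ : j ∈ J := by
          by_contra hj
          exact hji (hone j i hj hi)
        have h4 := polar_map htO (f j) (f i)
        rw [hf.orth j i hji] at h4
        rcases hsg j hjJ with h5 | h5
        · rwa [h5] at h4
        · rw [h5, polar_neg_left, neg_eq_zero] at h4
          exact h4
    have h4 : (t : V ≃ₗ[F] V) (f i) = c • f i := sub_eq_zero.1 h3
    have h6 := mem_O.1 htO (f i)
    rw [h4, QuadraticMap.map_smul, smul_eq_mul] at h6
    have h7 : (c - 1) * (c + 1) = 0 := by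
      have h8 : (c * c - 1) * Q (f i) = 0 := by linear_combination h6
      have h9 := (mul_eq_zero.1 h8).resolve_right (ha0 i)
      linear_combination h9
    rcases mul_eq_zero.1 h7 with h8 | h8
    · left; rw [h4, sub_eq_zero.1 h8, one_smul]
    · right; rw [h4, eq_neg_of_add_eq_zero_left h8, neg_smul, one_smul]
  obtain ⟨S, hS⟩ : ∃ S : Finset ι, S = Finset.univ.filter fun i => (t : V ≃ₗ[F] V) (f i) = - f i := ⟨_, rfl⟩
  have hSm : ∀ i, i ∈ S ↔ (t : V ≃ₗ[F] V) (f i) = - f i := fun i => by rw [hS]; simp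
  have hw : ∀ i, (t : V ≃ₗ[F] V) (f i) = sg F S i • f i := by
    intro i
    unfold sg
    by_cases hi : i ∈ S
    · rw [if_pos hi, (hSm i).1 hi, neg_smul, one_smul]
    · rw [if_neg hi, one_smul]
      exact (hall i).resolve_right fun h => hi ((hSm i).2 h)
  have htOm : (t : V ≃ₗ[F] V) ∈ Om Q := by
    have h3 : E Q ≤ Om Q := hG.commutator_eq_E.ge
    exact h3 t.2
  have hn2 : 2 ≤ Fintype.card ι := by
    have := Finset.card_le_univ J
    omega
  have hsp := (sgn_mem h2 hf hι hn2 S hw).1 htOm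
  rw [detSpinor_ds hf.ne h2] at hsp
  have h5 : (-1 : Fˣ) ^ S.card = 1 := by
    have := congrArg Prod.fst hsp
    rw [Prod.fst_prod] at this
    simpa using this
  have h6 : (∏ i ∈ S, if IsSquare (1 * d i) then (-1 : ℤˣ) else 1) = 1 := by
    have := congrArg Prod.snd hsp
    rw [Prod.snd_prod] at this
    simpa using this
  have hev : Even S.card := by
    by_contra hb
    rw [Nat.not_even_iff_odd] at hb
    rw [hb.neg_one_pow] at h5
    exact neg_one_ne_one_units h2 h5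
  have hSJ : S ⊆ J := by
    intro i hi
    by_contra hiJ
    rw [← Finset.mul_prod_erase S _ hi, one_mul, if_neg (hns i hiJ), one_mul] at h6
    have h7 : (∏ j ∈ S.erase i, if IsSquare (1 * d j) then (-1 : ℤˣ) else 1) = ∏ j ∈ S.erase i, (-1 : ℤˣ) := by
      refine Finset.prod_congr rfl fun j hj => ?_
      have hjJ : j ∈ J := by
        by_contra h
        exact (Finset.mem_erase.1 hj).1 (hone j i h hiJ)
      rw [one_mul, hd j hjJ, if_pos IsSquare.one]
    rw [h7, Finset.prod_const, Finset.card_erase_of_mem hi] at h6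
    obtain ⟨k, hk⟩ := hev
    have hpos : 0 < S.card := Finset.card_pos.2 ⟨i, hi⟩
    have hodd : Odd (S.card - 1) := ⟨k - 1, by omega⟩
    rw [hodd.neg_one_pow] at h6
    exact absurd h6 (by decide)
  obtain ⟨k, hk⟩ := hev
  obtain ⟨w, hw1, hw2⟩ := exists_sgn hG h2 ha hf.orth ha0 hJ hsg k S (by omega) hSJ (fun i hi => (hSm i).1 hi)
  have htw : t = w := by
    obtain ⟨e, he, -⟩ := exists_E h2 hf hι
    apply Subtype.ext
    apply LinearEquiv.ext
    intro v
    obtain ⟨x, rfl⟩ := e.surjective v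
    rw [he, map_sum, map_sum]
    refine Finset.sum_congr rfl fun i _ => ?_
    rw [map_smul, map_smul, hw2]
    by_cases hi : i ∈ S
    · rw [if_pos hi, (hSm i).1 hi]
    · rw [if_neg hi, (hall i).resolve_right fun h => hi ((hSm i).2 h)]
  have h8 : t ∈ Sq t := by rw [← htw] at hw1; exact hw1
  exact map_mem (QuotientGroup.mk' (center ↥(E Q))) h8

/-- **Orthogonal groups of dimension at least 6.** -/
theorem df_E (h2 : (2 : F) ≠ 0) [Finite V] (hG : Good Q) (hn : 6 ≤ finrank F V) : DF (↥(E Q) ⧸ center ↥(E Q)) := by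
  classical
  obtain ⟨x, hx, f, hf⟩ := exists_OF_one h2 hG.nondeg (ι := Fin (finrank F V)) (Fintype.card_fin _) ⟨0, by omega⟩
  obtain ⟨i₀, hi₀⟩ : ∃ i₀ : Fin (finrank F V), i₀ = ⟨0, by omega⟩ := ⟨_, rfl⟩
  rw [← hi₀] at hf
  by_cases hsq : IsSquare x
  · obtain ⟨y, rfl⟩ := hsq
    have hy : y ≠ 0 := by rintro rfl; exact hx (mul_zero _)
    have hf' : OF Q (fun _ => (1 : F)) (fun i => if i = i₀ then y⁻¹ • f i else f i) := by
      refine ⟨fun i => ?_, fun _ => one_ne_zero, fun i j hij => ?_⟩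
      · by_cases hi : i = i₀
        · simp only [if_pos hi]
          rw [QuadraticMap.map_smul, hf.nm, if_pos hi, smul_eq_mul]
          field_simp
        · simp only [if_neg hi]
          rw [hf.nm, if_neg hi]
      · have h1 := hf.orth i j hij
        by_cases hi : i = i₀
        · have hj : j ≠ i₀ := fun h => hij (hi.trans h.symm)
          simp only [if_pos hi, if_neg hj]
          rw [polar_smul_left, h1, smul_zero]
        · by_cases hj : j = i₀
          · simp only [if_neg hi, if_pos hj]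
            rw [polar_smul_right, h1, smul_zero]
          · simp only [if_neg hi, if_neg hj]
            exact h1
    exact df_frame h2 hG hf' (Fintype.card_fin _) (J := Finset.univ) (fun _ _ => rfl)
      (by rw [Finset.card_univ, Fintype.card_fin]; omega) (fun i hi => absurd (Finset.mem_univ i) hi)
      (fun i _ hi => absurd (Finset.mem_univ i) hi)
  · refine df_frame h2 hG hf (Fintype.card_fin _) (J := Finset.univ.erase i₀) (fun i hi => ?_) ?_ (fun i hi => ?_)
      (fun i j hi hj => ?_)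
    · rw [if_neg (Finset.mem_erase.1 hi).1]
    · rw [Finset.card_erase_of_mem (Finset.mem_univ _), Finset.card_univ, Fintype.card_fin]; omega
    · have : i = i₀ := by simpa using hi
      rw [if_pos this]; exact hsq
    · have h1 : i = i₀ := by simpa using hi
      have h3 : j = i₀ := by simpa using hj
      rw [h1, h3]

end Main

section Rows

variable {F : Type*} [Field F] [Finite F]

theorem df_POmega {ι : Type} [Fintype ι] [DecidableEq ι] (h2 : (2 : F) ≠ 0) {Q : QuadraticForm F (ι → F)}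
    (hG : Good Q) (hn : 6 ≤ Fintype.card ι) : DF (Cfsg.POmega F ⇑Q) := by
  have := Fintype.ofFinite F
  have hfin : Finite (↥(E Q) ⧸ center ↥(E Q)) := by
    have hfin : Finite ((ι → F) ≃ₗ[F] (ι → F)) :=
      Finite.of_injective (fun g : (ι → F) ≃ₗ[F] (ι → F) => (g : (ι → F) → (ι → F))) DFunLike.coe_injective
    infer_instance
  have e : Cfsg.POmega F ⇑Q ≃* (↥(E Q) ⧸ center ↥(E Q)) := OrthFinite.quotientCenterCongr
    ((OrthFinite.omegaEquiv Q).trans (MulEquiv.subgroupCongr hG.commutator_eq_E))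
  have : Finite (Cfsg.POmega F ⇑Q) := Finite.of_equiv _ e.symm.toEquiv
  exact DF.congr e (df_E h2 hG (by rw [Module.finrank_fintype_fun_eq_card]; exact hn))

/-- `PΩ⁺_{2m}(q)`, `m ≥ 4`, `q` odd -/
theorem df_plus (h2 : (2 : F) ≠ 0) {m : ℕ} (hm : 4 ≤ m) : DF (Cfsg.POmega F (Cfsg.quadFormPlus m F)) := by
  have hG : Good (OrthForms.plusForm m F) := OrthFinite.good_of_finite (OrthForms.nondeg_plusForm m F) (by
    rw [Module.finrank_fintype_fun_eq_card, Fintype.card_sum, Fintype.card_fin]; omega)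
  rw [← OrthForms.coe_plusForm]
  exact df_POmega h2 hG (by rw [Fintype.card_sum, Fintype.card_fin]; omega)

/-- `PΩ_{2m+1}(q)`, `m ≥ 3`, `q` odd -/
theorem df_odd (h2 : (2 : F) ≠ 0) {m : ℕ} (hm : 3 ≤ m) : DF (Cfsg.POmega F (Cfsg.quadFormOdd m F)) := by
  have hG : Good (OrthForms.oddForm m F) := OrthFinite.good_of_finite (OrthForms.nondeg_oddForm m F h2) (by
    rw [Module.finrank_fintype_fun_eq_card, Fintype.card_sum, Fintype.card_sum, Fintype.card_fin, Fintype.card_unit]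
    omega)
  rw [← OrthForms.coe_oddForm]
  exact df_POmega h2 hG (by rw [Fintype.card_sum, Fintype.card_sum, Fintype.card_fin, Fintype.card_unit]; omega)

/-- `PΩ⁻_{2m+2}(q)`, `m ≥ 3`, `q` odd -/
theorem df_minus (h2 : (2 : F) ≠ 0) {m : ℕ} (hm : 3 ≤ m) {a b : F}
    (hab : ∀ z₁ z₂ : F, z₁ ^ 2 + a * z₁ * z₂ + b * z₂ ^ 2 = 0 → z₁ = 0 ∧ z₂ = 0) :
    DF (Cfsg.POmega F (Cfsg.quadFormMinus m F a b)) := by
  have hG : Good (OrthForms.minusForm m F a b) :=
    OrthFinite.good_of_finite (OrthForms.nondeg_minusForm m F a b hab) (by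
      rw [Module.finrank_fintype_fun_eq_card, Fintype.card_sum, Fintype.card_sum, Fintype.card_fin, Fintype.card_fin]
      omega)
  rw [← OrthForms.coe_minusForm]
  exact df_POmega h2 hG (by rw [Fintype.card_sum, Fintype.card_sum, Fintype.card_fin, Fintype.card_fin]; omega)

end Rows

end Cfsg.Agent.H315.SqC.Orth
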