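import Cfsg.Agent.H315.SqAb
import Cfsg.Agent.H315.NoAct

/-!
# S3226: Sylow 2-subgroups of `F` of order 8 are impossible (helper315)
-/

set_option autoImplicit false
set_option linter.unusedSectionVars false

namespace Cfsg.Agent.H315.SqC.Ab

open Subgroup Cfsg Cfsg.Agent.H315.SqC

variable {G : Type*} [Group G] [Finite G] {t : G} {F : Subgroup G} {S : Sylow 2 G}

/-- the Sylow 2-subgroup `S ∩ F` of `F` -/
theorem Sit.exists_sylow (h : Sit t F S) : ∃ P : Sylow 2 F, ∀ x : F, x ∈ P ↔ (x : G) ∈ (S : Subgroup G) := by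
  have : Fact (Nat.Prime 2) := ⟨Nat.prime_two⟩
  have hn : (F.subgroupOf (centralizer ({t} : Set G))).Normal := by
    refine ⟨fun y hy c => ?_⟩
    rw [mem_subgroupOf] at hy ⊢
    exact h.nF c c.2 _ hy
  have hodd := Lib.SylowNormalInf.not_dvd_relIndex (S.subtype h.sc) (F.subgroupOf (centralizer ({t} : Set G)))
  let P₁ := (Lib.SylowNormalInf.isPGroup_subgroupOf (S.subtype h.sc)
    (F.subgroupOf (centralizer ({t} : Set G)))).toSylow hodd
  let e := Subgroup.subgroupOfEquivOfLe h.FC
  refine ⟨P₁.mapSurjective (f := e.toMonoidHom) e.surjective, fun x => ?_⟩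
  constructor
  · rintro ⟨y, hy, rfl⟩
    exact hy
  · intro hx
    exact ⟨⟨⟨x, h.FC x.2⟩, x.2⟩, hx, rfl⟩

/-- **The contradiction.** -/
theorem Sit.false_of_eight (h : Sit t F S) (hfus : ∃ g ∈ normalizer ((S : Subgroup G) : Set G), g⁻¹ * t * g ∈ F)
    (h8 : ∀ P : Sylow 2 F, Nat.card P = 8 ∧ ∀ x ∈ P, x * x = 1) (hone : HoltZ.OneClass.OneInv F) : False := by
  classical
  have : Fact (Nat.Prime 2) := ⟨Nat.prime_two⟩
  obtain ⟨P, hP⟩ := h.exists_sylow
  obtain ⟨hP8, hP2⟩ := h8 P
  have htC : t ∈ centralizer ({t} : Set G) := mem_centralizer_singleton_iff.2 rfl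
  -- `S` is elementary abelian
  have hct : ∀ x ∈ (S : Subgroup G), x * t = t * x := fun x hx => mem_centralizer_singleton_iff.1 (h.sc hx)
  have hFt : ∀ x ∈ F, x * t = t * x := fun x hx => mem_centralizer_singleton_iff.1 (h.FC hx)
  have hF2 : ∀ x ∈ F, x ∈ (S : Subgroup G) → x * x = 1 := fun x hx hxS =>
    congrArg Subtype.val (hP2 ⟨x, hx⟩ ((hP _).2 hxS))
  have hS2 : ∀ x ∈ (S : Subgroup G), x * x = 1 := by
    intro x hx
    rcases h.half' x (h.sc hx) with h1 | h1
    · exact hF2 x h1 hx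
    · have h2 := hF2 (t * x) h1 (mul_mem h.tS hx)
      calc x * x = (t * t) * (x * x) := by rw [h.tt, one_mul]
        _ = t * (t * x) * x := by group
        _ = t * (x * t) * x := by rw [hct x hx]
        _ = (t * x) * (t * x) := by group
        _ = 1 := h2
  have hSc : ∀ x ∈ (S : Subgroup G), ∀ y ∈ (S : Subgroup G), x * y = y * x := by
    intro x hx y hy
    have h1 := hS2 _ (mul_mem hx hy)
    calc x * y = (x * y) * ((y * x) * (y * x)) := by rw [hS2 _ (mul_mem hy hx), mul_one]
      _ = x * (y * y) * x * (y * x) := by group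
      _ = y * x := by rw [hS2 y hy, mul_one, hS2 x hx, one_mul]
  have hcommP : IsMulCommutative (P : Subgroup F) := ⟨⟨fun a b => by
    apply Subtype.ext
    apply Subtype.ext
    exact hSc _ ((hP _).1 a.2) _ ((hP _).1 b.2)⟩⟩
  -- the action
  obtain ⟨ψ, hψ⟩ : ∃ ψ : normalizer ((S : Subgroup G) : Set G) →* MulAut ↥(S : Subgroup G),
      ∀ n s, ((ψ n s : ↥(S : Subgroup G)) : G) = n * s * (n : G)⁻¹ :=
    ⟨(S : Subgroup G).normalizerMonoidHom, fun n s => rfl⟩
  obtain ⟨A, hA⟩ : ∃ A : Subgroup (MulAut ↥(S : Subgroup G)), A = ψ.range := ⟨_, rfl⟩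
  -- odd order
  have hAodd : Odd (Nat.card A) := by
    rw [hA]
    have h1 : ψ.ker.index = Nat.card ψ.range := Subgroup.index_ker ψ
    rw [← h1]
    have h2 : (S : Subgroup G).subgroupOf (normalizer ((S : Subgroup G) : Set G)) ≤ ψ.ker := by
      intro x hx
      rw [MonoidHom.mem_ker]
      ext s
      have h := hSc (x : G) (mem_subgroupOf.1 hx) (s : G) s.2
      rw [hψ, h, mul_inv_cancel_right]
      rfl
    have h3 : ψ.ker.index ∣ ((S : Subgroup G).subgroupOf (normalizer ((S : Subgroup G) : Set G))).index :=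
      Subgroup.index_dvd_of_le h2
    have h4 : (S : Subgroup G).relIndex (normalizer ((S : Subgroup G) : Set G)) ∣ (S : Subgroup G).index :=
      Subgroup.relIndex_dvd_index_of_le le_normalizer
    have h5 : Odd (S : Subgroup G).index := by
      rw [← Nat.not_even_iff_odd, even_iff_two_dvd]
      exact S.not_dvd_index
    exact h5.of_dvd_nat (h3.trans h4)
  have hfinA : Finite A := inferInstance
  obtain ⟨t', ht'⟩ : ∃ t' : ↥(S : Subgroup G), (t' : G) = t := ⟨⟨t, h.tS⟩, rfl⟩
  have hact : ∀ n : normalizer ((S : Subgroup G) : Set G), ∃ a : A, ∀ s : ↥(S : Subgroup G), ((a • s : ↥(S : Subgroup G)) : G) = n * s * (n : G)⁻¹ := by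
    intro n
    refine ⟨⟨ψ n, by rw [hA]; exact ⟨n, rfl⟩⟩, fun s => ?_⟩
    exact hψ n s
  -- elements of `N_F(P)`
  have hNP : ∀ n : F, n ∈ normalizer ((P : Subgroup F) : Set F) → (n : G) ∈ normalizer ((S : Subgroup G) : Set G) := by
    intro n hn
    have key : ∀ x, x ∈ (S : Subgroup G) → (n : G) * x * (n : G)⁻¹ ∈ (S : Subgroup G) := by
      intro x hx
      rcases h.half' x (h.sc hx) with h1 | h1
      · exact (hP _).1 ((mem_normalizer_iff.1 hn ⟨x, h1⟩).1 ((hP _).2 hx))
      · have h2 : (n : G) * (t * x) * (n : G)⁻¹ ∈ (S : Subgroup G) :=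
          (hP _).1 ((mem_normalizer_iff.1 hn ⟨t * x, h1⟩).1 ((hP _).2 (mul_mem h.tS hx)))
        have h3 : (n : G) * x * (n : G)⁻¹ = t * ((n : G) * (t * x) * (n : G)⁻¹) := by
          have h4 := hFt n n.2
          calc (n : G) * x * (n : G)⁻¹ = (t * t) * n * x * (n : G)⁻¹ := by rw [h.tt, one_mul]
            _ = t * (t * n) * x * (n : G)⁻¹ := by group
            _ = t * (n * t) * x * (n : G)⁻¹ := by rw [h4]
            _ = _ := by group
        rw [h3]
        exact mul_mem h.tS h2
    have hle : (S : Subgroup G).map (MulAut.conj (n : G)).toMonoidHom ≤ (S : Subgroup G) := by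
      rintro _ ⟨x, hx, rfl⟩
      exact key x hx
    have heq : (S : Subgroup G).map (MulAut.conj (n : G)).toMonoidHom = (S : Subgroup G) := by
      apply Subgroup.eq_of_le_of_card_ge hle
      rw [Subgroup.card_map_of_injective (MulAut.conj (n : G)).injective]
    rw [mem_normalizer_iff]
    intro x
    refine ⟨key x, fun hx => ?_⟩
    rw [← heq] at hx
    obtain ⟨y, hy, hyx⟩ := hx
    have : y = x := (MulAut.conj (n : G)).injective hyx
    rwa [← this]
  -- transitivity on the involutions of `S ∩ F`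
  have htrans : ∀ x ∈ F, ∀ y ∈ F, x ∈ (S : Subgroup G) → y ∈ (S : Subgroup G) → x ≠ 1 → y ≠ 1 →
      ∃ n ∈ F, n ∈ normalizer ((S : Subgroup G) : Set G) ∧ n * x * n⁻¹ = y := by
    intro x hx y hy hxS hyS hx1 hy1
    have ho : ∀ z (hz : z ∈ F), z ∈ (S : Subgroup G) → z ≠ 1 → orderOf (⟨z, hz⟩ : F) = 2 := by
      intro z hz hzS hz1
      refine orderOf_eq_prime (Subtype.ext ?_) (fun h => hz1 (congrArg Subtype.val h))
      rw [pow_two]
      exact hF2 z hz hzS
    obtain ⟨g, hg⟩ := hone ⟨x, hx⟩ ⟨y, hy⟩ (ho x hx hxS hx1) (ho y hy hyS hy1)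
    obtain ⟨n, hn, hn'⟩ := P.conj_eq_normalizer_conj_of_mem (⟨x, hx⟩ : F) g⁻¹ ((hP _).2 hxS) (by
      rw [inv_inv, ← hg]; exact (hP _).2 hyS)
    refine ⟨(n⁻¹ : F), (n⁻¹ : F).2, hNP _ (inv_mem hn), ?_⟩
    rw [inv_inv, ← hg] at hn'
    have h3 := congrArg Subtype.val hn'
    change y = (n : G)⁻¹ * x * n at h3
    rw [h3]
    change (n : G)⁻¹ * x * ((n : G)⁻¹)⁻¹ = _
    rw [inv_inv]
  -- counting
  have hcardT : (({x : ↥(S : Subgroup G) | (x : G) ∈ F} : Set ↥(S : Subgroup G))).ncard = 8 := by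
    rw [← hP8, ← Nat.card_coe_set_eq]
    refine Nat.card_congr ⟨fun x => ⟨⟨x.1, x.2⟩, (hP _).2 x.1.2⟩, fun y => ⟨⟨y.1, (hP _).1 y.2⟩, y.1.2⟩,
      fun x => rfl, fun y => rfl⟩
  have hcardS : Nat.card ↥(S : Subgroup G) = 16 := by
    have h1 : (Set.univ : Set ↥(S : Subgroup G)) = {x : ↥(S : Subgroup G) | (x : G) ∈ F} ∪
        (fun x : ↥(S : Subgroup G) => t' * x) '' {x : ↥(S : Subgroup G) | (x : G) ∈ F} := by
      ext x
      simp only [Set.mem_univ, Set.mem_union, Set.mem_setOf_eq, Set.mem_image, true_iff]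
      rcases h.half' x (h.sc x.2) with h2 | h2
      · exact Or.inl h2
      · right
        refine ⟨t' * x, ?_, ?_⟩
        · change (t' : G) * x ∈ F
          rw [ht']; exact h2
        · apply Subtype.ext
          change (t' : G) * (t' * x) = x
          rw [ht', ← mul_assoc, h.tt, one_mul]
    rw [← Set.ncard_univ, h1, Set.ncard_union_eq, Set.ncard_image_of_injective _ (mul_right_injective t'), hcardT]
    rw [Set.disjoint_left]
    rintro x hx ⟨y, hy, rfl⟩
    apply h.tF
    have h2 : t = ((t' * y : ↥(S : Subgroup G)) : G) * (y : G)⁻¹ := by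
      change t = t' * y * (y : G)⁻¹
      rw [mul_inv_cancel_right, ht']
    rw [h2]
    exact F.mul_mem hx (F.inv_mem hy)
  -- 7 divides
  obtain ⟨g₀, hg₀, hgF⟩ := hfus
  have hu : g₀⁻¹ * t * g₀ ∈ (S : Subgroup G) := by
    have h1 := (mem_normalizer_iff.1 (inv_mem hg₀) t).1 h.tS
    rwa [inv_inv] at h1
  obtain ⟨u', hu'⟩ : ∃ u' : ↥(S : Subgroup G), (u' : G) = g₀⁻¹ * t * g₀ := ⟨⟨_, hu⟩, rfl⟩
  have hu1 : g₀⁻¹ * t * g₀ ≠ 1 := by
    intro h1
    apply h.t1
    have h2 : t = g₀ * (g₀⁻¹ * t * g₀) * g₀⁻¹ := by group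
    rw [h2, h1]; group
  have h7 : 7 ∣ Nat.card A := by
    -- the subgroup `B`
    obtain ⟨B, hB⟩ : ∃ B : Subgroup (MulAut ↥(S : Subgroup G)),
        B = (F.subgroupOf (normalizer ((S : Subgroup G) : Set G))).map ψ := ⟨_, rfl⟩
    have hBA : B ≤ A := by rw [hA, hB]; exact Subgroup.map_le_range ψ _
    refine dvd_trans ?_ (Subgroup.card_dvd_of_le hBA)
    have h1 : MulAction.orbit B u' = {x : ↥(S : Subgroup G) | (x : G) ∈ F} \ {1} := by
      ext x
      constructor
      · rintro ⟨⟨b, hb⟩, rfl⟩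
        rw [hB] at hb
        obtain ⟨n, hn, rfl⟩ := hb
        have h2 : (((⟨ψ n, hb⟩ : B) • u' : ↥(S : Subgroup G)) : G) = n * u' * (n : G)⁻¹ := hψ n u'
        refine ⟨?_, ?_⟩
        · change (((⟨ψ n, hb⟩ : B) • u' : ↥(S : Subgroup G)) : G) ∈ F
          rw [h2, hu']
          exact F.mul_mem (F.mul_mem hn hgF) (F.inv_mem hn)
        · intro h3
          rw [Set.mem_singleton_iff] at h3
          have h4 : (n : G) * u' * (n : G)⁻¹ = 1 := by rw [← h2]; exact congrArg Subtype.val h3
          apply hu1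
          rw [← hu']
          have h5 : (u' : G) = (n : G)⁻¹ * (n * u' * (n : G)⁻¹) * n := by group
          rw [h5, h4]; group
      · rintro ⟨hx, hx1⟩
        obtain ⟨n, hnF, hnN, hn⟩ := htrans _ hgF (x : G) hx hu x.2 hu1 (fun h => hx1 (Subtype.ext h))
        refine ⟨⟨ψ ⟨n, hnN⟩, by rw [hB]; exact ⟨⟨n, hnN⟩, hnF, rfl⟩⟩, ?_⟩
        apply Subtype.ext
        have h2 : (((⟨ψ ⟨n, hnN⟩, by rw [hB]; exact ⟨⟨n, hnN⟩, hnF, rfl⟩⟩ : B) • u' : ↥(S : Subgroup G)) : G) =
          n * u' * n⁻¹ := hψ ⟨n, hnN⟩ u'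
        exact h2.trans (by rw [hu', hn])
    have h2 : (MulAction.orbit B u').ncard = 7 := by
      rw [h1, Set.ncard_sdiff_singleton_of_mem (show (1 : ↥(S : Subgroup G)) ∈ {x : ↥(S : Subgroup G) | (x : G) ∈ F} from
        F.one_mem), hcardT]
    rw [← h2, ← MulAction.index_stabilizer]
    exact Subgroup.index_dvd_card _
  -- the orbit of `t`
  have hOdiv : (MulAction.orbit A t').ncard ∣ Nat.card A := by
    rw [← MulAction.index_stabilizer]
    exact Subgroup.index_dvd_card _
  have hOconj : ∀ n ∈ normalizer ((S : Subgroup G) : Set G), ∀ x ∈ MulAction.orbit A t', ∀ y : ↥(S : Subgroup G),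
      (y : G) = n * x * n⁻¹ → y ∈ MulAction.orbit A t' := by
    rintro n hn _ ⟨a, rfl⟩ y hy
    obtain ⟨b, hb⟩ := hact ⟨n, hn⟩
    refine ⟨b * a, ?_⟩
    apply Subtype.ext
    change ((((b * a : A)) • t' : ↥(S : Subgroup G)) : G) = y
    rw [mul_smul, hb, hy]
  have hO1 : (1 : ↥(S : Subgroup G)) ∉ MulAction.orbit A t' := by
    rintro ⟨a, ha⟩
    have h1 : a • t' = 1 := ha
    rw [smul_eq_iff_eq_inv_smul, smul_one] at h1
    apply h.t1
    rw [← ht', h1]; rfl
  have hOF : ∀ x : ↥(S : Subgroup G), (x : G) ∈ F → x ≠ 1 → x ∈ MulAction.orbit A t' := by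
    intro x hxF hx1
    have h1 : u' ∈ MulAction.orbit A t' := hOconj g₀⁻¹ (inv_mem hg₀) t' (MulAction.mem_orbit_self t') u' (by
      rw [hu', ht', inv_inv])
    obtain ⟨n, hnF, hnN, hn⟩ := htrans _ hgF (x : G) hxF hu x.2 hu1 (fun h => hx1 (Subtype.ext h))
    exact hOconj n hnN u' h1 x (by rw [hu', hn])
  by_cases hc : ∃ x : ↥(S : Subgroup G), (x : G) ∈ F ∧ x ≠ 1 ∧ t' * x ∈ MulAction.orbit A t'
  · -- the orbit is everything
    have h1 : MulAction.orbit A t' = Set.univ \ {1} := by
      ext y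
      constructor
      · intro hy
        refine ⟨Set.mem_univ _, fun h2 => ?_⟩
        rw [Set.mem_singleton_iff] at h2
        rw [h2] at hy
        exact hO1 hy
      · rintro ⟨-, hy1⟩
        rcases h.half' y (h.sc y.2) with h2 | h2
        · exact hOF y h2 hy1
        · by_cases hty : t' * y = 1
          · have h3 : y = t' := by
              have h4 : t' * t' = 1 := by
                apply Subtype.ext
                change (t' : G) * t' = 1
                rw [ht', h.tt]
              exact mul_left_cancel (hty.trans h4.symm)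
            rw [h3]; exact MulAction.mem_orbit_self t'
          · obtain ⟨x, hxF, hx1, hxO⟩ := hc
            have hF' : ((t' * y : ↥(S : Subgroup G)) : G) ∈ F := by
              change (t' : G) * y ∈ F
              rw [ht']; exact h2
            obtain ⟨n, hnF, hnN, hn⟩ := htrans (x : G) hxF _ hF' x.2 (t' * y).2 (fun h => hx1 (Subtype.ext h))
              (fun h => hty (Subtype.ext h))
            refine hOconj n hnN _ hxO y ?_
            have h3 : (y : G) = t * ((t' * y : ↥(S : Subgroup G)) : G) := by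
              change (y : G) = t * ((t' : G) * y)
              rw [ht', ← mul_assoc, h.tt, one_mul]
            have h4 : n * ((t' * x : ↥(S : Subgroup G)) : G) * n⁻¹ = t * (n * x * n⁻¹) := by
              change n * ((t' : G) * x) * n⁻¹ = _
              rw [ht']
              calc n * (t * x) * n⁻¹ = (n * t) * x * n⁻¹ := by group
                _ = (t * n) * x * n⁻¹ := by rw [hFt n hnF]
                _ = _ := by group
            rw [h3, h4, hn]
    have h2 : (MulAction.orbit A t').ncard = 15 := by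
      rw [h1, Set.ncard_sdiff_singleton_of_mem (Set.mem_univ _), Set.ncard_univ, hcardS]
    rw [h2] at hOdiv
    exact NoAct.no_act (A := A) (S := ↥(S : Subgroup G)) hcardS hAodd (dvd_trans (by norm_num) hOdiv) h7
  · -- the orbit has 8 elements
    push Not at hc
    have h1 : MulAction.orbit A t' = insert t' ({x : ↥(S : Subgroup G) | (x : G) ∈ F} \ {1}) := by
      ext y
      constructor
      · intro hy
        have hy1 : y ≠ 1 := by rintro rfl; exact hO1 hy
        rcases h.half' y (h.sc y.2) with h2 | h2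
        · exact Set.mem_insert_of_mem _ ⟨h2, hy1⟩
        · by_cases hty : t' * y = 1
          · have h3 : y = t' := by
              have h4 : t' * t' = 1 := by
                apply Subtype.ext
                change (t' : G) * t' = 1
                rw [ht', h.tt]
              exact mul_left_cancel (hty.trans h4.symm)
            rw [h3]; exact Set.mem_insert _ _
          · exfalso
            refine hc (t' * y) ?_ hty ?_
            · change (t' : G) * y ∈ F
              rw [ht']; exact h2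
            · have h3 : t' * (t' * y) = y := by
                apply Subtype.ext
                change (t' : G) * ((t' : G) * y) = y
                rw [ht', ← mul_assoc, h.tt, one_mul]
              rw [h3]; exact hy
      · rintro (rfl | ⟨hy, hy1⟩)
        · exact MulAction.mem_orbit_self _
        · exact hOF y hy hy1
    have h2 : (MulAction.orbit A t').ncard = 8 := by
      rw [h1, Set.ncard_insert_of_notMem, Set.ncard_sdiff_singleton_of_mem (show (1 : ↥(S : Subgroup G)) ∈
        {x : ↥(S : Subgroup G) | (x : G) ∈ F} from F.one_mem), hcardT]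
      rintro ⟨h3, -⟩
      apply h.tF
      rw [← ht']; exact h3
    rw [h2] at hOdiv
    have h3 : 2 ∣ Nat.card A := dvd_trans (by norm_num) hOdiv
    rw [← Nat.not_even_iff_odd, even_iff_two_dvd] at hAodd
    exact hAodd h3

end Cfsg.Agent.H315.SqC.Ab
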