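import Cfsg.Agent.H315.SqAb2
import Cfsg.Agent.H315.SqRee
import Cfsg.Agent.S0253
import Cfsg.Agent.S0343
import Cfsg.Agent.Lib.PSL2Torus
import Cfsg.Agent.S1116
import Cfsg.Agent.S1152
import Cfsg.Agent.S1157
import Cfsg.Agent.LieRecognition.ReeCent
import Cfsg.Agent.LieRecognition.ReeInv
import Cfsg.Agent.LieRecognition.ReePSL

/-!
# S3226: `F ≅ PSL₂(q)`, `q` odd (helper315)
-/

set_option autoImplicit false
set_option linter.unusedSectionVars false

namespace Cfsg.Agent.H315.SqC.Ab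

open Subgroup Cfsg Cfsg.Agent.H315.SqC

universe u

variable {G : Type u} [Group G] [Finite G] {t : G} {F : Subgroup G} {S : Sylow 2 G}

theorem Sit.psl_two (h : Sit t F S) {K : Type*} [Field K] [Fintype K] (h2 : (2 : K) ≠ 0)
    (e : F ≃* Matrix.ProjectiveSpecialLinearGroup (Fin 2) K) :
    (∃ H : Subgroup G, H.index = 2 ∧ t ∉ H) ∨ Nonempty (F ≃* ↥(alternatingGroup (Fin 5))) ∨
      (∃ m : ℕ, 1 ≤ m ∧ Fintype.card K = 3 ^ (2 * m + 1)) := by
  classical
  have : Fact (Nat.Prime 2) := ⟨Nat.prime_two⟩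
  have htc : ∀ s ∈ (S : Subgroup G), s * t = t * s := fun s hs => mem_centralizer_singleton_iff.1 (h.sc hs)
  have hone : HoltZ.OneClass.OneInv F := by
    intro s t hs ht
    obtain ⟨g, hg⟩ := Cfsg.Agent.Lib.PSL2Torus.conj_inv h2 e (HoltZ.OneClass.sq_ne hs).2 (HoltZ.OneClass.sq_ne hs).1
      (HoltZ.OneClass.sq_ne ht).2 (HoltZ.OneClass.sq_ne ht).1
    exact ⟨g, hg.symm⟩
  obtain ⟨P, hP⟩ := h.exists_sylow
  by_cases hPc : IsMulCommutative (P : Subgroup F)
  swap
  · exact Or.inl (exists_index_two t h.ord S h.tS htc F h.dp (DF.of_one hone P hPc))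
  by_cases hno : ∃ H : Subgroup G, H.index = 2 ∧ t ∉ H
  · exact Or.inl hno
  right
  -- fusion
  obtain ⟨g, -, hgF, -⟩ := (exists_or_exists t h.ord S h.tS htc F h.dp).resolve_left hno
  -- `S` is abelian
  have hFab : ∀ a ∈ F, ∀ b ∈ F, a ∈ (S : Subgroup G) → b ∈ (S : Subgroup G) → a * b = b * a := by
    intro a ha b hb haS hbS
    have h1 := hPc.is_comm.comm ⟨⟨a, ha⟩, (hP _).2 haS⟩ ⟨⟨b, hb⟩, (hP _).2 hbS⟩
    exact congrArg Subtype.val (congrArg Subtype.val h1)
  have hab : ∀ a ∈ (S : Subgroup G), ∀ b ∈ (S : Subgroup G), a * b = b * a := by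
    have key : ∀ a ∈ F, ∀ b ∈ (S : Subgroup G), a ∈ (S : Subgroup G) → a * b = b * a := by
      intro a ha b hb haS
      rcases h.half' b (h.sc hb) with h1 | h1
      · exact hFab a ha b h1 haS hb
      · have h3 := hFab a ha (t * b) h1 haS (mul_mem h.tS hb)
        have h4 := htc a haS
        have h5 : t * (a * b) = t * (b * a) := by
          rw [← mul_assoc, ← h4, mul_assoc, h3, mul_assoc]
        exact mul_left_cancel h5
    intro a ha b hb
    rcases h.half' a (h.sc ha) with h1 | h1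
    · exact key a h1 b hb ha
    · have h3 := key (t * a) h1 b hb (mul_mem h.tS ha)
      have h4 := htc b hb
      have h5 : t * (a * b) = t * (b * a) := by
        rw [← mul_assoc, h3, ← mul_assoc, h4, mul_assoc]
      exact mul_left_cancel h5
  obtain ⟨K', _, _, t', F', P', hs, h', ⟨e'⟩, hab'⟩ := h.exists_simple' hno ⟨g, hgF⟩ hab
  obtain ⟨e₁⟩ := h'.iso
  have hq : 3 ≤ Fintype.card K := by
    have h3 : 1 < Fintype.card K := Fintype.one_lt_card
    rcases Nat.lt_or_ge 2 (Fintype.card K) with h4 | h4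
    · exact h4
    · exfalso
      have h5 : Fintype.card K = 2 := by omega
      have h6 : ((Fintype.card K : ℕ) : K) = 0 := FiniteField.cast_card_eq_zero K
      rw [h5] at h6
      exact h2 (by exact_mod_cast h6)
  have hab2 : ∀ P : Sylow 2 K', ∀ a b : P, a * b = b * a := by
    intro Q a b
    obtain ⟨x, hx⟩ := MulAction.exists_smul_eq K' Q P'
    have h1 : ∀ c ∈ (Q : Subgroup K'), x * c * x⁻¹ ∈ (P' : Subgroup K') := by
      intro c hc
      rw [← hx, Sylow.coe_subgroup_smul]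
      exact ⟨c, hc, rfl⟩
    have h3 := hab' _ (h1 a a.2) _ (h1 b b.2)
    apply Subtype.ext
    change (a : K') * b = b * a
    have h4 : x * (a * b) * x⁻¹ = x * (b * a) * x⁻¹ := by
      calc x * (a * b : K') * x⁻¹ = (x * a * x⁻¹) * (x * b * x⁻¹) := by group
        _ = (x * b * x⁻¹) * (x * a * x⁻¹) := h3
        _ = _ := by group
    exact mul_left_cancel (mul_right_cancel h4)
  have hC : Nonempty (Subgroup.centralizer ({t'} : Set K') ≃* Multiplicative (ZMod 2) ×
      Matrix.ProjectiveSpecialLinearGroup (Fin 2) K) :=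
    ⟨e₁.trans (MulEquiv.prodCongr (MulEquiv.refl _) (e'.symm.trans e))⟩
  rcases Cfsg.Agent.S0343.result hab2 hq t' h'.ord hC with ⟨m, hm, hcard, -⟩ | ⟨h4 | h5, -⟩
  · exact Or.inr ⟨m, hm, hcard⟩
  · exfalso
    have h6 : ((Fintype.card K : ℕ) : K) = 0 := FiniteField.cast_card_eq_zero K
    rw [h4] at h6
    apply h2
    have h7 : (2 : K) * 2 = 0 := by
      have : ((4 : ℕ) : K) = 2 * 2 := by norm_num
      rw [← this]; exact h6
    rcases mul_eq_zero.1 h7 with h8 | h8 <;> exact h8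
  · left
    obtain ⟨e5⟩ := Cfsg.Agent.S0253.result h5
    exact ⟨e.trans e5⟩

/-- one class of involutions in the Ree groups (copy of helper69's `HoltZ.OneRee`) -/
theorem one_ree_model {F : Type*} [Field F] [Fintype F] {m : ℕ} (hm : 1 ≤ m)
    (hF : Fintype.card F = 3 ^ (2 * m + 1)) : HoltZ.OneClass.OneInv ↥(Cfsg.Lie.twistedG2 F (3 ^ m)) := by
  have hchar := Cfsg.Agent.S1157.charP_three hF
  obtain ⟨a, haH, ha1, ha2⟩ := Cfsg.Agent.S1157.exists_involution hF
  obtain ⟨⟨e⟩, hS⟩ := Cfsg.Agent.S1152.result hF a haH ha1 ha2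
  have hc := LieRecognition.ReeCent.centData ha1 ha2 e LieRecognition.ReePSL.klein
  exact HoltZ.OneClass.OneInv.of_base a fun t ht ht1 =>
    LieRecognition.ReeInv.isConj_involution hc LieRecognition.ReePSL.klein (Cfsg.Agent.S1116.result hF hm) hS ht1 ht

/-- the Ree groups -/
theorem Sit.ree (h : Sit t F S) (hR : Lie.IsoRee F) : ∃ H : Subgroup G, H.index = 2 ∧ t ∉ H := by
  have htc : ∀ s ∈ (S : Subgroup G), s * t = t * s := fun s hs => mem_centralizer_singleton_iff.1 (h.sc hs)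
  rcases exists_or_exists t h.ord S h.tS htc F h.dp with h1 | ⟨g, hg, hgF, -⟩
  · exact h1
  exfalso
  obtain ⟨K, _, _, m, hm, hK, ⟨e⟩⟩ := hR
  refine h.false_of_eight ⟨g, hg, hgF⟩ ?_ (HoltZ.OneClass.OneInv.congr e (one_ree_model hm hK))
  have hchar := Cfsg.Agent.S1157.charP_three hK
  obtain ⟨a, haH, ha1, ha2⟩ := Cfsg.Agent.S1157.exists_involution hK
  obtain ⟨-, hS⟩ := Cfsg.Agent.S1152.result hK a haH ha1 ha2
  have : Fact (Nat.Prime 2) := ⟨Nat.prime_two⟩
  intro P
  have hfin : Finite ↥(Cfsg.Lie.twistedG2 K (3 ^ m)) := Finite.of_equiv _ e.toEquiv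
  obtain ⟨h8, hx⟩ := hS (P.mapSurjective (f := e.toMonoidHom) e.surjective)
  constructor
  · rw [← h8]
    exact Nat.card_congr ((P : Subgroup F).equivMapOfInjective e.toMonoidHom e.injective).toEquiv
  · intro x hxP
    apply e.injective
    rw [map_mul, map_one]
    exact hx (e x) ⟨x, hxP, rfl⟩

end Cfsg.Agent.H315.SqC.Ab
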