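import Cfsg.Agent.H315.Sq
import Cfsg.Agent.HoltZ.Psp

/-!
# Symplectic groups: `DF (PSp m F)`, `m ≥ 2`, `|F|` odd (helper315, for S3226)
-/

set_option autoImplicit false

namespace Cfsg.Agent.H315.SqC.Psp

open Matrix Subgroup Cfsg Cfsg.Agent.ClassicalGeometry.SympBasic Cfsg.Agent.HoltZ.Psp Cfsg.Agent.H315.SqC

variable {F : Type*} [Field F] {m : ℕ}

local notation "V" => (Fin m ⊕ Fin m → F)
local notation "G" => Matrix.symplecticGroup (Fin m) F
local notation "SL" => Matrix.SpecialLinearGroup (Fin 2) F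

theorem qa_sq : (qa : SL) * qa = -1 := by
  apply Subtype.ext
  change (!![0, 1; -1, 0] : Matrix (Fin 2) (Fin 2) F) * !![0, 1; -1, 0] = -1
  ext i j
  fin_cases i <;> fin_cases j <;> simp

/-- a block scalar involution is a square in its centralizer -/
theorem mem_of_dg {t : G} {e : Fin m → F} (he : Dg t e) (he' : ∀ i, e i * e i = 1) : t ∈ Sq t := by
  classical
  have h1 : ∀ i, e i = 1 ∨ e i = -1 := by
    intro i
    have h1 : (e i - 1) * (e i + 1) = 0 := by linear_combination he' i
    rcases mul_eq_zero.1 h1 with h | h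
    · exact Or.inl (sub_eq_zero.1 h)
    · exact Or.inr (eq_neg_of_add_eq_zero_left h)
  obtain ⟨g, hg⟩ : ∃ g : Fin m → SL, g = fun i => if e i = 1 then 1 else qa := ⟨_, rfl⟩
  have h2 : t = blk g * blk g := by
    rw [← map_mul]
    refine ext_mulVec fun v => ?_
    rw [blk_mulVec]
    ext (i | i)
    · rw [he.inl, bf_inl, Pi.mul_apply, hg]
      by_cases hi : e i = 1
      · simp [hi]
      · have hi' := (h1 i).resolve_left hi
        rw [hi'] at hi
        simp only [hi', if_neg hi]
        rw [qa_sq]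
        simp
    · rw [he.inr, bf_inr, Pi.mul_apply, hg]
      by_cases hi : e i = 1
      · simp [hi]
      · have hi' := (h1 i).resolve_left hi
        rw [hi'] at hi
        simp only [hi', if_neg hi]
        rw [qa_sq]
        simp
  have h3 := sq_mem (he.comm_blk g)
  rw [← h2] at h3
  exact h3

/-- **`DF` for the symplectic groups.** -/
theorem df [Finite F] (h2 : (2 : F) ≠ 0) (hm : 2 ≤ m) : DF (PSp m F) := by
  have := Fintype.ofFinite F
  obtain ⟨x, y, hxy⟩ := HoltZ.exists_sq_add_sq h2 (-1)
  refine of_position (((Subgroup.pi Set.univ (fun _ : Fin m => Q hxy)).map (blk (m := m))).map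
    (QuotientGroup.mk' (center G))) ((isPGroup_Q hxy).map _) ?_
  intro s _ hc
  obtain ⟨t, rfl⟩ := QuotientGroup.mk'_surjective (center G) s
  obtain ⟨e, he, he'⟩ := exists_dg h2 hm hxy (z := t) (fun i g hg =>
    exists_scalar (by omega) (hc _ (mem_map_of_mem _ (mulSingle_mem hxy i hg))))
  exact map_mem (QuotientGroup.mk' (center G)) (mem_of_dg he he')

end Cfsg.Agent.H315.SqC.Psp
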