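import Cfsg.Agent.H315.Sq
import Cfsg.Agent.Mrg.Omega.Lie.CenTwist

/-!
# `DF` for groups with a root group datum with long root data (helper315, for S3226)
-/

set_option autoImplicit false
set_option linter.unusedSectionVars false

namespace Cfsg.Agent.H315.SqC.Exc

open CoxeterSystem Cfsg.Agent.ChevalleyStructure.CoxeterGeom Cfsg.Agent.Tits.Roots Cfsg.Agent.Tits.Core
  Cfsg.Agent.Nodes.Reps Cfsg.Agent.Nodes.BNOf Cfsg.Agent.Nodes.Bruhat Cfsg.Agent.Nodes.NormalForm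
  Cfsg.Agent.Omega.Lie.CenSL Cfsg.Agent.Omega.Lie.CenExp Cfsg.Agent.Omega.Lie.CenRGD
open Cfsg Cfsg.Agent.H315.SqC

variable {I W Y F ι : Type*} [Fintype I] [DecidableEq I] [Group W] [Group Y] [Field F] {M : CoxeterMatrix I}
  {cs : CoxeterSystem M W} {A : I → I → ℤ} {h : IsCartan M A} {p : ℕ} {T : Subgroup Y} {n : I → Y}
  {X : (I → ℤ) → Subgroup Y} {LR : Set (I → ℤ)} {e : (I → ℤ) → F → Y} {φ : (I → ℤ) → SL2 F →* Y}
  {ζ : (I → ℤ) → (I → ℤ) → ZMod 2} {w₀ : W} {β : ι → (I → ℤ)}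

theorem orderOf_odd_X [Finite W] [Finite Y] [Fact p.Prime] (R : RGD cs h p T n X) (hp2 : p ≠ 2) {y : I → ℤ}
    (hy : IsRoot cs h y) {u : Y} (hu : u ∈ X y) : Odd (orderOf u) := by
  obtain ⟨k, hk⟩ := R.pgrp' hy ⟨u, hu⟩
  have hk' : u ^ p ^ k = 1 := congrArg Subtype.val hk
  have h1 : orderOf u ∣ p ^ k := orderOf_dvd_of_pow_eq_one hk'
  have h2 : Odd p := (Fact.out : p.Prime).odd_of_ne_two hp2
  exact (h2.pow).of_dvd_nat h1

theorem neg_isRoot {y : I → ℤ} (L : Long cs h T n X LR e φ ζ) (hy : y ∈ LR) : IsRoot cs h (-y) := L.root _ (L.neg y hy)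

theorem zz_mem_Sq [Finite W] [Finite Y] [Fact p.Prime] (R : RGD cs h p T n X) (L : Long cs h T n X LR e φ ζ)
    (hp2 : p ≠ 2) {u : Y} {ε : (I → ℤ) →+ ZMod 2}
    (hε : ∀ y, IsRoot cs h y → ∀ a ∈ X y, u * a * u⁻¹ = if ε y = 0 then a else a⁻¹) {x : I → ℤ} (hx : x ∈ LR)
    (h0 : ε x = 0) : zz e x ∈ Sq u := by
  have key : ∀ y, y ∈ LR → ε y = 0 → ∀ b, e y b ∈ Sq u := by
    intro y hy hy0 b
    have h1 := hε y (L.root y hy) _ (L.memX y hy b)
    rw [if_pos hy0, mul_inv_eq_iff_eq_mul] at h1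
    exact odd_mem h1.symm (orderOf_odd_X R hp2 (L.root y hy) (L.memX y hy b))
  have h1 := key x hx h0
  have h2 := key (-x) (L.neg x hx) (by rw [map_neg, h0, neg_zero])
  unfold zz
  exact mul_mem (mul_mem (mul_mem (h1 _) (h2 _)) (h1 _)) (mul_mem (mul_mem (h1 _) (h2 _)) (h1 _))

/-- `u ∈ T` is a product of the central involutions of long root `SL₂`s centralised by `u` -/
theorem mem_Sq_of [Finite W] [Finite Y] [Fact p.Prime] (R : RGD cs h p T n X) (L : Long cs h T n X LR e φ ζ)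
    (hp2 : p ≠ 2) {u : Y} (huT : u ∈ T) (huu : u * u = 1) {ε : (I → ℤ) →+ ZMod 2}
    (hε : ∀ y, IsRoot cs h y → ∀ a ∈ X y, u * a * u⁻¹ = if ε y = 0 then a else a⁻¹) (xs : List (I → ℤ))
    (hxs : ∀ x ∈ xs, x ∈ LR ∧ ε x = 0) (hsum : ∀ y, IsRoot cs h y → ε y = (xs.map fun x => ζ x y).sum) : u ∈ Sq u := by
  have key : ∀ xs : List (I → ℤ), (∀ x ∈ xs, x ∈ LR ∧ ε x = 0) → ∃ w ∈ Sq u, w ∈ T ∧ w * w = 1 ∧
      ∀ y, IsRoot cs h y → ∀ a ∈ X y, w * a * w⁻¹ = if (xs.map fun x => ζ x y).sum = 0 then a else a⁻¹ := by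
    intro xs
    induction xs with
    | nil =>
      intro _
      refine ⟨1, one_mem _, one_mem _, one_mul 1, fun y _ a _ => ?_⟩
      simp
    | cons x xs ih =>
      intro hx
      obtain ⟨w, h1, h2, h3, h4⟩ := ih fun z hz => hx z (List.mem_cons_of_mem _ hz)
      obtain ⟨hxL, hx0⟩ := hx x List.mem_cons_self
      refine ⟨zz e x * w, mul_mem (zz_mem_Sq R L hp2 hε hxL hx0) h1, mul_mem (L.zT x hxL) h2, ?_, fun y hy a ha => ?_⟩
      · calc zz e x * w * (zz e x * w) = zz e x * (w * zz e x) * w := by group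
          _ = zz e x * (zz e x * w) * w := by rw [L.tcomm w h2 _ (L.zT x hxL)]
          _ = (zz e x * zz e x) * (w * w) := by group
          _ = 1 := by rw [zz_sq L hxL, h3, one_mul]
      · have h5 : zz e x * w * a * (zz e x * w)⁻¹ = zz e x * (w * a * w⁻¹) * (zz e x)⁻¹ := by group
        rw [h5, h4 y hy a ha, List.map_cons, List.sum_cons]
        have h6 := L.zact x hxL y hy a ha
        have key2 : ∀ s t : ZMod 2, (s + t = 0 ↔ (s = 0 ↔ t = 0)) := by decide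
        by_cases hs : (xs.map fun x => ζ x y).sum = 0
        · rw [if_pos hs, h6]
          by_cases hz : ζ x y = 0
          · rw [if_pos hz, if_pos (by rw [hz, hs, add_zero])]
          · rw [if_neg hz, if_neg (by rw [key2]; tauto)]
        · rw [if_neg hs]
          have h7 : zz e x * a⁻¹ * (zz e x)⁻¹ = (zz e x * a * (zz e x)⁻¹)⁻¹ := by group
          rw [h7, h6]
          by_cases hz : ζ x y = 0
          · rw [if_pos hz, if_neg (by rw [key2]; tauto)]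
          · rw [if_neg hz, if_pos (by rw [key2]; tauto), inv_inv]
  obtain ⟨w, h1, h2, h3, h4⟩ := key xs hxs
  have h5 : u * w = 1 := by
    refine L.cen _ (mul_mem huT h2) ?_ fun y hy a ha => ?_
    · calc u * w * (u * w) = u * (w * u) * w := by group
        _ = u * (u * w) * w := by rw [L.tcomm w h2 u huT]
        _ = (u * u) * (w * w) := by group
        _ = 1 := by rw [huu, h3, one_mul]
    · have h5 : u * w * a * (u * w)⁻¹ = u * (w * a * w⁻¹) * u⁻¹ := by group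
      rw [h5, h4 y hy a ha, ← hsum y hy]
      by_cases h0 : ε y = 0
      · rw [if_pos h0, hε y hy a ha, if_pos h0]
      · have h7 : u * a⁻¹ * u⁻¹ = (u * a * u⁻¹)⁻¹ := by group
        rw [if_neg h0, h7, hε y hy a ha, if_neg h0, inv_inv]
  rw [eq_inv_of_mul_eq_one_left h5]
  exact inv_mem (by rw [← eq_inv_of_mul_eq_one_left h5]; exact h1)

/-- the 2-subgroup `E` of `CenRGD.oneInv_of` -/
theorem exists_E' [Finite W] [Finite Y] [Finite F] [Fact p.Prime] [Nonempty ι] (R : RGD cs h p T n X)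
    (L : Long cs h T n X LR e φ ζ) (C : Comb cs h LR ζ w₀ β) (hp2 : p ≠ 2) (h2 : (2 : F) ≠ 0) (hG : GG cs h T X = ⊤)
    (hcomm : ∀ j k, j ≠ k → ∀ N N', φ (β j) N * φ (β k) N' = φ (β k) N' * φ (β j) N) :
    ∃ E : Subgroup Y, IsPGroup 2 E ∧ (∀ x ∈ LR, zz e x ∈ E) ∧ (∃ n' ∈ E, Rp cs R.nsys w₀ n') ∧
      ∀ j, ∃ x₁ y₁ : SL2 F, x₁ * y₁ ≠ y₁ * x₁ ∧ φ (β j) x₁ ∈ E ∧ φ (β j) y₁ ∈ E := by
  -- the 2-element over a power of `w₀`
  obtain ⟨k₀, hk₀⟩ := exists_rp cs R.nsys w₀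
  obtain ⟨s, hs⟩ := C.pow
  obtain ⟨a, m, hm2, hm⟩ := Nat.exists_eq_two_pow_mul_odd (orderOf_pos k₀).ne'
  set n₀ : Y := k₀ ^ m with hn₀
  have hn₀R : Rp cs R.nsys (w₀ ^ m) n₀ := rp_pow hk₀ m
  have hn₀2 : n₀ ^ 2 ^ a = 1 := by
    rw [hn₀, ← pow_mul, mul_comm, ← hm, pow_orderOf_eq_one]
  obtain ⟨m', hm'⟩ : ∃ m', (w₀ ^ m) ^ m' = w₀ := by
    have hco : Nat.Coprime m (orderOf w₀) := by
      have h3 : orderOf w₀ ∣ 2 ^ s := orderOf_dvd_of_pow_eq_one hs
      exact Nat.Coprime.coprime_dvd_right h3 (Nat.Coprime.pow_right s hm2.coprime_two_right)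
    exact exists_pow_eq_self_of_coprime hco
  have hn' : Rp cs R.nsys w₀ (n₀ ^ m') := by
    have := rp_pow hn₀R m'
    rwa [hm'] at this
  -- the group generated by the central involutions
  set S : Set Y := zz e '' LR with hS
  have hSinv : ∀ {w : W} {g : Y}, Rp cs R.nsys w g → ∀ z ∈ Subgroup.closure S, g * z * g⁻¹ ∈ Subgroup.closure S := by
    intro w g hg z hz
    have h3 : Subgroup.closure S ≤ (Subgroup.closure S).comap (MulAut.conj g).toMonoidHom := by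
      rw [Subgroup.closure_le]
      rintro _ ⟨x, hx, rfl⟩
      show g * zz e x * g⁻¹ ∈ Subgroup.closure S
      rw [conj_zz R L hg hx]
      exact Subgroup.subset_closure ⟨_, L.act w x hx, rfl⟩
    exact h3 hz
  have hZT : Subgroup.closure S ≤ T := by
    rw [Subgroup.closure_le]
    exact S_sub L
  have hZ2 : ∀ z ∈ Subgroup.closure S, z * z = 1 := by
    intro z hz
    induction hz using Subgroup.closure_induction with
    | mem z hz =>
      obtain ⟨x, hx, rfl⟩ := hz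
      exact zz_sq L hx
    | one => exact one_mul 1
    | mul a b ha hb iha ihb =>
      have h3 := L.tcomm a (hZT ha) b (hZT hb)
      have h4 : a * b * (a * b) = (a * a) * (b * b) := by
        calc a * b * (a * b) = a * (b * a) * b := by group
          _ = a * (a * b) * b := by rw [h3]
          _ = _ := by group
      rw [h4, iha, ihb, one_mul]
    | inv a ha iha =>
      have h4 : a⁻¹ * a⁻¹ = (a * a)⁻¹ := by group
      rw [h4, iha, inv_one]
  have hZp : IsPGroup 2 (Subgroup.closure S) := by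
    rintro ⟨z, hz⟩
    refine ⟨1, Subtype.ext ?_⟩
    show z ^ 2 ^ 1 = 1
    rw [pow_one, pow_two, hZ2 z hz]
  have hnp : IsPGroup 2 (Subgroup.zpowers n₀) := by
    rintro ⟨z, k, rfl⟩
    refine ⟨a, Subtype.ext ?_⟩
    show (n₀ ^ k) ^ 2 ^ a = 1
    rw [← zpow_natCast, ← zpow_mul, mul_comm, zpow_mul]
    have : n₀ ^ ((2 ^ a : ℕ) : ℤ) = 1 := by rw [zpow_natCast, hn₀2]
    rw [this, one_zpow]
  have hR2 : IsPGroup 2 (Subgroup.closure S ⊔ Subgroup.zpowers n₀ : Subgroup Y) := by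
    refine IsPGroup.to_sup_of_normal_left' hZp hnp ?_
    rw [Subgroup.zpowers_le]
    exact mem_normalizer_of_cj_le (fun y hy => by
      rw [mem_cj] at hy
      have h3 := hSinv hn₀R _ hy
      have h4 : n₀ * (n₀⁻¹ * y * n₀) * n₀⁻¹ = y := by group
      rwa [h4] at h3)
  set K : Subgroup Y := ⨆ j, (φ (β j)).range with hK
  have hRK : (Subgroup.closure S ⊔ Subgroup.zpowers n₀ : Subgroup Y) ≤ Subgroup.normalizer (K : Set Y) := by
    refine sup_le ?_ ?_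
    · rw [Subgroup.closure_le]
      rintro _ ⟨x, hx, rfl⟩
      refine norm_of_perm R L C (rp_of_mem (L.zT x hx)) fun j => ⟨j, Or.inl ?_⟩
      rw [map_one, Module.End.one_apply]
    · rw [Subgroup.zpowers_le]
      exact norm_of_perm R L C hn₀R (perm_pow C m)
  obtain ⟨E, hE2, hRE, hE⟩ := exists_sylow hRK hR2
  refine ⟨E, hE2, (fun x hx => hRE (Subgroup.mem_sup_left
    (Subgroup.subset_closure ⟨x, hx, rfl⟩))), ⟨n₀ ^ m', hRE (Subgroup.mem_sup_right
    (Subgroup.npow_mem_zpowers n₀ m')), hn'⟩, fun j => ?_⟩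
  obtain ⟨x, y, hxy, hp'⟩ := exists_pair h2
  have hDK : (Subgroup.closure {x, y}).map (φ (β j)) ≤ K := by
    rintro _ ⟨z, -, rfl⟩
    exact (le_iSup (fun j => (φ (β j)).range) j) ⟨z, rfl⟩
  obtain ⟨l, hl, hlD⟩ := hE _ hDK (hp'.map _)
  have hnorm : K ≤ Subgroup.normalizer ((φ (β j)).range : Set Y) := by
    rw [hK]
    refine iSup_le fun k => ?_
    by_cases hjk : j = k
    · subst hjk; exact Subgroup.le_normalizer
    · rintro _ ⟨N', rfl⟩
      rw [Subgroup.mem_normalizer_iff]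
      intro z
      constructor
      · rintro ⟨N, rfl⟩
        rw [← hcomm j k hjk, mul_inv_cancel_right]
        exact ⟨N, rfl⟩
      · rintro ⟨N, hN⟩
        have h3 : z = (φ (β k) N')⁻¹ * φ (β j) N * φ (β k) N' := by rw [hN]; group
        rw [h3, mul_assoc, hcomm j k hjk, inv_mul_cancel_left]
        exact ⟨N, rfl⟩
  have key : ∀ z ∈ Subgroup.closure {x, y}, ∃ z' : SL2 F, l * φ (β j) z * l⁻¹ = φ (β j) z' ∧ φ (β j) z' ∈ E := by
    intro z hz
    obtain ⟨z', hz'⟩ := (Subgroup.mem_normalizer_iff.1 (hnorm hl) (φ (β j) z)).1 ⟨z, rfl⟩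
    exact ⟨z', hz'.symm, by rw [hz']; exact hlD _ ⟨z, hz, rfl⟩⟩
  obtain ⟨x', hx', hxE⟩ := key x (Subgroup.subset_closure (Set.mem_insert _ _))
  obtain ⟨y', hy', hyE⟩ := key y (Subgroup.subset_closure (Set.mem_insert_of_mem _ rfl))
  refine ⟨x', y', fun h3 => hxy ?_, hxE, hyE⟩
  apply L.inj _ (C.mem j)
  have h4 : φ (β j) x' * φ (β j) y' = φ (β j) y' * φ (β j) x' := by rw [← map_mul, h3, map_mul]
  rw [← hx', ← hy'] at h4
  rw [map_mul, map_mul]
  have h5 : φ (β j) x * φ (β j) y = l⁻¹ * (l * φ (β j) x * l⁻¹ * (l * φ (β j) y * l⁻¹)) * l := by group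
  rw [h5, h4]; group


/-- the 2-central sign vector is a sum of rows `ζ x` with `ε x = 0` -/
def Spn (cs : CoxeterSystem M W) {A : I → I → ℤ} (h : IsCartan M A) (LR : Set (I → ℤ))
    (ζ : (I → ℤ) → (I → ℤ) → ZMod 2) (w₀ : W) (β : ι → (I → ℤ)) : Prop :=
  ∀ ε : (I → ℤ) →+ ZMod 2, (∀ j, ε (β j) = 0) → (∀ y, IsRoot cs h y → ε (rep cs h w₀ y) = ε y) →
    (¬ ∀ y, IsRoot cs h y → ε y = 0) →
    ∃ xs : List (I → ℤ), (∀ x ∈ xs, x ∈ LR ∧ ε x = 0) ∧ ∀ y, IsRoot cs h y → ε y = (xs.map fun x => ζ x y).sum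

/-- **`DF` for a group with long root data.** -/
theorem df_of_rgd [Finite W] [Finite Y] [Finite F] [Fact p.Prime] [Nonempty ι] (R : RGD cs h p T n X)
    (L : Long cs h T n X LR e φ ζ) (C : Comb cs h LR ζ w₀ β) (hp2 : p ≠ 2) (h2 : (2 : F) ≠ 0) (hG : GG cs h T X = ⊤)
    (hcomm : ∀ j k, j ≠ k → ∀ N N', φ (β j) N * φ (β k) N' = φ (β k) N' * φ (β j) N)
    (hsp : Spn cs h LR ζ w₀ β) : DF Y := by
  obtain ⟨E, hE2, hS, ⟨n', hn'E, hn'⟩, hQ⟩ := exists_E' R L C hp2 h2 hG hcomm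
  refine of_position E hE2 ?_
  intro u hu hc
  have hu2 : u * u = 1 := by rw [← pow_two, ← hu.1]; exact pow_orderOf_eq_one u
  have hu1 : u ≠ 1 := by
    rintro rfl
    have := hu.1
    rw [orderOf_one] at this
    omega
  have hcS : u ∈ Subgroup.centralizer (zz e '' LR) := by
    rw [Subgroup.mem_centralizer_iff]
    rintro _ ⟨x, hx, rfl⟩
    exact hc _ (hS x hx)
  obtain ⟨w, hw, hw'⟩ := mem_cent R L hp2 C hG hcS
  rcases hw' with rfl | hw'
  · have huT : u ∈ T := hw.mem_of_one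
    obtain ⟨ε, h3, h4, h5⟩ := sign_of R L C hp2 h2 huT hu2 (fun j => by
      obtain ⟨x₁, y₁, hxy, hx, hy⟩ := hQ j
      exact ⟨x₁, y₁, hxy, hc _ hx, hc _ hy⟩) hn' (hc _ hn'E)
    obtain ⟨xs, h6, h7⟩ := hsp ε h3 h4 fun h0 => hu1 (L.cen u huT hu2 fun y hy a ha => by
      rw [h5 y hy a ha, if_pos (h0 y hy)])
    exact mem_Sq_of R L hp2 huT hu2 h5 xs h6 h7
  · exfalso
    obtain ⟨j⟩ := ‹Nonempty ι›
    obtain ⟨x₁, y₁, hxy, hx, hy⟩ := hQ j
    exact hxy (swap_case R L hw (C.mem j) (hw' _ (C.mem j)) (hc _ hx) (hc _ hy))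

end Cfsg.Agent.H315.SqC.Exc
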